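import Cfsg.Agent.SF.K
import Cfsg.Agent.H6.FF6

/-! The 2-local structure; the centralizer of an involution does not involve `Sz(q)`. -/

set_option autoImplicit false
set_option linter.unusedSectionVars false

namespace SF

open Cfsg Subgroup FT H4 BS
open scoped commutatorElement

universe u

section Gen
variable {G : Type u} [Group G] [Finite G]

theorem hup0 {A H K : Subgroup G} (hA : Ab A) (h2 : IsPGroup 2 A) (hH : H ≤ Nor A)
    (ho : Odd (Nat.card H)) (hf : H ⊓ Cen A = ⊥) (hK : K ≤ H) (ab : Ab K)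
    (tr : ∀ a ∈ A, ∀ b ∈ A, a ≠ 1 → b ≠ 1 → ∃ k ∈ K, k * a * k⁻¹ = b)
    (hc : Nat.card K + 1 = Nat.card A) {r : ℕ} [hr : Fact r.Prime] (h0 : pCoreIn r H ≠ ⊥) :
    pCoreIn r H ≤ K := by
  have r2 : r ≠ 2 := by
    rintro rfl
    obtain ⟨c, m1, m2⟩ := (bot_or_exists_ne_one _).resolve_left h0
    exact m2 (eq_one_of_two_odd (isPGroup_pCoreIn 2 H) m1
      (odd_orderOf_of_mem ho (pCoreIn_le _ _ m1)))
  obtain ⟨S, hS⟩ := H5.exists_isSylowOf r K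
  have n1 := hK.trans (le_normalizer_pCoreIn r H)
  have hY := (isPGroup_pCoreIn r H).to_sup_of_normal_left' hS.isPGroup (hS.le.trans n1)
  have YH : pCoreIn r H ⊔ S ≤ H := sup_le (pCoreIn_le _ _) (hS.le.trans hK)
  have n2 : K ≤ Nor (pCoreIn r H ⊔ S) := H5.le_normalizer_sup n1
    (le_normalizer_of_le_centralizer fun k hk => cen_iff.mpr fun a ha => ab k hk a (hS.le ha))
  have sr := appI_semireg r2 (ab_iff.mp hA) hY (YH.trans hH) (H5.coprime_card_of_isPGroup h2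
    (odd_of_le ho YH).not_two_dvd_nat).symm (eq_bot_iff.mpr (hf ▸ inf_le_inf_right _ YH))
    fun a ha b hb a1 b1 => by
      obtain ⟨k, hk, rfl⟩ := tr a ha b hb a1 b1
      rw [← conjS_cen1, ← card_conjS k, conjS_inf, mem_normalizer_iff_conjS.mp (n2 hk)]
  have d := card_dvd_of_fpf (X := pCoreIn r H ⊔ S) (S := {a | a ∈ A ∧ a ≠ 1})
    (fun g hg z hz => ⟨conj_mem (hH (YH hg)) hz.1, conj_ne_one hz.2⟩) fun g hg z hz e =>
      by_contra fun g1 => hz.2 (sr.eq_one hz.1 hg g1 e.symm)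
  rw [Nat.add_right_cancel ((ncard_ne_one A).trans hc.symm), card_eq_relIndex hS.le] at d
  obtain ⟨i, hi⟩ := IsPGroup.iff_card.mp hY
  refine le_sup_left.trans ((eq_of_le_card le_sup_right (Nat.le_of_dvd Nat.card_pos
    (Nat.Coprime.dvd_of_dvd_mul_left ?_ d))).ge.trans hS.le)
  rw [hi]
  exact ((Nat.Prime.coprime_iff_not_dvd hr.out).mpr hS.not_dvd).pow_left i

theorem hup {A H K : Subgroup G} (hA : Ab A) (h2 : IsPGroup 2 A) (hH : H ≤ Nor A)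
    (ho : Odd ((Cen A).relIndex H)) (hK : K ≤ H) (ab : Ab K) (hf : K ⊓ Cen A = ⊥)
    (tr : ∀ a ∈ A, ∀ b ∈ A, a ≠ 1 → b ≠ 1 → ∃ k ∈ K, k * a * k⁻¹ = b)
    (hc : Nat.card K + 1 = Nat.card A) (h0 : K ≠ ⊥) : ∃ k ∈ K, k ≠ 1 ∧
      (∃ r i : ℕ, r.Prime ∧ k ^ r ^ i = 1) ∧ ∀ g ∈ H, ∃ k' ∈ K, k'⁻¹ * (g * k * g⁻¹) ∈ Cen A := by
  obtain ⟨Γ, _, _, j, ι, h⟩ := H6.exists_hol (ab_iff.mp hA)
  have KN := hK.trans hH
  have c1 := H5.card_im_of_disjoint h.ker KN hf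
  have o1 : Odd (Nat.card (H5.im ι H)) := by
    have := H5.card_eq_card_im_mul h.ker hH
    rw [card_eq_relIndex (inf_le_left (b := Cen A)), inf_relIndex_left] at this
    rwa [← Nat.eq_of_mul_eq_mul_right Nat.card_pos this]
  obtain ⟨r, hr, h1⟩ := BS.exists_pCoreIn_ne_bot (odd_solvable o1) fun e => h0 (card_eq_one.mp (by
    rw [← c1, show H5.im ι K = ⊥ from eq_bot_iff.mpr (e ▸ H5.im_mono hK), card_bot]))
  have := Fact.mk hr
  have k1 := hup0 (A := j.range) (K := H5.im ι K) (by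
      rintro _ ⟨a, rfl⟩ _ ⟨b, rfl⟩
      rw [← map_mul, ← map_mul, show a * b = b * a from Subtype.ext (hA _ a.2 _ b.2)])
    (h2.of_equiv (MonoidHom.ofInjective h.inj)) (h.im_le_normalizer_range H) o1
    (h.im_inf_centralizer_range H) (H5.im_mono hK) (ab_iff.mpr (H5.isMulCommutative_im (ab_iff.mp ab)))
    (by
      rintro _ ⟨a, rfl⟩ _ ⟨b, rfl⟩ a1 b1
      obtain ⟨k, hk, e⟩ := tr a a.2 b b.2 (fun e => a1 (by rw [show a = 1 from Subtype.ext e, map_one]))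
        fun e => b1 (by rw [show b = 1 from Subtype.ext e, map_one])
      exact ⟨_, H5.mem_im_of_mem (KN hk) hk, (h.conj _ a).trans (congrArg j (Subtype.ext e))⟩)
    (by rw [c1, h.card_range, hc]) h1
  obtain ⟨c, m1, m2⟩ := (bot_or_exists_ne_one _).resolve_left h1
  obtain ⟨k, hk, rfl⟩ := k1 m1
  obtain ⟨i, hi⟩ := exists_pow_pow_of_mem (isPGroup_pCoreIn r _) m1
  refine ⟨k, hk, fun e => m2 (by rw [show k = 1 from Subtype.ext e, map_one]), ⟨r, i, hr, ?_⟩,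
    fun g hg => ?_⟩
  · rw [← map_pow, h.eq_one_iff] at hi
    exact mem_bot.mp (hf ▸ (⟨pow_mem hk _, hi⟩ : _ ∈ K ⊓ Cen A))
  · obtain ⟨k', hk', e⟩ := k1 (conj_mem (le_normalizer_pCoreIn r _ (H5.mem_im_of_mem (hH hg) hg)) m1)
    refine ⟨k', hk', h.eq_one_iff (g := k'⁻¹ * (⟨g, hH hg⟩ * k * ⟨g, hH hg⟩⁻¹)).mp ?_⟩
    rw [map_mul, map_mul, map_mul, map_inv, map_inv, e, inv_mul_cancel]

theorem syl_of_le {p : ℕ} [hp : Fact p.Prime] {S X H : Subgroup G} (h : H5.IsSylowOf p S X)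
    (hX : X ≤ H) (hd : ¬ p ∣ X.relIndex H) : H5.IsSylowOf p S H :=
  ⟨h.le.trans hX, h.isPGroup, fun e => by
    rw [← relIndex_mul_relIndex _ _ _ h.le hX] at e
    exact ((Nat.Prime.dvd_mul hp.out).mp e).elim h.not_dvd hd⟩

theorem relIndex_eq_of_card {X H : Subgroup G} (hX : X ≤ H) {n : ℕ}
    (e : Nat.card H = n * Nat.card X) : X.relIndex H = n :=
  Nat.eq_of_mul_eq_mul_right Nat.card_pos ((card_eq_relIndex hX).symm.trans e)

theorem two_of_sq {P : Subgroup G} (h : ∀ p ∈ P, p * p = 1) : IsPGroup 2 P :=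
  isPGroup_iff_forall.mpr fun p hp => ⟨1, by rw [pow_one, sq, h p hp]⟩

theorem exists_sq_mem {R Y : Subgroup G} (hR : IsPGroup 2 R) (h : ¬ R ≤ Y) :
    ∃ g ∈ R, g ∉ Y ∧ g * g ∈ Y := by
  obtain ⟨g, hg, h1⟩ := SetLike.not_le_iff_exists.mp h
  obtain ⟨k, hk⟩ := exists_pow_pow_of_mem hR hg
  have : ∃ k, g ^ 2 ^ k ∈ Y := ⟨k, hk ▸ one_mem _⟩
  classical
  have h2 := Nat.find_spec this
  obtain ⟨i, hi⟩ := Nat.exists_eq_succ_of_ne_zero (show Nat.find this ≠ 0 from fun e => h1 (by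
    simpa [e] using h2))
  exact ⟨g ^ 2 ^ i, pow_mem hg _, Nat.find_min this (by omega), by
    rwa [hi, pow_succ, pow_mul, sq] at h2⟩

theorem nor_modS {A : Subgroup G} {w g : G} (hA : A ≤ Cen1 w) (hA2 : Ab A) (hg : g ∈ modS A w) :
    g ∈ Nor (Cen A ⊓ Cen1 w) := H5.mem_normalizer_of_forall fun c hc =>
  ⟨conj_mem (mem_nor_cen hg.1) hc.1, by
    have h1 := (modS A w).inv_mem hg
    have h2 := Mc.cen_mul hc.2 (cen_iff.mp hc.1 _ h1.2).symm
    rw [mul_inv_cancel_left, ← conjS_cen1] at h2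
    simpa using mem_conjS.mp h2⟩

theorem num_sz {q k m : ℕ} (e : q = 2 ^ (2 * m + 1)) (hk : k + 1 = q) : ∃ s, q = 3 * s + 2 ∧
    q ^ 2 * (1 + (q ^ 2 + 1) * k) = q * q ^ 2 * (3 * (3 * (s * s + s) + 1)) := by
  have : q % 3 = 2 := by rw [e, pow_succ, pow_mul, Nat.mul_mod, Nat.pow_mod]; simp
  refine ⟨q / 3, by omega, ?_⟩
  obtain ⟨s, rfl⟩ : ∃ s, k = 3 * s + 1 := ⟨q / 3, by omega⟩
  rw [show q / 3 = s by omega, ← hk]; ring

end Gen

variable {G : Type u} [Group G] [Finite G] {Ω : Type*} [MulAction G Ω] [Finite Ω] {D : Set G}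

abbrev T0 (D : Set G) (w : G) (x : Ω) : Subgroup G := Cz D x ⊓ Cen1 w

abbrev Pw (D : Set G) (w : G) (x y : Ω) : Subgroup G := T0 D w x ⊓ St G y

abbrev Xm (D : Set G) (w : G) (x : Ω) : Subgroup G := St G x ⊓ modS (Ax D x) w

abbrev T1 (D : Set G) (w : G) (x : Ω) : Subgroup G := Cz D x ⊓ modS (Ax D x) w

namespace Ty
variable {w : G} {x y : Ω} {t : G} (T : Ty D w x y t)
include T

theorem Q_le_T0 : Qw D w x ≤ T0 D w x := le_inf T.Q_le_C0 (Qx_le_M _ x)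

theorem A_le_T0 : Ax D x ≤ T0 D w x := T.A_le_Q.trans T.Q_le_T0

theorem w_mem_P : w ∈ Pw D w x y := ⟨⟨T.wC, c1_iff.mpr rfl⟩, T.wy⟩

theorem T0_dec {g : G} (hg : g ∈ T0 D w x) : ∃ c ∈ Qw D w x, ∃ p ∈ Pw D w x y, g = c * p := by
  obtain ⟨c, hc, e⟩ := T.tr (comm_fix (c1_iff.mp hg.2) T.wy)
    (T.s.smul_ne (T.h.C0_le x hg.1) T.s.ne.symm)
  exact ⟨c, hc, c⁻¹ * g, ⟨(T0 D w x).mul_mem (inv_mem (T.Q_le_T0 hc)) hg,
    show _ • y = y by rw [mul_smul, ← e, inv_smul_smul]⟩, by group⟩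

theorem card_T0 : Nat.card (T0 D w x) = Nat.card (Qw D w x) * Nat.card (Pw D w x y) := by
  have e3 := Set.ncard_sdiff_singleton_add_one (show x ∈ Fx Ω w from T.wx)
  rw [T.card_line] at e3
  rw [← Nat.add_right_cancel e3]
  exact card_of_trans (fun g hg => ⟨comm_fix (c1_iff.mp hg.2) T.wy,
    T.s.smul_ne (T.h.C0_le x hg.1) T.s.ne.symm⟩) fun z hz =>
      let ⟨c, m1, m2⟩ := T.tr hz.1 hz.2
      ⟨c, T.Q_le_T0 m1, m2⟩

theorem P_cen {p : G} (hp : p ∈ Pw D w x y) : p ∈ Cen (Lw D w) := T.C_cen hp.1.1 hp.2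

theorem P_Q {p c : G} (hp : p ∈ Pw D w x y) (hc : c ∈ Qw D w x) : p * c = c * p :=
  cen_iff.mp (T.P_cen hp) c (Qx_le _ x hc).1

theorem Q_center {c : G} (hc : c ∈ Qw D w x) (e : c ∈ Cen (Qw D w x)) : c * c = 1 := by
  rcases T.cases with e1 | ⟨e1, e2, -⟩
  · exact T.f.Ax_sq c (e1 ▸ hc)
  have h0 : Q0 (Qw D w x) ≤ Qw D w x ⊓ Cen (Qw D w x) :=
    le_inf (Az_le _ x) fun a ha => cen_iff.mpr fun b hb => T.s.bd.cen0 a ha b hb
  have n := T.s.bd.K_le.trans T.s.bd.E_nor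
  obtain ⟨j, hj⟩ := T.s.bd.card_pow h0 inf_le_left
    (H4.le_normalizer_inf n fun k hk => mem_nor_cen (n hk))
  rcases j with _ | j
  · exact T.s.bd.sq0 c ((eq_of_le_card h0 (by simpa using hj.le)).ge ⟨hc, e⟩)
  · refine (e2 fun a ha b hb => cen_iff.mp ((eq_of_le_card inf_le_left ?_).ge ha).2 b hb).elim
    rw [hj, e1, T.A_eq']
    exact Nat.pow_le_pow_right Nat.card_pos (by omega)

theorem W_wa {a : G} (ha : a ∈ Ax D x) : Wv Ω (w * a) ∧ (w * a) • x = x :=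
  T.h.W_mul' T.hw T.s (T.A_eq ▸ ha)

theorem T0_wa {a : G} (ha : a ∈ Ax D x) : T0 D (w * a) x = T0 D w x := by
  ext g
  refine and_congr_right fun hg => ?_
  change g ∈ Cen1 (w * a) ↔ g ∈ Cen1 w
  rw [c1_iff, c1_iff, mul_assoc, ← cen_iff.mp hg a ha, ← mul_assoc, ← mul_assoc, mul_left_inj]

theorem eq_of_wa {a b : G} (ha : a ∈ Ax D x) (hb : b ∈ Ax D x) {z : Ω} (hz : z ≠ x)
    (e1 : (w * a) • z = z) (e2 : (w * b) • z = z) : a = b :=
  inv_mul_eq_one.mp (T.f.eq_one (mul_mem (inv_mem ha) hb) (by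
    rw [show a⁻¹ * b = (w * a)⁻¹ * (w * b) by group, mul_smul, e2, inv_fix e1]) hz.symm)

theorem P_sq {p : G} (hp : p ∈ Pw D w x y) : p * p = 1 := by
  obtain ⟨a, ha, a1⟩ := T.exists_A
  obtain ⟨y', t', T'⟩ := T.h.ty' (T.W_wa ha).1 (T.W_wa ha).2
  have hy' : w • y' ≠ y' := fun e =>
    a1 (T.eq_of_wa ha (one_mem _) T'.s.ne.symm T'.wy (by rwa [mul_one]))
  have e0 := T.T0_wa ha
  obtain ⟨c, hc, p', hp', e⟩ := T'.T0_dec (e0 ▸ hp.1)
  have k : ∀ d ∈ T0 D (w * a) x, p * d * p⁻¹ * d⁻¹ ∈ Cen (Lw D w) := fun d hd =>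
    H5.mem_of_eq (mul_mem (T.P_cen hp) (conj_mem (mem_nor_cen (T.h.nor_LL (e0 ▸ hd).2))
      (inv_mem (T.P_cen hp)))) (by group)
  have n1 := T'.h.nor_LL (D := D) (e0.ge hp.1).2
  have k1 : ∀ d ∈ Qw D (w * a) x, p * d = d * p := fun d hd =>
    commutatorElement_eq_one_iff_mul_comm.mp (T'.s.semi (mul_mem (conj_mem
      (nor_Qx n1 (T.h.C0_le x hp.1.1)) hd) (inv_mem hd)) (T.cen_fix (k d (T'.Q_le_T0 hd)) T.wy)
        T.s.ne.symm)
  have k2 : p * p' = p' * p := commutatorElement_eq_one_iff_mul_comm.mp (T.C_semi (k p' hp'.1) hy'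
    (T'.cen_fix (mul_mem (conj_mem (mem_nor_cen n1) (T'.P_cen hp')) (inv_mem (T'.P_cen hp'))) T'.wy))
  have c2 := T'.Q_center hc (cen_iff.mpr fun d hd => by
    rw [eq_mul_inv_of_mul_eq e.symm]
    exact (c1_iff.mp (mul_mem (c1_iff.mpr (k1 d hd)) (inv_mem (c1_iff.mpr (T'.P_Q hp' hd))))))
  refine T.C_semi (mul_mem (T.P_cen hp) (T.P_cen hp)) hy' ?_
  rw [e, show c * p' * (c * p') = c * (p' * c) * p' by group, T'.P_Q hp' hc, ← mul_assoc, c2, one_mul,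
    mul_smul, show p' • y' = y' from hp'.2, show p' • y' = y' from hp'.2]

theorem P_two : IsPGroup 2 (Pw D w x y) := two_of_sq fun _ => T.P_sq

theorem T0_sq {g : G} (hg : g ∈ T0 D w x) : g * g ∈ Qw D w x := by
  obtain ⟨c, hc, p, hp, rfl⟩ := T.T0_dec hg
  rw [show c * p * (c * p) = c * (p * c) * p by group, T.P_Q hp hc, mul_assoc, mul_assoc, T.P_sq hp,
    mul_one]
  exact mul_mem hc hc

theorem T0_two : IsPGroup 2 (T0 D w x) := isPGroup_iff_forall.mpr fun g hg =>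
  let ⟨k, hk⟩ := exists_pow_pow_of_mem (Qx_two _ x) (T.T0_sq hg)
  ⟨k + 1, by rw [pow_succ', pow_mul, sq, hk]⟩

theorem inv_dec {g : G} (hg : g ∈ T0 D w x) (h2 : g * g = 1) :
    ∃ a ∈ Ax D x, ∃ p ∈ Pw D w x y, a * p = g := by
  obtain ⟨c, hc, p, hp, rfl⟩ := T.T0_dec hg
  rw [show c * p * (c * p) = c * (p * c) * p by group, T.P_Q hp hc, mul_assoc, mul_assoc, T.P_sq hp,
    mul_one] at h2
  exact ⟨c, T.A_eq' ▸ T.s.bd.mem0.mpr ⟨hc, h2⟩, p, hp, rfl⟩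

theorem inv_cen {g : G} (hg : g ∈ T0 D w x) (h2 : g * g = 1) : T0 D w x ≤ Cen1 g := fun k hk => by
  obtain ⟨a, ha, p, hp, rfl⟩ := T.inv_dec hg h2
  obtain ⟨c, hc, p', hp', rfl⟩ := T.T0_dec hk
  exact c1_iff.mpr (c1_iff.mp (mul_mem (c1_iff.mpr (cen_iff.mp hk.1 a ha).symm) (c1_iff.mpr
    (c1_iff.mp (mul_mem (c1_iff.mpr (T.P_Q hp hc).symm) (c1_iff.mpr (comm_of_sq (fun _ => T.P_sq)
      hp' hp)))).symm))).symm

theorem T0_le_T1 : T0 D w x ≤ T1 D w x := fun _ hg =>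
  ⟨hg.1, mem_modS_of (cen_le_nor _ hg.1) (c1_iff.mp hg.2)⟩

theorem T1_le_X : T1 D w x ≤ Xm D w x := inf_le_inf_right _ (T.h.C0_le x)

theorem T1_sq {g : G} (hg : g ∈ T1 D w x) : g * g ∈ T0 D w x := by
  refine ⟨mul_mem hg.1 hg.1, c1_iff.mpr (mul_inv_eq_iff_eq_mul.mp ?_)⟩
  have e1 := cen_iff.mp hg.1 _ hg.2.2
  have e2 := T.f.Ax_sq _ hg.2.2
  generalize ha : w⁻¹ * (g * w * g⁻¹) = a at e1 e2
  have e3 : g * w * g⁻¹ = w * a := by rw [← ha]; group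
  calc g * g * w * (g * g)⁻¹ = g * (g * w * g⁻¹) * g⁻¹ := by group
    _ = g * (w * a) * g⁻¹ := by rw [e3]
    _ = g * w * g⁻¹ * (g * a) * g⁻¹ := by group
    _ = w * (a * a) := by rw [e3, e1]; group
    _ = w := by rw [e2, mul_one]

theorem T1_two : IsPGroup 2 (T1 D w x) := isPGroup_iff_forall.mpr fun g hg =>
  let ⟨k, hk⟩ := exists_pow_pow_of_mem T.T0_two (T.T1_sq hg)
  ⟨k + 1, by rw [pow_succ', pow_mul, sq, hk]⟩

theorem X_nor0 : Xm D w x ≤ Nor (T0 D w x) := fun _ hg => nor_modS T.A_cen (T.f.ab x) hg.2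

theorem X_nor1 : Xm D w x ≤ Nor (T1 D w x) := fun _ hg =>
  mem_nor_inf (T.h.nor_C0 x hg.1) (le_normalizer hg.2)

theorem cen_le_X : St G x ⊓ Cen1 w ≤ Xm D w x := fun _ hg =>
  ⟨hg.1, mem_modS_of (T.h.St_le_nor x hg.1) (c1_iff.mp hg.2)⟩

theorem K_le_X : Kw D w x y t ≤ Xm D w x := fun _ hk => T.cen_le_X ⟨T.s.K_x hk, T.s.K_M hk⟩

theorem T1_inf : T1 D w x ⊓ Cen1 w = T0 D w x :=
  le_antisymm (inf_le_inf_right _ inf_le_left) (le_inf T.T0_le_T1 inf_le_right)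

theorem T1_cases : T1 D w x = T0 D w x ∨ ∀ a ∈ Ax D x, ∃ g ∈ T1 D w x, g * w * g⁻¹ = w * a := by
  refine or_iff_not_imp_left.mpr fun h0 a ha => ?_
  by_cases a1 : a = 1
  · exact ⟨1, one_mem _, by simp [a1]⟩
  obtain ⟨g, hg, g0⟩ := SetLike.exists_of_lt (lt_of_le_of_ne T.T0_le_T1 (Ne.symm h0))
  obtain ⟨k, hk, e⟩ := T.K_tr hg.2.2 ha (fun e => g0 ⟨hg.1, c1_iff.mpr
    (mul_inv_eq_iff_eq_mul.mp (inv_mul_eq_one.mp e).symm)⟩) a1
  refine ⟨_, conj_mem (T.X_nor1 (T.K_le_X hk)) hg, ?_⟩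
  calc k * g * k⁻¹ * w * (k * g * k⁻¹)⁻¹ = k * g * k⁻¹ * (w * k) * g⁻¹ * k⁻¹ := by group
    _ = (k * w) * k⁻¹ * (k * (w⁻¹ * (g * w * g⁻¹)) * k⁻¹) := by rw [← T.K_w hk]; group
    _ = w * a := by rw [e, T.K_w hk]; group

theorem card_T1 (h : T1 D w x ≠ T0 D w x) :
    Nat.card (T1 D w x) = Nat.card (Ax D x) * Nat.card (T0 D w x) := by
  rw [card_modS inf_le_right (T.T1_cases.resolve_left h), T.T1_inf]

theorem card_X : Nat.card (Xm D w x) = Nat.card (Ax D x) *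
    (Nat.card (Qw D w x) * Nat.card ↥(St G x ⊓ St G y ⊓ Cen1 w)) := by
  rw [← T.h.card_cen T.hw T.s, Xm, ← T.A_eq, T.h.card_X T.hw T.s]

theorem conj_wa {a : G} (ha : a ∈ Ax D x) : ∃ g ∈ Xm D w x, g * w * g⁻¹ = w * a := by
  rw [Xm, ← T.A_eq] at *; exact T.h.conj_wa T.hw T.s ha

theorem card_Q {v : G} {y' : Ω} {t' : G} (T' : Ty D v x y' t') :
    Nat.card (Qw D v x) = Nat.card (Qw D w x) :=
  T.h.Q_eq_of_A T'.hw T'.s T.hw T.s (by rw [T.A_eq, T'.A_eq])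

theorem line_eq {v : G} (hv : v ∈ Cz D x) {z : Ω} (hz : z ≠ x) (e1 : w • z = z) (e2 : v • z = z)
    {z' : Ω} (e : w • z' = z') : v • z' = z' :=
  let ⟨_, T'⟩ := T.h.ty T.hw T.wx e1 hz.symm
  T'.cen_fix (T'.C_cen hv e2) e

theorem W_of {v : G} (hv : Inv v) (hx : v • x = x) (hA : v ∉ Ax D x) : Wv Ω v :=
  T.h.W_of_not hv fun e => hA (mem_Ax_of e hx)

theorem K_inf : Kw D w x y t ⊓ Cz D x = ⊥ := eq_bot_iff.mpr fun k hk =>
  let ⟨a, ha, a1⟩ := T.exists_A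
  T.K_fpf ha a1 hk.1 (cen_iff.mp hk.2 a ha)

theorem K_ne : Kw D w x y t ≠ ⊥ := fun e => by
  have := T.card_K
  have := T.q4
  rw [e, card_bot] at *
  omega

/-- if `H / C(A)` has odd order then `C(A)` is transitive -/
theorem C0_tr (ho : Odd ((Cz D x).relIndex (St G x))) {z : Ω} (hz : z ≠ x) :
    ∃ c ∈ Cz D x, c • y = z := by
  obtain ⟨k, hk, k1, ⟨r, i, hr, hi⟩, h⟩ := hup (T.f.ab x) (T.f.Ax_two x) (T.h.St_le_nor x) ho
    (fun _ => T.s.K_x) T.K_ab T.K_inf (fun _ ha _ hb => T.K_tr ha hb) T.card_K T.K_ne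
  have := Fact.mk hr
  have key : ∀ g ∈ St G x, ((fun c : G => c • y) '' Cz D x).ncard ≡
      ((fun c : G => c • g • y) '' Cz D x ∩ Fx Ω k).ncard [MOD r] := fun g hg => by
    rw [show ((fun c : G => c • y) '' Cz D x).ncard = ((fun c : G => c • g • y) '' Cz D x).ncard from
      Nat.eq_of_mul_eq_mul_right Nat.card_pos ((card_orb _ y).symm.trans ((card_orb _ (g • y)).trans
        (by rw [← conjS_St, ← card_conjS g (_ ⊓ St G y), conjS_inf,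
          mem_normalizer_iff_conjS.mp (T.h.nor_C0 x hg)])))]
    refine modEq_fix_elt hi ?_
    rintro _ ⟨c, hc, rfl⟩
    obtain ⟨k', hk', e⟩ := h g⁻¹ (inv_mem hg)
    refine ⟨_, mul_mem (conj_mem (T.h.nor_C0 x (T.s.K_x hk)) hc)
      (conj_mem (T.h.nor_C0 x (mul_mem hg (T.s.K_x hk'))) e), ?_⟩
    simp only [smul_smul]
    rw [show k * c * k⁻¹ * (g * k' * (k'⁻¹ * (g⁻¹ * k * g⁻¹⁻¹)) * (g * k')⁻¹) * g =
      k * (c * g) * k'⁻¹ by group, mul_smul, inv_fix (T.s.K_y hk')]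
  have fx : ∀ g ∈ St G x, ∀ z ∈ (fun c : G => c • g • y) '' Cz D x ∩ Fx Ω k, z = y := by
    rintro g hg _ ⟨⟨c, hc, rfl⟩, e⟩
    exact (T.K_fix hk k1 e).resolve_left
      (T.s.smul_ne (T.h.C0_le x hc) (T.s.smul_ne hg T.s.ne.symm))
  obtain ⟨g, hg, rfl⟩ := T.two_tr hz
  by_contra hc
  have e1 := (key 1 (one_mem _)).symm.trans (key g hg)
  rw [show (fun c : G => c • (1 : G) • y) '' Cz D x ∩ Fx Ω k = {y} from Set.eq_singleton_iff_unique_mem.mpr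
    ⟨⟨⟨1, one_mem _, by simp⟩, T.s.K_y hk⟩, fx 1 (one_mem _)⟩, Set.eq_empty_of_forall_notMem
      (s := (fun c : G => c • g • y) '' Cz D x ∩ Fx Ω k) fun z hz => by
        obtain rfl := fx g hg z hz
        obtain ⟨c, m, e⟩ := hz.1
        exact hc ⟨c⁻¹, inv_mem m, inv_smul_eq_iff.mpr e.symm⟩, Set.ncard_singleton,
    Set.ncard_empty] at e1
  exact hr.one_lt.ne' (Nat.dvd_one.mp (Nat.modEq_zero_iff_dvd.mp e1))

end Ty

/-- the configuration with a Sylow 2-subgroup of the stabilizer of two points -/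
structure Tz (D : Set G) (w : G) (x y : Ω) (t : G) (R : Subgroup G) : Prop extends Ty D w x y t where
  syl : H5.IsSylowOf 2 R (St G x ⊓ St G y)
  Rw : R ≤ Cen1 w
  Rt : R ≤ Cen1 t

theorem Sc.exists_tz (h : Sc D Ω) {w0 : G} (h0 : Wv Ω w0) :
    ∃ (w : G) (x y : Ω) (t : G) (R : Subgroup G), Tz D w x y t R := by
  obtain ⟨x, y, hne, e⟩ := h0.2
  obtain ⟨R, hR, m⟩ := H5.exists_isSylowOf_ge (pgroup_zp h0.1.2)
    (zpowers_le.mpr (show w0 ∈ St G x ⊓ St G y from e))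
  obtain ⟨w, m1, m2, m3, m4⟩ := exists_central hR.isPGroup fun e =>
    h0.1.1 (mem_bot.mp (e ▸ m (mem_zpowers w0)))
  have hw : Wv Ω w := ⟨⟨m3, m2⟩, x, y, hne, hR.le m1⟩
  obtain ⟨t, k1, k2, k3, k4⟩ := h.exists_T_cen ((h.pt_cen1 m2).mpr (hR.le m1).1)
    ((h.pt_cen1 m2).mpr (hR.le m1).2) hne hR.isPGroup (m4.trans le_normalizer)
    fun r hr => Or.inl (hR.le hr)
  exact ⟨w, x, y, t, R, ⟨h, hw, h.sr (h.cen1_ne_top m3) (h.lr_W hw (h.rkW w hw) (hR.le m1).1) k1 k2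
    k3 hne⟩, hR, m4, fun r hr => c1_iff.mpr (k4 r hr)⟩

namespace Tz
variable {w : G} {x y : Ω} {t : G} {R : Subgroup G} (T : Tz D w x y t R)
include T

theorem C_le : Cz D x ⊓ St G y ≤ St G x ⊓ St G y := inf_le_inf_right _ (T.h.C0_le x)

theorem P_syl : H5.IsSylowOf 2 (Pw D w x y) (Cz D x ⊓ St G y) :=
  (T.syl.inf_of_le_normalizer T.C_le fun g hg => mem_nor_inf (T.h.nor_C0 x (T.syl.le hg).1)
    (le_normalizer (T.syl.le hg).2)).of_card_le T.P_two (inf_le_inf_right _ inf_le_left)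
      (card_le_of_le fun _ hg => ⟨⟨hg.2.1, T.Rw hg.1⟩, hg.2.2⟩)

theorem two_le {U : Subgroup G} (hU : IsPGroup 2 U) {z : Ω} (hz : z ≠ x)
    (h : U ≤ Cz D x ⊓ St G z) : Nat.card U ≤ Nat.card (Pw D w x y) := by
  obtain ⟨g, hg, rfl⟩ := T.two_tr hz
  rw [← card_conjS g⁻¹]
  refine T.P_syl.card_le (hU.map _) ((conjS_mono _ h).trans ?_)
  rw [conjS_inf, conjS_St, inv_smul_smul, mem_normalizer_iff_conjS.mp (T.h.nor_C0 x (inv_mem hg))]

theorem card_T0_le {v : G} (hv : Wv Ω v) (hx : v • x = x) :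
    Nat.card (T0 D v x) ≤ Nat.card (T0 D w x) := by
  obtain ⟨y', t', T'⟩ := T.h.ty' hv hx
  rw [T.card_T0, T'.card_T0, T.card_Q T']
  exact Nat.mul_le_mul_left _ (T.two_le T'.P_two T'.s.ne.symm (inf_le_inf_right _ inf_le_left))

theorem T0_eq {v : G} (hv : Wv Ω v) (h : v ∈ T0 D w x) : T0 D w x = T0 D v x :=
  eq_of_le_card (le_inf inf_le_left (T.inv_cen h hv.1.2)) (T.card_T0_le hv (T.h.C0_le x h.1))

theorem line_wa {g : G} (hg : g ∈ T0 D w x) (h1 : g ≠ 1) {z : Ω} (hz : z ≠ x) (e : g • z = z) :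
    ∃ a ∈ Ax D x, (w * a) • z = z := by
  obtain ⟨n, hn⟩ := exists_inv_pow T.T0_two hg h1
  have m1 := pow_mem hg n
  have m2 := pow_fix e n
  generalize g ^ n = v at hn m1 m2
  have hv := T.W_of hn (T.h.C0_le x m1.1) fun e => hn.1 (T.f.eq_one e m2 hz.symm)
  obtain ⟨t', T'⟩ := T.h.ty hv (T.h.C0_le x m1.1) m2 hz.symm
  have e0 := T.T0_eq hv m1
  have c1 : Nat.card (Pw D w x y) = Nat.card (Pw D v x z) := Nat.eq_of_mul_eq_mul_left Nat.card_pos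
    (by rw [← T.card_T0, e0, T'.card_T0, T.card_Q T'])
  have k : ∀ {w : G} {y : Ω} {t : G}, Ty D w x y t → Nat.card ↥(Ax D x ⊔ Pw D w x y) =
      Nat.card (Ax D x) * Nat.card (Pw D w x y) := fun {w y t} T => by
    rw [← H5.card_sup_mul_card_inf (A := Pw D w x y) fun p hp => cen_le_nor _ hp.1.1, show Ax D x ⊓ Pw D w x y = ⊥ from
      eq_bot_iff.mpr fun a ha => T.f.eq_one ha.1 ha.2.2 T.s.ne, card_bot, mul_one]
  have e1 := eq_of_le_card (A := Ax D x ⊔ Pw D v x z) (B := Ax D x ⊔ Pw D w x y)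
    (sup_le le_sup_left fun p hp => by
      obtain ⟨a, ha, p', hp', rfl⟩ := T.inv_dec (e0 ▸ hp.1) (T'.P_sq hp)
      exact mul_mem (mem_sup_left ha) (mem_sup_right hp')) (by rw [k T.toTy, k T', c1])
  obtain ⟨a, ha, p, hp, e2⟩ := (mem_sup_of_le_normalizer_left (H := Pw D v x z)
    fun p hp => cen_le_nor _ hp.1.1).mp (e1.ge (mem_sup_right T.w_mem_P))
  refine ⟨a⁻¹, inv_mem ha, ?_⟩
  rw [← c1_iff.mp (T.A_cen (inv_mem ha)), ← e2, inv_mul_cancel_left]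
  exact hp.2

theorem card_Lam : {z | z ≠ x ∧ ∃ g ∈ T0 D w x, g ≠ 1 ∧ g • z = z}.ncard =
    Nat.card (Ax D x) * Nat.card (Qw D w x) := by
  have := ncard_double (S := Ax D x) (T := {z | z ≠ x ∧ ∃ g ∈ T0 D w x, g ≠ 1 ∧ g • z = z})
    (fun a z => (w * a) • z = z) (a := Nat.card (Qw D w x)) (b := 1) (fun a ha => by
      obtain ⟨y', t', T'⟩ := T.h.ty' (T.W_wa ha).1 (T.W_wa ha).2
      have e3 := Set.ncard_sdiff_singleton_add_one (show x ∈ Fx Ω (w * a) from T'.wx)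
      rw [T'.card_line, T.card_Q T'] at e3
      rw [← Nat.add_right_cancel e3]
      congr 1
      exact Set.ext fun z => ⟨fun hz => ⟨hz.2, hz.1.1⟩, fun hz => ⟨⟨hz.2, _, mul_mem T.w_mem_P.1
        (T.A_le_T0 ha), T'.hw.1.1, hz.1⟩, hz.1⟩⟩) fun z hz => by
      obtain ⟨h1, g, m1, m2, m3⟩ := hz
      obtain ⟨a, ha, e⟩ := T.line_wa m1 m2 h1 m3
      exact Set.ncard_eq_one.mpr ⟨a, Set.eq_singleton_iff_unique_mem.mpr ⟨⟨ha, e⟩, fun b hb =>
        T.eq_of_wa hb.1 ha h1 hb.2 e⟩⟩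
  rw [mul_one] at this
  exact this.symm

theorem odd_E : Odd ((St G x ⊓ St G y ⊓ Cen1 w).relIndex (St G x ⊓ St G y)) :=
  Nat.odd_iff.mpr (Nat.two_dvd_ne_zero.mp fun e => T.syl.not_dvd (e.trans
    (relIndex_dvd_of_le_left _ (le_inf T.syl.le T.Rw))))

theorem not_sz : Qw D w x = Ax D x := by
  refine T.cases.resolve_right fun ⟨e1, _, m, e2⟩ => ?_
  obtain ⟨s, hs, e3⟩ := num_sz e2 T.card_K
  have cc := T.card_compl
  rw [e1, e3] at cc
  have hH := T.card_St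
  set q := Nat.card (Ax D x) with hq
  set o := 3 * (3 * (s * s + s) + 1) with ho
  have oo : Odd o := by
    rw [ho, ← Nat.mul_succ]
    exact Odd.mul (by decide) ((Nat.even_mul_succ_self s).mul_left 3).add_one
  have f3 := Fact.mk Nat.prime_three
  have d3 : 3 ∣ Nat.card (Cz D x) := by
    by_cases h1 : T1 D w x = T0 D w x
    · by_contra hc
      obtain ⟨S, hS⟩ := H5.exists_isSylowOf 2 (Xm D w x)
      have s1 := (syl_of_le hS inf_le_left (by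
        rw [relIndex_eq_of_card inf_le_left (n := o * (St G x ⊓ St G y ⊓ Cen1 w).relIndex
          (St G x ⊓ St G y)) (by
          rw [hH, cc, T.card_X, card_eq_relIndex (inf_le_left (b := Cen1 w)), e1]; ring)]
        exact (oo.mul T.odd_E).not_two_dvd_nat)).inf_of_le_normalizer (T.h.C0_le x)
          (hS.le.trans (inf_le_left.trans (T.h.nor_C0 x)))
      have s2 := s1.of_card_le T.T0_two inf_le_left (card_le_of_le fun g hg =>
        h1.le ⟨hg.2, (hS.le hg.1).2⟩)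
      have e4 := H5.card_sup_mul_card_inf (K := Cz D x) (A := St G x ⊓ Nor (T0 D w x))
        (inf_le_left.trans (T.h.nor_C0 x))
      rw [s2.sup_normalizer (T.h.C0_le x) (T.h.nor_C0 x),
        card_eq_relIndex (inf_le_left (b := Nor (T0 D w x))), mul_right_comm] at e4
      obtain ⟨S3, h3⟩ := H5.exists_isSylowOf 3 (St G x ⊓ Nor (T0 D w x))
      have s3 := syl_of_le h3 inf_le_left fun e =>
        hc (e.trans (Dvd.intro _ (Nat.eq_of_mul_eq_mul_right Nat.card_pos e4)))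
      obtain ⟨z, hz, e5⟩ := exists_fix_pgroup h3.isPGroup
        (S := {z | z ≠ x ∧ ∃ g ∈ T0 D w x, g ≠ 1 ∧ g • z = z}) (by
          rintro g hg z ⟨m0, c, m1, m2, m3⟩
          exact ⟨T.s.smul_ne (h3.le hg).1 m0, _, conj_mem (h3.le hg).2 m1, conj_ne_one m2,
            conj_smul m3⟩) (by
          rw [T.card_Lam, e1, ← pow_succ']
          exact fun e => by have := Nat.prime_three.dvd_of_dvd_pow e; omega)
      refine s3.not_dvd (Dvd.dvd.trans ?_ (relIndex_dvd_of_le_left _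
        (le_inf s3.le (show S3 ≤ St G z from e5))))
      obtain ⟨g, hg, rfl⟩ := T.two_tr hz.1
      rw [relIndex_eq_of_card inf_le_left (T.card_H (fun z' hz' =>
        let ⟨k, hk, e⟩ := T.two_tr hz'
        ⟨k * g⁻¹, mul_mem hk (inv_mem hg), by rw [mul_smul, inv_smul_smul, e]⟩) hz.1), cc]
      exact Dvd.dvd.mul_left (Dvd.intro _ rfl) _
    have RC : R ≤ Cz D x := by
      by_contra hc
      obtain ⟨g, m1, m2, m3⟩ := exists_sq_mem T.syl.isPGroup hc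
      have := T.h.sq_A T.s (le_normalizer (T.Rw m1)) (T.syl.le m1).1
        (fun a ha => cen_iff.mp m3 a (T.A_eq ▸ ha)) (c1_iff.mp (T.Rt m1))
      rw [T.A_eq] at this
      rcases this with e | ⟨e, -⟩
      · exact m2 (le_cen1_iff.mp e)
      obtain ⟨i, hi⟩ := IsPGroup.iff_card.mp ((T.f.Ax_two x).to_le (inf_le_left (b := Cen1 g)))
      rw [← hq, e2, hi, ← pow_mul] at e
      have := Nat.pow_right_injective le_rfl e
      omega
    have c1 : Nat.card (Pw D w x y) = Nat.card R := le_antisymm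
      (T.syl.card_le T.P_two ((inf_le_inf_right _ inf_le_left).trans T.C_le))
      (card_le_of_le fun g hg => ⟨⟨RC hg, T.Rw hg⟩, (T.syl.le hg).2⟩)
    have o1 : Odd ((T1 D w x).relIndex (St G x)) := by
      rw [relIndex_eq_of_card (inf_le_left.trans (T.h.C0_le x))
        (n := o * R.relIndex (St G x ⊓ St G y)) (by
        rw [hH, cc, T.card_T1 h1, T.card_T0, card_eq_relIndex T.syl.le, e1, c1]; ring)]
      exact oo.mul (Nat.odd_iff.mpr (Nat.two_dvd_ne_zero.mp T.syl.not_dvd))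
    rw [card_of_trans (Y := Cz D x) (x := y) (S := {x}ᶜ)
      (fun g hg => smul_mem_compl g (T.h.C0_le x hg) y T.s.ne.symm) fun z hz =>
        T.C0_tr (o1.of_dvd_nat (relIndex_dvd_of_le_left _ inf_le_left)) hz, cc]
    exact (Dvd.dvd.mul_left (Dvd.intro _ rfl) _).mul_right _
  obtain ⟨S, hS⟩ := H5.exists_isSylowOf 3 (Cz D x)
  have sr : ∀ g ∈ S, ∀ z, z ≠ x → g • z = z → g = 1 := fun g hg z hz e => by
    obtain ⟨k, hk, rfl⟩ := T.two_tr hz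
    obtain ⟨i, hi⟩ := exists_pow_pow_of_mem hS.isPGroup hg
    have m : k⁻¹ * g * k⁻¹⁻¹ ∈ Cz D x ⊓ St G y :=
      ⟨conj_mem (T.h.nor_C0 x (inv_mem hk)) (hS.le hg), conj_fix (by rwa [inv_inv])⟩
    have d := (orderOf_dvd_natCard (⟨_, m⟩ : ↥(Cz D x ⊓ St G y))).trans T.card_C_dvd
    rw [← orderOf_coe, H9.orderOf_conj, T.card_L, e1] at d
    refine orderOf_eq_one_iff.mp (Nat.eq_one_of_dvd_coprimes (Nat.Coprime.pow_left i
      ((Nat.Prime.coprime_iff_not_dvd Nat.prime_three).mpr fun e => ?_))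
        (orderOf_dvd_of_pow_eq_one hi) d)
    have := T.card_K
    rcases (Nat.Prime.dvd_mul Nat.prime_three).mp e with e | e
    · rw [hs, show (3 * s + 2) ^ 2 + 1 = 3 * (3 * s ^ 2 + 4 * s + 1) + 2 by ring] at e; omega
    rcases (Nat.Prime.dvd_mul Nat.prime_three).mp e with e | e
    · have := Nat.prime_three.dvd_of_dvd_pow e; omega
    · omega
  have c3 : Nat.card S = 3 := by
    have d := card_dvd_of_semireg (fun g hg => smul_mem_compl g (T.h.C0_le x (hS.le hg))) sr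
    obtain ⟨i, hi⟩ := IsPGroup.iff_card.mp hS.isPGroup
    rw [cc, hi, ← pow_succ'] at d
    have d1 := Nat.Coprime.dvd_of_dvd_mul_left (Nat.Coprime.pow i _
      ((Nat.Prime.coprime_iff_not_dvd Nat.prime_three).mpr (show ¬ 3 ∣ q by omega))) d
    rcases i with _ | _ | i
    · exact (hS.ne_bot d3 (card_eq_one.mp hi)).elim
    · exact hi
    · have := (Dvd.intro_left (3 ^ i) (by ring) : 3 * 3 ∣ 3 ^ (i + 1 + 1)).trans d1
      omega
  obtain ⟨k, hk, k1⟩ := (bot_or_exists_ne_one _).resolve_left T.K_ne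
  obtain ⟨n, hn, m1⟩ := hS.frattini (T.h.nor_C0 x (T.s.K_x hk))
  obtain ⟨g, m2, m3, p, i, hp, -, m4⟩ := exists_ppow (Y := Cz D x) (g := n⁻¹ * k) fun e =>
    k1 (mem_bot.mp (T.K_inf ▸ (⟨hk, by simpa using mul_mem hn e⟩ : k ∈ Kw D w x y t ⊓ Cz D x)))
  have := Fact.mk hp
  obtain ⟨c, hc, l, hl, rfl⟩ := (mem_sup_of_le_normalizer_left fun l hl =>
    T.h.nor_C0 x (T.s.K_x hl)).mp (zpowers_le.mpr
      (mul_mem (mem_sup_left (inv_mem hn)) (mem_sup_right hk)) m2)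
  have gx : (c * l) • x = x := mul_mem (T.h.C0_le x hc) (T.s.K_x hl)
  have h0 : ∀ a ∈ Ax D x, c * l * a = a * (c * l) → a = 1 := fun a ha e => by_contra fun a1 => m3 (by
    rw [← mul_assoc, ← cen_iff.mp hc a ha, mul_assoc, mul_assoc, mul_right_inj] at e
    rwa [T.K_fpf ha a1 hl e, mul_one])
  have d1 : p ∣ Nat.card (Kw D w x y t) := by
    have := modEq_cen_elt m4 (S := {a | a ∈ Ax D x ∧ a ≠ 1}) fun a ha =>
      ⟨conj_mem (T.h.St_le_nor x gx) ha.1, conj_ne_one ha.2⟩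
    rw [Set.eq_empty_of_forall_notMem (s := {a | a ∈ Ax D x ∧ a ≠ 1} ∩ Cen1 (c * l)) fun a ha =>
      ha.1.2 (h0 a ha.1.1 (c1_iff.mp ha.2).symm), Set.ncard_empty,
      Nat.add_right_cancel ((ncard_ne_one _).trans T.card_K.symm)] at this
    exact Nat.modEq_zero_iff_dvd.mp this
  obtain ⟨z, hz, m5⟩ := exists_fix_elt m4 (smul_mem_compl _ gx) (T.not_dvd_compl hp d1)
  obtain ⟨j, hj⟩ := T.card_fix_pow gx hz m5 h0
  obtain ⟨b, hb, m6⟩ := exists_cen_pgroup (isPGroup_zpowers_of_pow m4) (S := {a | a ∈ S ∧ a ≠ 1})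
    (fun g hg a ha => ⟨conj_mem (zpowers_le.mpr (zpowers_le.mpr m1 m2) hg) ha.1, conj_ne_one ha.2⟩)
    fun e => by
      rw [Nat.add_right_cancel ((ncard_ne_one S).trans c3)] at e
      exact T.s.K_odd.not_two_dvd_nat ((Nat.prime_dvd_prime_iff_eq hp Nat.prime_two).mp e ▸ d1)
  have d2 := card_dvd_of_semireg (X := S ⊓ Cen1 (c * l)) (S := Fx Ω (c * l) \ {x})
    (fun g hg z hz => ⟨comm_fix (c1_iff.mp hg.2) hz.1,
      T.s.smul_ne (T.h.C0_le x (hS.le hg.1)) hz.2⟩) fun g hg z hz => sr g hg.1 z hz.2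
  rw [Nat.add_right_cancel ((Set.ncard_sdiff_singleton_add_one (show x ∈ Fx Ω _ from gx)).trans hj)]
    at d2
  rcases (Nat.dvd_prime Nat.prime_three).mp (c3 ▸ card_dvd_of_le (inf_le_left (b := Cen1 (c * l))))
    with e | e
  · exact hb.2 (mem_bot.mp (card_eq_one.mp e ▸ (⟨hb.1, c1_iff.mpr (m6 _ (mem_zpowers _)).symm⟩ :
      b ∈ S ⊓ Cen1 (c * l))))
  · exact absurd (Nat.prime_three.dvd_of_dvd_pow (e ▸ d2)) (by decide)

end Tz

end SF
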