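import Cfsg.Agent.BS.Stmt

/-! The fusion theorem of Shult and Hering (abelian case): statement. -/

set_option autoImplicit false

namespace SF

open Cfsg Subgroup FT

universe u

/-- an elementary abelian 2-subgroup of order at least 4 whose other conjugates meet its
normalizer trivially: the normalizer is strongly embedded in the normal closure -/
def SF0Thm : Prop :=
  ∀ (G : Type u) [Group G] [Finite G] (A : Subgroup G), (∀ a ∈ A, a * a = 1) → 4 ≤ Nat.card A →
    (∀ g : G, ∀ a ∈ A, a ≠ 1 → g * a * g⁻¹ ∈ Nor A → g ∈ Nor A) → ¬ A.Normal →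
    IsStronglyEmbedded ((Nor A ⊓ normalClosure (A : Set G)).subgroupOf
      (normalClosure (A : Set G)))

end SF
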