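import Cfsg.Agent.SF.O
import Cfsg.Agent.SF.Stmt

/-! The product closed involution theorem for coset spaces. -/

set_option autoImplicit false
set_option linter.unusedSectionVars false

namespace SF

open Cfsg Subgroup FT H4 BS
open scoped commutatorElement

universe u v

variable {G : Type u} [Group G] [Finite G] {D : Set G} {H : Subgroup G}

theorem smul_mk_eq {a g : G} : a • (g : G ⧸ H) = (g : G ⧸ H) ↔ g⁻¹ * a * g ∈ H := by
  rw [MulAction.Quotient.smul_coe, eq_comm, QuotientGroup.eq, smul_eq_mul, mul_assoc]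

theorem St_one : St G ((1 : G) : G ⧸ H) = H := by
  ext a; rw [mem_St, smul_mk_eq, inv_one, one_mul, mul_one]

/-- the hypotheses on `D` and `H` -/
structure CH (D : Set G) (H : Subgroup G) : Prop where
  inv : ∀ a ∈ D, Inv a
  conj : ∀ a ∈ D, ∀ g : G, g * a * g⁻¹ ∈ D
  ex : ∀ a ∈ D, ∃ g : G, g⁻¹ * a * g ∈ H
  fix : ∀ a ∈ D, a ∈ H → ∀ g : G, g⁻¹ * a * g ∈ H → g ∈ H
  mul : ∀ a ∈ D, ∀ b ∈ D, a ∈ H → b ∈ H → a ≠ b → a * b = b * a → a * b ∈ D

namespace CH
variable (h : CH D H)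
include h

theorem conj' {a : G} (ha : a ∈ D) (g : G) : g⁻¹ * a * g ∈ D := by
  simpa using h.conj a ha g⁻¹

theorem pd : PD D (G ⧸ H) where
  inv := h.inv
  conj := h.conj
  one := fun a ha => by
    obtain ⟨g, hg⟩ := h.ex a ha
    refine ⟨g, smul_mk_eq.mpr hg, fun y hy => ?_⟩
    obtain ⟨k, rfl⟩ := QuotientGroup.mk_surjective y
    rw [smul_mk_eq] at hy
    exact QuotientGroup.eq.mpr (h.fix _ (h.conj' ha k) hy _ (by
      simpa [mul_assoc] using hg))
  mul := fun a ha b hb hne hc => by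
    obtain ⟨g, hg⟩ := h.ex a ha
    have e : g⁻¹ * a * g * (g⁻¹ * b * g) = g⁻¹ * b * g * (g⁻¹ * a * g) := by
      simpa using conj_comm hc g⁻¹
    have hb' : g⁻¹ * b * g ∈ H := h.fix _ (h.conj' ha g) hg _ (by
      rw [mul_assoc _ (g⁻¹ * a * g), e, inv_mul_cancel_left]; exact hg)
    have := h.conj _ (h.mul _ (h.conj' ha g) _ (h.conj' hb g) hg hb'
      (fun e => hne (by simpa using e)) e) g
    simpa [mul_assoc] using this

theorem pt {M : Subgroup G} {a : G} (ha : a ∈ D) (haM : a ∈ M) (haH : a ∈ H) :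
    ((1 : G) : G ⧸ H) ∈ Pt D (G ⧸ H) M :=
  ⟨a, ha, haM, by rw [← mem_St, St_one]; exact haH⟩

/-- a normal subgroup inside `H` misses `D` -/
theorem not_le (hH : H ≠ ⊤) {M : Subgroup G} [hn : M.Normal] {a : G} (ha : a ∈ D) (haM : a ∈ M) :
    ¬ M ≤ H := fun e => hH (eq_top_iff.mpr fun g _ =>
  h.fix a ha (e haM) g (e (by simpa using hn.conj_mem a haM g⁻¹)))

theorem closure_normal : (closure D).Normal := ⟨fun a ha g => by
  have : conjS g (closure D) ≤ closure D := by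
    rw [conjS, MonoidHom.map_closure, closure_le]
    rintro _ ⟨x, hx, rfl⟩
    exact subset_closure (h.conj x hx g)
  exact this ⟨a, ha, rfl⟩⟩

theorem LL_top : LL D ⊤ = closure D := by simp [LL]

theorem exists_mem {M : Subgroup G} [hn : M.Normal] {a : G} (ha : a ∈ D) (haM : a ∈ M) :
    ∃ b ∈ D, b ∈ M ∧ b ∈ H :=
  let ⟨g, hg⟩ := h.ex a ha
  ⟨_, h.conj' ha g, by simpa using hn.conj_mem a haM g⁻¹, hg⟩

/-- every involution of `⟨D⟩` lies in `D` -/
theorem pure (hH : H ≠ ⊤) (h2 : RkD D ⊤) : Pure D (closure D) := by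
  obtain ⟨a, ha, -⟩ := id h2
  obtain ⟨b, hb, -, hbH⟩ := h.exists_mem ha (mem_top a)
  rw [← h.LL_top]
  exact h.pd.pure ⟨h2, h.pt hb (mem_top b) hbH, by rw [St_one]; exact h.not_le hH hb (mem_top b)⟩

theorem sein (hH : H ≠ ⊤) {M : Subgroup G} [M.Normal] (hp : Pure D M) (he : Even (Nat.card M)) :
    SEin M (M ⊓ H) := by
  obtain ⟨a, haM, ha⟩ := exists_inv_of_even he
  obtain ⟨b, hb, hbM, hbH⟩ := h.exists_mem (hp a haM ha) haM
  have := h.pd.sein hp (h.pt hb hbM hbH) (by rw [St_one]; exact h.not_le hH hb hbM)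
  rwa [St_one] at this

end CH

theorem se_of_sein {M K : Subgroup G} (h : SEin M K) : IsStronglyEmbedded (K.subgroupOf M) := by
  refine ⟨fun e => h.ne (subgroupOf_eq_top.mp e), ?_, fun g hg => ?_⟩
  · rw [Nat.card_congr (subgroupOfEquivOfLe h.le).toEquiv]; exact h.even
  · refine odd_of_no_inv fun a ha hi => ?_
    have hi' : Inv (a : G) := ⟨fun e => hi.1 (Subtype.ext e), congrArg Subtype.val hi.2⟩
    exact hg (h.le_of_fix hi' ha.1 g.2 (mem_conjS (H := K.subgroupOf M).mp ha.2))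

/-- the involutions conjugate into `A` -/
def Cj (A : Subgroup G) : Set G := {a | Inv a ∧ ∃ g : G, g⁻¹ * a * g ∈ A}

theorem mem_Cj {A : Subgroup G} {a : G} (ha : Inv a) (h : a ∈ A) : a ∈ Cj A :=
  ⟨ha, 1, by simpa using h⟩

theorem Cj_conj {A : Subgroup G} {a : G} (ha : a ∈ Cj A) (g : G) : g * a * g⁻¹ ∈ Cj A :=
  let ⟨hi, k, hk⟩ := ha
  ⟨hi.conj g, g * k, by simpa [mul_assoc] using hk⟩

/-- the tightly embedded situation -/
theorem ch_of_nor {A : Subgroup G}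
    (h : ∀ g : G, ∀ a ∈ A, Inv a → g * a * g⁻¹ ∈ Nor A → g ∈ Nor A) : CH (Cj A) (Nor A) := by
  have key : ∀ a ∈ Cj A, a ∈ Nor A → a ∈ A := by
    rintro a ⟨hi, g, hg⟩ ha
    have hi' : Inv (g⁻¹ * a * g) := by simpa using hi.conj g⁻¹
    have := h g _ hg hi' (by simpa [mul_assoc] using ha)
    simpa [mul_assoc] using (mem_normalizer_iff.mp this _).mp hg
  refine ⟨fun a ha => ha.1, fun a ha g => Cj_conj ha g,
    fun a ⟨_, g, hg⟩ => ⟨g, le_normalizer hg⟩, fun a ha haH g hg => ?_,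
    fun a ha b hb haH hbH hne hc =>
      mem_Cj (ha.1.mul hb.1 hne hc) (A.mul_mem (key a ha haH) (key b hb hbH))⟩
  exact (Nor A).inv_mem_iff.mp (h g⁻¹ a (key a ha haH) ha.1 (by simpa using hg))

theorem exists_two {A : Subgroup G} (h4 : 3 ≤ Nat.card A) :
    ∃ a ∈ A, ∃ b ∈ A, a ≠ 1 ∧ b ≠ 1 ∧ a ≠ b := by
  have := ncard_ne_one A
  obtain ⟨a, ha, b, hb, hne⟩ := (Set.one_lt_ncard (s := {a | a ∈ A ∧ a ≠ 1})).mp (by omega)
  exact ⟨a, ha.1, b, hb.1, ha.2, hb.2, hne⟩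

theorem sf0Thm : SF0Thm.{u} := fun G _ _ A hA h4 hti hn => by
  have h := ch_of_nor (A := A) fun g a ha hi => hti g a ha hi.1
  have hH : Nor A ≠ ⊤ := fun e => hn (normalizer_eq_top_iff.mp e)
  obtain ⟨a, ha, b, hb, ha1, hb1, hne⟩ := exists_two (A := A) (by omega)
  have hp := h.pure hH ⟨a, mem_Cj ⟨ha1, hA a ha⟩ ha, b, mem_Cj ⟨hb1, hA b hb⟩ hb, trivial, trivial,
    hne, comm_of_sq hA ha hb⟩
  have hle : normalClosure (A : Set G) ≤ closure (Cj A) := by
    haveI := h.closure_normal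
    refine normalClosure_le_normal fun x hx => ?_
    by_cases e : x = 1
    · exact e ▸ one_mem _
    · exact subset_closure (mem_Cj ⟨e, hA x hx⟩ hx)
  rw [inf_comm]
  exact se_of_sein (h.sein hH (hp.mono hle)
    (even_of_inv (subset_normalClosure ha) ha1 (hA a ha)))

end SF
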