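import Cfsg.Agent.SF.B

/-! The product closed involution theorem (Shult, Hering, Aschbacher): statement. -/

set_option autoImplicit false

namespace SF

open Cfsg Subgroup FT BS

universe u

/-- `D ∩ M` contains two distinct commuting elements -/
def RkD {G : Type*} [Group G] (D : Set G) (M : Subgroup G) : Prop :=
  ∃ a ∈ D, ∃ b ∈ D, a ∈ M ∧ b ∈ M ∧ a ≠ b ∧ a * b = b * a

/-- `D` is a normal set of involutions, closed under products of distinct commuting members,
each member fixing exactly one point. If two members commute and two members fix different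
points, then every involution of `⟨D⟩` lies in `D`. -/
def ZDThm : Prop :=
  ∀ (G : Type u) [Group G] [Finite G] (Ω : Type u) [MulAction G Ω] [Finite Ω] (D : Set G),
    PD D Ω → RkD D ⊤ → (∃ x y : Ω, x ≠ y ∧ x ∈ Pt D Ω ⊤ ∧ y ∈ Pt D Ω ⊤) →
      ∀ r ∈ closure D, Inv r → r ∈ D

end SF
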