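import Cfsg.Agent.SF.C
import Cfsg.Agent.SF.ZStmt
import Cfsg.Agent.BS.SE4

/-! Product closed sets of involutions: counting, two point stabilizers, pure subgroups. -/

set_option autoImplicit false
set_option linter.unusedSectionVars false

namespace SF

open Cfsg Subgroup FT H4 BS
open scoped commutatorElement

universe u

section Gen
variable {G : Type*} [Group G] [Finite G]

/-- ambient form of the `Z*`-theorem -/
theorem zst {M : Subgroup G} {t : G} (htM : t ∈ M) (ht : Inv t)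
    (h : ∀ g ∈ M, t * (g * t * g⁻¹) = g * t * g⁻¹ * t → g * t * g⁻¹ = t) : Cm M t ≤ Od M := by
  have h1 : InZStar 2 (⟨t, htM⟩ : M) := L.zstar' (by rw [← orderOf_coe]; exact ht.orderOf)
    fun g hc => Subtype.ext (h g g.2 (congrArg Subtype.val hc.eq))
  refine Cm_le ht fun x hx => ?_
  rw [Od, piCoreOf_compl_singleton]
  exact ⟨_, h1 ⟨x, hx⟩, by simp [ht.inv]⟩

theorem exists_oc {M O : Subgroup G} {t g : G} (ht : Inv t) (hO : Odd (Nat.card O)) (hOM : O ≤ M)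
    (h : Cm M t ≤ O) (hg : g ∈ M) : ∃ o ∈ O, ∃ c ∈ M, c * t = t * c ∧ g = o * c := by
  have h1 := h (mem_Cm ht.2 hg)
  obtain ⟨n, -, -, e⟩ := exists_swap ht.2 (ht.conj g).2 (odd_orderOf_of_mem hO h1)
  have h2 := pow_mem h1 n
  refine ⟨_, h2, ((g * t * g⁻¹ * t) ^ n)⁻¹ * g, mul_mem (inv_mem (hOM h2)) hg, ?_, by group⟩
  generalize (g * t * g⁻¹ * t) ^ n = o at e
  calc o⁻¹ * g * t = o⁻¹ * (g * t * g⁻¹) * g := by group
    _ = t * (o⁻¹ * g) := by rw [← e]; group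

theorem conj_comm {a b : G} (h : a * b = b * a) (g : G) :
    g * a * g⁻¹ * (g * b * g⁻¹) = g * b * g⁻¹ * (g * a * g⁻¹) := by
  calc g * a * g⁻¹ * (g * b * g⁻¹) = g * (a * b) * g⁻¹ := by group
    _ = g * b * g⁻¹ * (g * a * g⁻¹) := by rw [h]; group

theorem cmem {M : Subgroup G} {g a : G} (hg : g ∈ M) (ha : a ∈ M) : g * a * g⁻¹ ∈ M :=
  M.mul_mem (M.mul_mem hg ha) (M.inv_mem hg)

end Gen

variable {G : Type u} [Group G] [Finite G] {Ω : Type*} [MulAction G Ω] {D : Set G}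

/-- all the involutions of `M` lie in `D` -/
def Pure (D : Set G) (M : Subgroup G) : Prop := ∀ r ∈ M, Inv r → r ∈ D

/-- the elements of `D ∩ M` fixing `x` -/
def Dx (D : Set G) (M : Subgroup G) (x : Ω) : Set G := {a | (a ∈ D ∧ a • x = x) ∧ a ∈ M}

/-- the elements of `D ∩ M` mapping `x` to `y` -/
def Tx (D : Set G) (M : Subgroup G) (x y : Ω) : Set G := {a | (a ∈ D ∧ a • x = y) ∧ a ∈ M}

theorem RkD.mono {M N : Subgroup G} (h : RkD D M) (hle : M ≤ N) : RkD D N :=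
  let ⟨a, h1, b, h2, h3, h4, h5⟩ := h
  ⟨a, h1, b, h2, hle h3, hle h4, h5⟩

theorem RkD.LL {M : Subgroup G} (h : RkD D M) : RkD D (LL D M) :=
  let ⟨a, h1, b, h2, h3, h4, h5⟩ := h
  ⟨a, h1, b, h2, mem_LL h1 h3, mem_LL h2 h4, h5⟩

theorem Pt_mono {M N : Subgroup G} (hle : M ≤ N) {x : Ω} (h : x ∈ Pt D Ω M) : x ∈ Pt D Ω N :=
  let ⟨a, h1, h2, h3⟩ := h
  ⟨a, h1, hle h2, h3⟩

namespace PD
variable (h : PD D Ω) {M : Subgroup G} {t : G} {x y : Ω}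
include h

theorem rk2 (h2 : RkD D M) : Rk2 M :=
  let ⟨a, h1, b, h2, h3, h4, h5⟩ := h2
  ⟨a, h3, b, h4, h.inv a h1, h.inv b h2, h5⟩

theorem Pt_smul' (hx : x ∈ Pt D Ω M) {g : G} (hg : g ∈ M) : g • x ∈ Pt D Ω M :=
  h.Pt_smul hx (le_normalizer hg)

theorem del_iff (hp : Pure D M) : Del M x ↔ x ∈ Pt D Ω M :=
  ⟨fun ⟨a, h1, h2, h3⟩ => ⟨a, hp a h1 h2, h1, h3⟩, fun ⟨a, h1, h2, h3⟩ => ⟨a, h2, h.inv a h1, h3⟩⟩

theorem ne_smul (ht : t ∈ D) {τ γ : Ω} (hτ : t • τ = τ) (hne : γ ≠ τ) : γ ≠ t • γ :=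
  fun e => hne (h.uniq ht e.symm hτ)

theorem cen_le {a : G} (ha : a ∈ D) (hx : a • x = x) : Cen1 a ≤ St G x :=
  fun _ hg => h.cen_fix ha hx (c1_iff.mp hg)

theorem ncard_Dx (hx : x ∈ Pt D Ω M) (hy : y ∈ Pt D Ω M) :
    (Dx D M x).ncard = (Dx D M y).ncard := by
  obtain ⟨g, hg, rfl⟩ := h.Pt_trans hx hy
  have hg := LL_le M hg
  refine Set.ncard_congr (fun a _ => g * a * g⁻¹) (fun a ha => ⟨⟨h.conj a ha.1.1 g,
    conj_smul ha.1.2⟩, cmem hg ha.2⟩) (fun a b _ _ e => by simpa using e) fun b hb =>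
      ⟨g⁻¹ * b * g, ⟨⟨h.conj' hb.1.1 g, ?_⟩, by simpa using cmem (inv_mem hg) hb.2⟩, by group⟩
  rw [mul_smul, mul_smul, hb.1.2, inv_smul_smul]

theorem ncard_Tx (hx : x ∈ Pt D Ω M) (hy : y ∈ Pt D Ω M) (hne : x ≠ y) :
    (Tx D M x y).ncard = (Dx D M x).ncard := by
  obtain ⟨t, htM, ht, hxy⟩ := h.Pt_swap hx hy hne
  exact (h.ncard_K ht hxy htM).symm.trans (h.ncard_K' ht hxy htM hne hx)

theorem Tx_eq (hne : x ≠ y) {a b : G} (ha : a ∈ D) (hb : b ∈ D) (h1 : a • x = y) (h2 : b • x = y)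
    (e : a * b = b * a) : a = b := by
  by_contra hab
  exact hne (h.uniq (h.mul a ha b hb hab e) (by rw [mul_smul, h2, h.swap ha h1])
    (by rw [mul_smul, h.swap hb h2, h1]))

theorem odd_Tx (htM : t ∈ M) (ht : t ∈ D) (hxy : t • x = y) (hne : x ≠ y) :
    Odd (Tx D M x y).ncard := by
  have : Fact (Nat.Prime 2) := ⟨Nat.prime_two⟩
  have h1 := modEq_cen_elt (p := 2) (g := t) (k := 1) (by rw [pow_one, pow_two, h.sq ht])
    (S := Tx D M x y) fun u hu => ⟨⟨h.conj u hu.1.1 t, by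
      rw [mul_smul, mul_smul, h.inv_eq ht, hxy, h.swap hu.1.1 hu.1.2, hxy]⟩, cmem htM hu.2⟩
  rw [show Tx D M x y ∩ Cen1 t = {t} from Set.ext fun u => ⟨fun hu =>
    h.Tx_eq hne hu.1.1.1 ht hu.1.1.2 hxy (c1_iff.mp hu.2),
      by rintro rfl; exact ⟨⟨⟨ht, hxy⟩, htM⟩, c1_iff.mpr rfl⟩⟩, Set.ncard_singleton] at h1
  exact Nat.odd_iff.mpr h1

theorem odd_Dx (hx : x ∈ Pt D Ω M) (hy : y ∈ Pt D Ω M) (hne : x ≠ y) : Odd (Dx D M x).ncard := by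
  obtain ⟨t, htM, ht, hxy⟩ := h.Pt_swap hx hy hne
  rw [← h.ncard_Tx hx hy hne]
  exact h.odd_Tx htM ht hxy hne

/-- a 2-group permuting `{x, y}` centralizes a swapping element -/
theorem exists_T_cen {R : Subgroup G} (hx : x ∈ Pt D Ω M)
    (hy : y ∈ Pt D Ω M) (hne : x ≠ y) (hR : IsPGroup 2 R) (hn : R ≤ Nor M)
    (hr : ∀ r ∈ R, (r • x = x ∧ r • y = y) ∨ (r • x = y ∧ r • y = x)) :
    ∃ u ∈ D, u ∈ M ∧ u • x = y ∧ ∀ r ∈ R, r * u = u * r := by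
  have : Fact (Nat.Prime 2) := ⟨Nat.prime_two⟩
  obtain ⟨t, htM, ht, hxy⟩ := h.Pt_swap hx hy hne
  obtain ⟨u, hu, e⟩ := exists_cen_pgroup hR (S := Tx D M x y)
    (fun g hg u hu => ⟨⟨h.conj u hu.1.1 g, by
      have h1 := hu.1.2
      have h2 := h.swap hu.1.1 h1
      rw [mul_smul, mul_smul]
      rcases hr g hg with ⟨e1, e2⟩ | ⟨e1, e2⟩
      · rw [inv_smul_eq_iff.mpr e1.symm, h1, e2]
      · rw [inv_smul_eq_iff.mpr e2.symm, h2, e1]⟩, conj_mem (hn hg) hu.2⟩)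
    (fun e => Nat.not_even_iff_odd.mpr (h.odd_Tx htM ht hxy hne) (even_iff_two_dvd.mpr e))
  exact ⟨u, hu.1.1, hu.2, hu.1.2, e⟩

theorem rk_at (h2 : RkD D M) (hx : x ∈ Pt D Ω M) :
    ∃ a ∈ Dx D M x, ∃ b ∈ Dx D M x, a ≠ b ∧ a * b = b * a := by
  obtain ⟨a, ha, b, hb, haM, hbM, hne, hc⟩ := h2
  obtain ⟨p, hp⟩ := h.ex ha
  obtain ⟨g, hg, rfl⟩ := h.Pt_trans ⟨a, ha, haM, hp⟩ hx
  have hg := LL_le M hg
  exact ⟨_, ⟨⟨h.conj a ha g, conj_smul hp⟩, cmem hg haM⟩, _, ⟨⟨h.conj b hb g,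
    conj_smul (h.cen_fix ha hp hc.symm)⟩, cmem hg hbM⟩, fun e => hne (by simpa using e),
    conj_comm hc g⟩

theorem rk_inv (h2 : RkD D M) (hx : x ∈ Pt D Ω M) (hy : y ∈ Pt D Ω M) (hne : x ≠ y) {a : G}
    (haM : a ∈ M) (ha : a ∈ D) : ∃ b ∈ D, b ∈ M ∧ a ≠ b ∧ a * b = b * a := by
  obtain ⟨c, hc, b, hb, hcM, hbM, hne', hcb⟩ := h2
  obtain ⟨g, hg, rfl⟩ := h.conj_D hx hy hne hcM hc haM ha
  exact ⟨_, h.conj b hb g, cmem (LL_le M hg) hbM, fun e => hne' (by simpa using e),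
    conj_comm hcb g⟩

theorem odd_le_St {X : Subgroup G} (hX : Odd (Nat.card X)) (h2 : RkD D (Nor X))
    (hx : x ∈ Pt D Ω (Nor X)) : X ≤ St G x := by
  obtain ⟨a, ha, b, hb, hne, hc⟩ := h.rk_at h2 hx
  exact le_of_four (h.inv a ha.1.1) (h.inv b hb.1.1) hne hc hX ha.2 hb.2
    (inf_le_right.trans (h.cen_le ha.1.1 ha.1.2)) (inf_le_right.trans (h.cen_le hb.1.1 hb.1.2))
    (inf_le_right.trans (h.cen_le (h.mul a ha.1.1 b hb.1.1 hne hc)
      (by rw [mul_smul, hb.1.2, ha.1.2])))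

theorem Od_le_St (h2 : RkD D M) (hx : x ∈ Pt D Ω M) : Od M ≤ St G x :=
  h.odd_le_St (odd_Od M) (h2.mono (le_nor_piCoreOf _ M)) (Pt_mono (le_nor_piCoreOf _ M) hx)

theorem delta_cen {c a b : G} (ho : Odd (orderOf c)) (hc : c ≠ 1) (ha : a ∈ D) (hb : b ∈ D)
    (hi : a * c * a = c⁻¹) (hcb : b * c = c * b) (hx : a • x = x) : Cen1 c ≤ St G x := by
  intro g hg
  obtain ⟨y, hy⟩ := h.ex hb
  obtain rfl := h.delta ho hc ha hb hi hcb hx hy
  refine (h.delta ho hc ha (h.conj b hb g) hi ?_ hx (conj_smul hy)).symm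
  have e := c1_iff.mp hg
  calc g * b * g⁻¹ * c = g * b * g⁻¹ * (c * g) * g⁻¹ := by group
    _ = g * (b * c) * g⁻¹ := by rw [← e]; group
    _ = (g * c) * b * g⁻¹ := by rw [hcb]; group
    _ = c * (g * b * g⁻¹) := by rw [e]; group

/-- if all elements of `D ∩ M_z` swap `x` and `y`, then `M_{xy}` fixes `z` -/
theorem two_le_of_count (htM : t ∈ M) (ht : t ∈ D) (hxy : t • x = y) (hne : x ≠ y)
    (hx : x ∈ Pt D Ω M) {z : Ω} (hz : t • z = z) (hX : ∀ s ∈ Dx D M z, s • x = y) :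
    M ⊓ (St G x ⊓ St G y) ≤ St G z := by
  have e : Dx D M z = Tx D M x y := Set.eq_of_subset_of_ncard_le
    (fun s hs => ⟨⟨hs.1.1, hX s hs⟩, hs.2⟩) (by
      rw [h.ncard_Tx hx (hxy ▸ h.Pt_smul' hx htM) hne, h.ncard_Dx hx ⟨t, ht, htM, hz⟩])
  intro g hg
  have : g * t * g⁻¹ ∈ Dx D M z := e ▸ ⟨⟨h.conj t ht g, by
    rw [mul_smul, mul_smul, inv_smul_eq_iff.mpr (show g • x = x from hg.2.1).symm, hxy]
    exact hg.2.2⟩, cmem hg.1 htM⟩
  exact h.uniq this.1.1 (conj_smul hz) this.1.2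

theorem two_not_le (h2 : RkD D M) (htM : t ∈ M) (ht : t ∈ D) (hxy : t • x = y) (hne : x ≠ y)
    (hx : x ∈ Pt D Ω M) {z : Ω} (hz : t • z = z) : ¬ M ⊓ (St G x ⊓ St G y) ≤ St G z := by
  intro hle
  have hz' : z ∈ Pt D Ω M := ⟨t, ht, htM, hz⟩
  have e : Tx D M x y = Dx D M z := Set.eq_of_subset_of_ncard_le (fun u hu => ⟨⟨hu.1.1, by
    have hk := h.mem_K_of_swap ht hxy hu.1.1 hu.1.2
    have : (u * t) • z = z := hle ⟨M.mul_mem hu.2 htM, hk.1, h.K_y ht hxy hk⟩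
    rwa [mul_smul, hz] at this⟩, hu.2⟩) (by
      rw [h.ncard_Tx hx (hxy ▸ h.Pt_smul' hx htM) hne, h.ncard_Dx hx hz'])
  obtain ⟨a, ha, b, hb, hab, hc⟩ := h.rk_at h2 hz'
  rw [← e] at ha hb
  exact hab (h.Tx_eq hne ha.1.1 hb.1.1 ha.1.2 hb.1.2 hc)

theorem rank_one (h1 : ¬ RkD D M) (htM : t ∈ M) (ht : t ∈ D) : Cm M t ≤ Od M :=
  zst htM (h.inv t ht) fun g hg e => by
    by_contra hne
    exact h1 ⟨t, ht, _, h.conj t ht g, htM, cmem hg htM, Ne.symm hne, e⟩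

/-- `[M_{xy}, t] ≤ O(M_{xy})` -/
theorem Cm_two (htM : t ∈ M) (ht : t ∈ D) (hxy : t • x = y) (hne : x ≠ y) :
    Cm (M ⊓ (St G x ⊓ St G y)) t ≤ Od (M ⊓ (St G x ⊓ St G y)) := by
  set E := M ⊓ (St G x ⊓ St G y) with hE
  have hyx := h.swap ht hxy
  have hn : t ∈ Nor E := mem_nor_inf (le_normalizer htM) (mem_nor_two hxy hyx)
  have h1 : t * t ∈ E := by rw [h.sq ht]; exact one_mem _
  have h2 := zst (M := E ⊔ zpowers t) (mem_sup_right (mem_zpowers t)) (h.inv t ht) fun g hg e => by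
    refine (h.Tx_eq hne ht (h.conj t ht g) hxy ?_ e).symm
    rw [mul_smul, mul_smul]
    rcases (mem_sup_zp hn h1).mp hg with e | e
    · rw [inv_smul_eq_iff.mpr (show g • x = x from e.2.1).symm, hxy]; exact e.2.2
    · have e1 : (g * t) • x = x := e.2.1
      have e2 : (g * t) • y = y := e.2.2
      rw [mul_smul, hxy] at e1
      rw [mul_smul, hyx] at e2
      rw [inv_smul_eq_iff.mpr e1.symm, hyx, e2]
  refine (le_inf ((Cm_mono le_sup_left t).trans h2) (Cm_le_self hn)).trans (le_Od inf_le_right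
    (H4.le_normalizer_inf (le_sup_left.trans (le_nor_piCoreOf _ _)) le_normalizer)
    (odd_of_le (odd_Od _) inf_le_left))

theorem K_mem_Od (htM : t ∈ M) (ht : t ∈ D) (hxy : t • x = y) (hne : x ≠ y) {k : G}
    (hk : k ∈ KK D t x) (hkM : k ∈ M) : k ∈ Od (M ⊓ (St G x ⊓ St G y)) :=
  h.Cm_two htM ht hxy hne (mem_Cm_of_inv (h.sq ht) ⟨hkM, hk.1, h.K_y ht hxy hk⟩
    (h.K_odd ht hxy hne hk) (h.K_inv ht hk))

theorem odd_two (hp : Pure D M) (hne : x ≠ y) : Odd (Nat.card ↥(M ⊓ (St G x ⊓ St G y))) :=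
  odd_of_no_inv fun a ha hi => hne (h.uniq (hp a ha.1 hi) ha.2.1 ha.2.2)

theorem sein (hp : Pure D M) (hx : x ∈ Pt D Ω M) (hn : ¬ M ≤ St G x) : SEin M (M ⊓ St G x) := by
  obtain ⟨a, ha, haM, hax⟩ := hx
  refine ⟨inf_le_left, fun e => hn (e.trans inf_le_right),
    even_of_inv ⟨haM, hax⟩ (h.inv a ha).1 (h.sq ha), fun g hg hgH =>
      odd_of_le (h.odd_two hp (x := x) (y := g • x) fun e => hgH ⟨hg, e.symm⟩)
        (le_inf (inf_le_left.trans inf_le_left) (le_inf (inf_le_left.trans inf_le_right) ?_))⟩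
  rw [← conjS_St]
  exact inf_le_right.trans (conjS_mono g inf_le_right)

/-- the strongly embedded theorem applied to `M / O(M)` -/
theorem exists_quot (hp : Pure D M) (h2 : RkD D M) (htM : t ∈ M) (ht : t ∈ D) (hxy : t • x = y)
    (hne : x ≠ y) (hx : x ∈ Pt D Ω M) :
    ∃ (X : Type u) (_ : Group X) (_ : Finite X) (f : M →* X), Function.Surjective f ∧
      f.ker = (Od M).subgroupOf M ∧ ∃ Q : Subgroup X,
        Hyp (H5.im f (M ⊓ St G x)) Q (H5.im f (M ⊓ (St G x ⊓ St G y))) (f ⟨t, htM⟩) := by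
  have htH : t ∉ M ⊓ St G x := fun e => hne (e.2.symm.trans hxy)
  have hs := h.sein hp hx fun e => htH ⟨htM, e htM⟩
  have h2 := h.rk2 h2
  obtain ⟨X, _, _, f, hf, hk⟩ := H5.exists_hom_ker_eq (le_nor_piCoreOf ({2}ᶜ : Set ℕ) M)
  have hO := hs.Od_le h2
  obtain ⟨Q, E, t', hh, -⟩ := seThm X _ (hs.im hf hk (odd_Od M) hO)
    (rk2_top_iff.mp (h2.im hk (odd_Od M))) (oddCore_eq_bot hf hk)
  refine ⟨X, inferInstance, inferInstance, f, hf, hk, Q, ?_⟩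
  have hh' := hh.change (u := f ⟨t, htM⟩) (fun e => htH ((mem_im_iff hk hO hs.le).mp e)) (by
    rw [← map_mul]; exact (congrArg f (Subtype.ext (h.sq ht))).trans (map_one f))
  have e : M ⊓ (St G x ⊓ St G y) = (M ⊓ St G x) ⊓ conjS t (M ⊓ St G x) := by
    rw [conjS_inf, conjS_St, conjS_eq_of_mem htM, hxy, ← inf_inf_distrib_left]
  rw [e]
  generalize M ⊓ St G x = H at *
  convert hh' using 1
  ext y
  obtain ⟨g, rfl⟩ := hf y
  have hO' : Od M ≤ H ⊓ conjS t H := le_inf hO (by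
    rw [← show conjS t (Od M) = Od M from mem_normalizer_iff_conjS.mp (le_nor_piCoreOf _ M htM)]
    exact conjS_mono t hO)
  rw [mem_im_iff hk hO' (inf_le_left.trans hs.le), mem_inf, mem_inf, mem_im_iff hk hO hs.le,
    mem_conjS, mem_conjS, ← map_inv, ← map_mul, ← map_mul, mem_im_iff hk hO hs.le]
  rfl

theorem exists_bend (hp : Pure D M) (h2 : RkD D M) (hx : x ∈ Pt D Ω M) (hn : ¬ M ≤ St G x) :
    ∃ T, Bend M x T := by
  obtain ⟨g0, hg0, hgx⟩ := SetLike.not_le_iff_exists.mp hn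
  have hne : x ≠ g0 • x := fun e => hgx e.symm
  obtain ⟨t, htM, ht, hxy⟩ := h.Pt_swap hx (h.Pt_smul' hx hg0) hne
  generalize g0 • x = y0 at hxy hne
  obtain ⟨X, _, _, f, hf, hk, Q, hh⟩ := h.exists_quot hp h2 htM ht hxy hne hx
  have hc := suzuki X ⊤ _ _ _ _ hh.toA1 hh.a3
  have hOM : Od M ≤ M := piCoreOf_le _ _
  have hO : Od M ≤ M ⊓ St G x := le_inf hOM (h.Od_le_St h2 hx)
  have hle : H5.pre f Q ≤ M ⊓ St G x := H5.pre_le_of_le_im hk hO inf_le_left hh.toA1.Q_le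
  have hod : Od M ≤ H5.pre f Q := H5.le_pre_of_ker hk hOM Q
  have ker : ∀ a : M, f a = 1 ↔ (a : G) ∈ Od M := fun a => H5.map_eq_one_iff_of_ker hk
  have tr0 : ∀ z : Ω, Del M z → z ≠ x → ∃ g ∈ H5.pre f Q, g • y0 = z := by
    intro z hz hzx
    obtain ⟨u, huM, rfl⟩ := h.Pt_trans hx ((h.del_iff hp).mp hz)
    have huM := LL_le M huM
    obtain ⟨q, hq, k, hk', e⟩ := hh.toA1.canon_left (mem_top (f ⟨u, huM⟩))
      fun e => hzx ((mem_im_iff hk hO inf_le_left).mp e).2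
    obtain ⟨q, rfl⟩ := hf q
    obtain ⟨k, rfl⟩ := hf k
    rw [← map_mul, ← map_mul, im_eq_iff hk] at e
    have e1 : (u⁻¹ * (q * t * k)) • x = x := (hO e).2
    have e2 : (k : G) • x = x := ((mem_im_iff hk hO inf_le_left).mp hk').2
    rw [mul_smul, inv_smul_eq_iff, mul_smul, mul_smul, e2, hxy] at e1
    exact ⟨q, H5.coe_mem_pre.mpr hq, e1⟩
  have tr : ∀ y z : Ω, Del M y → Del M z → y ≠ x → z ≠ x → ∃ g ∈ H5.pre f Q, g • y = z := by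
    intro y z hy hz hyx hzx
    obtain ⟨g1, h1, rfl⟩ := tr0 y hy hyx
    obtain ⟨g2, h2, rfl⟩ := tr0 z hz hzx
    exact ⟨g2 * g1⁻¹, mul_mem h2 (inv_mem h1), by rw [mul_smul, inv_smul_smul]⟩
  have hx' := (h.del_iff hp).mpr hx
  refine ⟨H5.pre f Q, hod, hle, H5.le_normalizer_pre inf_le_left hh.toA1.H_le_nor, ?_, ?_, ?_, tr,
    ?_, ?_, ?_, ?_, ?_, ?_⟩
  · have e1 := H5.card_mul_relIndex hle
    rw [H5.card_pre hf hk hOM, H5.card_eq_card_im_mul hk (inf_le_left (a := M) (b := St G x)),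
      inf_eq_right.mpr hO, hh.sd.card, mul_right_comm] at e1
    rw [Nat.eq_of_mul_eq_mul_left Nat.card_pos (Nat.eq_of_mul_eq_mul_right Nat.card_pos e1)]
    exact hh.odd
  · intro g hg
    obtain ⟨hgM, hq⟩ := H5.mem_pre.mp hg
    obtain ⟨k, e⟩ := hc.two ⟨_, hq⟩
    exact ⟨k, (ker (⟨g, hgM⟩ ^ 2 ^ k)).mp (by rw [map_pow]; exact congrArg Subtype.val e)⟩
  · intro g hg g' hg'
    obtain ⟨hgM, hq⟩ := H5.mem_pre.mp hg
    obtain ⟨hgM', hq'⟩ := H5.mem_pre.mp hg'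
    have hb := comm_mem_of_mem hg hg'
    have e : f ⟨⁅g, g'⁆, (hle hb).1⟩ = ⁅f ⟨g, hgM⟩, f ⟨g', hgM'⟩⁆ := by
      rw [← map_commutatorElement]; rfl
    have e2 : f ⟨⁅g, g'⁆, (hle hb).1⟩ * f ⟨⁅g, g'⁆, (hle hb).1⟩ = 1 := by
      rw [e]
      by_cases hab : Ab Q
      · rw [commutatorElement_eq_one_iff_mul_comm.mpr (hab _ hq _ hq'), one_mul]
      · obtain ⟨k, hk⟩ := hh.toA1.exists_gen_K hh.a3
        exact hh.toA1.Q0_sq hh.a3 ((hh.toA1.suz hh.a3 hk le_rfl A1.Q0_le_Q hc.two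
          (hh.toA1.K_le_nor_Q (hk ▸ mem_zpowers k))).comm_mem hab hq hq')
    obtain ⟨a, ha, haM, e3, e4⟩ := lift_inv hk (odd_Od M) (hle hb).1 e2
    refine ⟨a, zpowers_le.mpr (hle hb) ha, e3, (ker (⟨_, (hle hb).1⟩ * ⟨a, haM⟩)).mp ?_⟩
    rw [map_mul, e4, e2]
  · intro y hy hyx g hg
    obtain ⟨g1, h1, rfl⟩ := tr0 y hy hyx
    have h3 : g1⁻¹ * g * g1 ∈ H5.pre f Q := mul_mem (mul_mem (inv_mem h1) hg.1) h1
    obtain ⟨hgM, hq⟩ := H5.mem_pre.mp h3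
    have h4 := (ker _).mp (hh.toA1.eq_one_of_mem_QD hq (H5.mem_im_of_mem hgM ⟨hgM, (hle h3).2, by
      change (g1⁻¹ * g * g1) • y0 = y0
      rw [mul_smul, mul_smul, show g • g1 • y0 = g1 • y0 from hg.2, inv_smul_smul]⟩))
    have := H5.conj_mem_of_mem_normalizer (le_nor_piCoreOf _ M (hle h1).1) h4
    simpa [mul_assoc] using this
  · intro a ha h2
    exact H5.mem_pre.mpr ⟨ha.1, hh.toA1.inv_mem_Q (H5.mem_im_of_mem ha.1 ha) (by
      rw [← map_mul]; exact (congrArg f (Subtype.ext h2)).trans (map_one f))⟩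
  · intro a ha h2 g hg
    obtain ⟨hgM, hq⟩ := H5.mem_pre.mp hg
    have e : f ⟨a, ha.1⟩ * f ⟨a, ha.1⟩ = 1 := by
      rw [← map_mul]; exact (congrArg f (Subtype.ext h2)).trans (map_one f)
    refine (ker ⁅(⟨a, ha.1⟩ : M), ⟨g, hgM⟩⁆).mp ?_
    rw [map_commutatorElement, commutatorElement_eq_one_iff_mul_comm]
    exact (hh.toA1.inv_comm hh.a3 (hh.toA1.inv_mem_Q (H5.mem_im_of_mem ha.1 ha) e) e hq).symm
  · intro Y hY hn ho
    rw [← H5.im_eq_bot_iff hk (hY.trans inf_le_left), eq_bot_iff, ← hh.faith]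
    have h1 : H5.im f (M ⊓ St G x) ≤ Nor (H5.im f Y) := H5.im_le_normalizer hn
    have h2 : PiG ({2}ᶜ : Set ℕ) (H5.im f Y) := (odd_iff_piG.mp ho).im f
    have h3 : PiG ({2} : Set ℕ) Q := piG_singleton.mpr hc.two
    have h4 : H5.im f Y ≤ H5.im f (M ⊓ St G x) := H5.im_mono hY
    refine le_inf (fun a ha => ?_) ?_
    · obtain ⟨q, hq, d, hd, rfl⟩ := hh.sd.exists_mul (h4 ha)
      have h5 := (odd_iff_piG.mp hh.odd).sup h2 (hh.toA1.D_le.trans h1)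
      have h6 : q ∈ Q ⊓ (H5.im f (M ⊓ (St G x ⊓ St G y0)) ⊔ H5.im f Y) :=
        ⟨hq, H5.mem_of_eq (mul_mem (mem_sup_right ha) (mem_sup_left (inv_mem hd))) (by group)⟩
      rw [h3.inf_eq_bot h5, mem_bot] at h6
      rwa [h6, one_mul]
    · rw [← commutator_eq_bot_iff_le_centralizer, eq_bot_iff, ← h3.inf_eq_bot h2, inf_comm]
      exact commutator_le_inf_of_normalizer (h4.trans hh.toA1.H_le_nor) (hh.toA1.Q_le.trans h1)
  · intro N hN hn he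
    have : (H5.im f N).Normal := normal_of_top_le_normalizer (by
      rw [← H5.im_self hf]; exact H5.im_le_normalizer hn)
    have h0 : H5.im f N ≠ ⊥ := fun e => (Nat.not_even_iff_odd.mpr (BS.odd_of_le (odd_Od M)
      ((H5.im_eq_bot_iff hk hN).mp e))) he
    rw [← H5.pre_im hk hOM hN]
    exact H5.pre_mono (hh.le_of_normal h0).1
  · intro y hy hyx g hg
    by_cases hgx : g • x = x
    · exact mem_sup_left ⟨hg, hgx⟩
    obtain ⟨s, hsM, hs, hsy⟩ := hy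
    obtain ⟨q, hq, e⟩ := tr (s • x) (g • x) (hx'.smul hsM) (hx'.smul hg)
      (fun e => hyx (h.uniq (hp s hsM hs) hsy e)) hgx
    have h1 : g⁻¹ * q * s ∈ M ⊓ St G x := ⟨M.mul_mem (M.mul_mem (M.inv_mem hg) (hle hq).1) hsM, by
      change (g⁻¹ * q * s) • x = x
      rw [mul_smul, mul_smul, e, inv_smul_smul]⟩
    exact H5.mem_of_eq (mul_mem (mul_mem (mem_sup_left (hle hq)) (mem_sup_right ⟨hsM, hsy⟩))
      (mem_sup_left (inv_mem h1))) (by group)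

end PD

end SF
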