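import Cfsg.Agent.SF.D
import Cfsg.Agent.BS.SE6

/-! The minimal counterexample; either (**) or a diamond. -/

set_option autoImplicit false
set_option linter.unusedSectionVars false

namespace SF

open Cfsg Subgroup FT H4 BS
open scoped commutatorElement

universe u

section Gen
variable {G : Type*} [Group G] [Finite G]

theorem Cm_Cm' {X : Subgroup G} {t : G} (ht : Inv t) (hn : t ∈ Nor X)
    (ho : Odd (Nat.card (Cm X t))) : Cm (Cm X t) t = Cm X t := by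
  refine le_antisymm (Cm_mono (Cm_le_self hn) t) (Cm_le ht fun g hg => ?_)
  obtain ⟨o, ho, c, -, e, rfl⟩ := exists_oc ht ho (Cm_le_self hn) le_rfl hg
  have : o * c * t * (o * c)⁻¹ * t = o * t * o⁻¹ * t := by rw [mul_assoc o, e]; group
  rw [this]
  exact mem_Cm ht.2 ho

theorem Od_le_Od {N M : Subgroup G} (h1 : N ≤ M) (h2 : M ≤ Nor N) : Od N ≤ Od M :=
  le_Od ((piCoreOf_le _ _).trans h1) (h2.trans (nor_le_nor_piCoreOf _ _)) (odd_Od N)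

theorem inf_le_Od {X N : Subgroup G} (ho : Odd (Nat.card X)) (h2 : N ≤ Nor X) : X ⊓ N ≤ Od N :=
  le_Od inf_le_right (H4.le_normalizer_inf h2 le_normalizer) (odd_of_le ho inf_le_left)

theorem mem_of_sup_odd {L Y : Subgroup G} (ho : Odd (Nat.card Y)) (hn : Y ≤ Nor L) {r : G}
    (hr : r ∈ L ⊔ Y) {k : ℕ} (h2 : r ^ 2 ^ k ∈ L) : r ∈ L := by
  obtain ⟨l, hl, y, hy, rfl⟩ := (H4.mem_sup_of_le_normalizer_left hn).mp hr
  have h1 := SQ.pow_mul_mem (hn hy) hl (2 ^ k)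
  have h3 : y ^ 2 ^ k ∈ L := by
    have := mul_mem (inv_mem h1) h2
    simpa using this
  exact mul_mem hl (mem_of_pow_mem_of_coprime h3 (Nat.Coprime.pow_right k
    (Nat.coprime_two_right.mpr (odd_orderOf_of_mem ho hy))))

end Gen

variable {G : Type u} [Group G] [Finite G] {Ω : Type*} [MulAction G Ω] {D : Set G}

theorem Pure.sup {L Y : Subgroup G} (hp : Pure D L) (ho : Odd (Nat.card Y)) (hn : Y ≤ Nor L) :
    Pure D (L ⊔ Y) := fun r hr hi =>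
  hp r (mem_of_sup_odd ho hn hr (k := 1) (by rw [pow_one, pow_two, hi.2]; exact one_mem _)) hi

theorem Pure.mono {L M : Subgroup G} (hp : Pure D M) (h : L ≤ M) : Pure D L :=
  fun r hr => hp r (h hr)

theorem Pt_LL' {M : Subgroup G} {x : Ω} (hx : x ∈ Pt D Ω M) : x ∈ Pt D Ω (LL D M) := by
  rwa [Pt_LL]

theorem Pt_of {L M : Subgroup G} (h1 : LL D M ≤ L) {x : Ω} (hx : x ∈ Pt D Ω M) : x ∈ Pt D Ω L :=
  Pt_mono h1 (Pt_LL' hx)

theorem conjS_ne_top {M : Subgroup G} (h : M ≠ ⊤) (g : G) : conjS g M ≠ ⊤ := fun e =>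
  h (by rw [← conjS_inv_conjS g M, e]; exact conjS_eq_of_mem (mem_top _))

/-- a subgroup of `D`-rank at least two moving a point of its point set -/
structure Lr (D : Set G) (M : Subgroup G) (x : Ω) : Prop where
  rk : RkD D M
  pt : x ∈ Pt D Ω M
  ne : ¬ M ≤ St G x

namespace PD
variable (h : PD D Ω) {M : Subgroup G} {x y : Ω}
include h

theorem not_le_of_ne (hy : y ∈ Pt D Ω M) (hne : y ≠ x) : ¬ M ≤ St G x := fun hle => by
  obtain ⟨a, h1, h2, h3⟩ := hy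
  exact hne (h.uniq h1 h3 (hle h2))

theorem exists_ne (hx : x ∈ Pt D Ω M) (hn : ¬ M ≤ St G x) : ∃ y ∈ Pt D Ω M, y ≠ x := by
  obtain ⟨g, hg, hgx⟩ := SetLike.not_le_iff_exists.mp hn
  exact ⟨g • x, h.Pt_smul' hx hg, hgx⟩

theorem lr_at (l : Lr D M x) (hy : y ∈ Pt D Ω M) : Lr D M y := by
  refine ⟨l.rk, hy, ?_⟩
  obtain ⟨z, hz, hzx⟩ := h.exists_ne l.pt l.ne
  by_cases e : x = y
  · exact e ▸ l.ne
  · exact h.not_le_of_ne l.pt e

theorem lr_of (l : Lr D M x) {L : Subgroup G} (h1 : LL D M ≤ L) (h2 : L ≤ M) : Lr D L x := by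
  obtain ⟨z, hz, hzx⟩ := h.exists_ne l.pt l.ne
  exact ⟨l.rk.LL.mono h1, Pt_of h1 l.pt, h.not_le_of_ne (Pt_of h1 hz) hzx⟩

theorem conj_at (hx : x ∈ Pt D Ω M) (hn : ¬ M ≤ St G x) {a b : G} (ha : a ∈ Dx D M y)
    (hb : b ∈ Dx D M y) : ∃ g ∈ LL D M, g • y = y ∧ g * a * g⁻¹ = b := by
  obtain ⟨z, hz, hzx⟩ := h.exists_ne hx hn
  obtain ⟨g, hg, e⟩ := h.conj_D hz hx hzx ha.2 ha.1.1 hb.2 hb.1.1
  exact ⟨g, hg, h.uniq hb.1.1 (e ▸ conj_smul ha.1.2) hb.1.2, e⟩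

/-- a normal subgroup missing `D` fixes the points -/
theorem le_St_of_normal (hp : Pure D (LL D M)) (l : Lr D M x) {C : Subgroup G} (hC : C ≤ M)
    (hn : M ≤ Nor C) {t : G} (ht : t ∈ D) (htM : t ∈ M) (htC : t ∉ C) : C ≤ St G x := by
  obtain ⟨z, hz, hzx⟩ := h.exists_ne l.pt l.ne
  have h1 : C ⊓ LL D M ≤ St G x := by
    refine (inf_le_Od (N := LL D M) (X := C ⊓ LL D M) (odd_of_no_inv fun a ha hi => ?_)
      (H4.le_normalizer_inf ((LL_le M).trans hn) le_normalizer)).trans'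
        (le_inf le_rfl inf_le_right) |>.trans (h.Od_le_St l.rk.LL (Pt_LL' l.pt))
    obtain ⟨g, hg, rfl⟩ := h.conj_D hz l.pt hzx (LL_le M ha.2) (hp a ha.2 hi) htM ht
    exact htC (conj_mem (hn (LL_le M hg)) ha.1)
  obtain ⟨a, ha, haM, hax⟩ := l.pt
  intro c hc
  have e : c * a * c⁻¹ * a ∈ C ⊓ LL D M := ⟨by
    have := mul_mem hc (conj_mem (hn haM) (inv_mem hc))
    rwa [h.inv_eq ha, ← mul_assoc, ← mul_assoc] at this,
    mul_mem (mem_LL (h.conj a ha c) (cmem (hC hc) haM)) (mem_LL ha haM)⟩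
  have e1 : (c * a * c⁻¹ * a) • x = x := h1 e
  rw [mul_smul, hax] at e1
  exact h.uniq (h.conj a ha c) (conj_smul hax) e1

theorem le_LL_sup (hp : Pure D (LL D M)) (l : Lr D M x) (hy : y ∈ Pt D Ω M) (hne : y ≠ x) :
    M ≤ LL D M ⊔ (M ⊓ (St G x ⊓ St G y)) := by
  have l' := h.lr_of l le_rfl (LL_le M)
  obtain ⟨T, b⟩ := h.exists_bend hp l'.rk l'.pt l'.ne
  have hd : ∀ z ∈ Pt D Ω M, Del (LL D M) z := fun z hz => (h.del_iff hp).mpr (Pt_LL' hz)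
  intro g hg
  obtain ⟨u, hu, e⟩ := h.Pt_trans l.pt (h.Pt_smul' l.pt hg)
  have h1 : u⁻¹ * g ∈ M := mul_mem (inv_mem (LL_le M hu)) hg
  have h2 : (u⁻¹ * g) • x = x := by rw [mul_smul, ← e, inv_smul_smul]
  obtain ⟨k, hk, e'⟩ := b.tr y ((u⁻¹ * g) • y) (hd y hy) (hd _ (h.Pt_smul' hy h1)) hne
    fun e => hne (MulAction.injective _ (e.trans h2.symm))
  have hk' := b.le hk
  refine H5.mem_of_eq (mul_mem (mem_sup_left (mul_mem hu hk'.1)) (mem_sup_right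
    (show k⁻¹ * (u⁻¹ * g) ∈ _ from ⟨M.mul_mem (M.inv_mem (LL_le M hk'.1)) h1,
      mul_mem ((St G x).inv_mem hk'.2) h2, ?_⟩))) (by group)
  change (k⁻¹ * (u⁻¹ * g)) • y = y
  rw [mul_smul, ← e', inv_smul_smul]

theorem Cm_le_Od (hp : Pure D (LL D M)) {X : Subgroup G} {t : G} (l : Lr D M x)
    (hX : X ≤ M ⊓ St G x) (ho : Odd (Nat.card X)) (ht : t ∈ Dx D M x) (hn : t ∈ Nor X) :
    Cm X t ≤ Od (LL D M) := by
  have h1 : X ≤ Nor (LL D M) := hX.trans (inf_le_left.trans (le_normalizer.trans (h.nor_le_nor_LL M)))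
  have h2 : LL D M ⊔ X ≤ M := sup_le (LL_le M) (hX.trans inf_le_left)
  have l' := h.lr_of l le_sup_left h2
  obtain ⟨T, b⟩ := h.exists_bend (hp.sup ho h1) l'.rk l'.pt l'.ne
  have htL := mem_LL ht.1.1 ht.2
  refine (le_inf (b.Cm_le (le_inf le_sup_right (hX.trans inf_le_right)) ho (h.inv t ht.1.1)
    ⟨mem_sup_left htL, ht.1.2⟩ hn) (Cm_le (h.inv t ht.1.1) fun g hg =>
      mul_mem (conj_mem (h1 hg) htL) htL)).trans
        (inf_le_Od (odd_Od _) (le_sup_left.trans (le_nor_piCoreOf _ _)))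

theorem bend_sylow {T : Subgroup G} (b : Bend M x T) (hp : Pure D M) (h2 : RkD D M)
    (hy : y ∈ Pt D Ω M) (hne : y ≠ x) {r : ℕ} [hr : Fact r.Prime] (hr2 : r ≠ 2) {R : Subgroup G}
    (hR : H5.IsSylowOf r R (M ⊓ (St G x ⊓ St G y))) : H5.IsSylowOf r R (M ⊓ St G x) := by
  set B := M ⊓ (St G x ⊓ St G y) with hB
  have hBY : B ≤ M ⊓ St G x := inf_le_inf_left _ inf_le_left
  refine ⟨hR.le.trans hBY, hR.isPGroup, ?_⟩
  rw [← relIndex_mul_relIndex R B _ hR.le hBY]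
  refine fun hd => (hr.out.dvd_mul.mp hd).elim hR.not_dvd fun hd => b.not_dvd hr2 ?_
  have hO : Od M ≤ T ⊓ B := le_inf b.od_le (le_inf (piCoreOf_le _ _)
    (le_inf (b.od_le.trans (b.le.trans inf_le_right)) (h.Od_le_St h2 hy)))
  have e1 := H5.card_sup_mul_card_inf (K := T) (A := B) (hBY.trans b.nor)
  rw [← b.eq_sup ((h.del_iff hp).mpr hy) hne, ← H5.card_mul_relIndex hBY,
    ← H5.card_mul_relIndex (inf_le_left (a := T) (b := B))] at e1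
  have e2 : B.relIndex (M ⊓ St G x) = (T ⊓ B).relIndex T := by
    have p1 : 0 < Nat.card B := Nat.card_pos
    have p2 : 0 < Nat.card ↥(T ⊓ B) := Nat.card_pos
    refine Nat.eq_of_mul_eq_mul_left (Nat.mul_pos p1 p2) ?_
    linarith
  exact (e2 ▸ hd).trans (relIndex_dvd_of_le_left T hO)

theorem bend_invHyp {T : Subgroup G} (b : Bend M x T) (hp : Pure D M) (l : Lr D M x) :
    InvHyp (M ⊓ St G x) (Od M) where
  le := b.od_le.trans b.le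
  nor := inf_le_left.trans (le_nor_piCoreOf _ _)
  odd := odd_Od M
  comm := fun a ha c hc e1 e2 => b.inv_comm a ha e1 c (b.inv_mem c hc e2)
  conj := fun a ha c hc e1 e2 e3 e4 => by
    obtain ⟨g, h1, h2, h3⟩ := h.conj_at l.pt l.ne ⟨⟨hp a ha.1 ⟨e1, e3⟩, ha.2⟩, ha.1⟩
      ⟨⟨hp c hc.1 ⟨e2, e4⟩, hc.2⟩, hc.1⟩
    exact ⟨g, ⟨LL_le M h1, h2⟩, h3⟩
  four := by
    obtain ⟨a, ha, c, hc, e, e'⟩ := h.rk_at l.rk l.pt
    exact ⟨a, ⟨ha.2, ha.1.2⟩, c, ⟨hc.2, hc.1.2⟩, (h.inv a ha.1.1).1, (h.inv c hc.1.1).1, e,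
      h.sq ha.1.1, h.sq hc.1.1, e'⟩

/-- `G_{xy} = O(G_{xy}) C(t)` -/
theorem exists_oc_two {t g : G} (htM : t ∈ M) (ht : t ∈ D) (hxy : t • x = y) (hne : x ≠ y)
    (hg : g ∈ M ⊓ (St G x ⊓ St G y)) : ∃ o ∈ Od (M ⊓ (St G x ⊓ St G y)),
      ∃ c ∈ M ⊓ (St G x ⊓ St G y), c * t = t * c ∧ g = o * c :=
  exists_oc (h.inv t ht) (odd_Od _) (piCoreOf_le _ _) (h.Cm_two htM ht hxy hne) hg

end PD

/-- the minimal counterexample -/
structure Mc (D : Set G) (Ω : Type*) [MulAction G Ω] : Prop extends PD D Ω where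
  gen : closure D = ⊤
  all : ∀ x : Ω, x ∈ Pt D Ω ⊤
  rk : RkD D ⊤
  two : ∀ x : Ω, ∃ y : Ω, y ≠ x
  faith : ∀ g : G, (∀ x : Ω, g • x = x) → g = 1
  ih : ∀ (M : Subgroup G) (x : Ω), M ≠ ⊤ → Lr D M x → Pure D (LL D M)

/-- (**) -/
def Star (D : Set G) (Ω : Type*) [MulAction G Ω] : Prop :=
  ∀ t ∈ D, ∀ τ γ : Ω, t • τ = τ → γ ≠ τ → Ug t τ γ ≤ Cen1 t

/-- the diamond -/
def Dia (D : Set G) (x : Ω) : Prop := ∃ M : Subgroup G, M ≠ ⊤ ∧ Ax D x ≤ M ∧ ¬ M ≤ St G x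

/-- a maximal nontrivial `[G_{τ, γ, t γ}, t]` -/
structure MX (D : Set G) (t : G) (τ : Ω) (X : Subgroup G) : Prop where
  inv : t ∈ D
  fix : t • τ = τ
  ne : X ≠ ⊥
  ex : ∃ γ : Ω, γ ≠ τ ∧ X = Cm (Ug t τ γ) t
  max : ∀ γ : Ω, γ ≠ τ → X ≤ Cm (Ug t τ γ) t → Cm (Ug t τ γ) t ≤ X

namespace PD
variable (h : PD D Ω) {t : G} {τ : Ω} {X : Subgroup G}
include h

theorem Cm_E (ht : t ∈ D) (hτ : t • τ = τ) {γ : Ω} (hγ : γ ≠ τ) :
    Cm (St G γ ⊓ St G (t • γ)) t ≤ Od (St G γ ⊓ St G (t • γ)) := by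
  have := h.Cm_two (mem_top t) ht rfl (h.ne_smul ht hτ hγ)
  rwa [top_inf_eq] at this

theorem Cm_Ug_le (ht : t ∈ D) (hτ : t • τ = τ) {γ : Ω} (hγ : γ ≠ τ) :
    Cm (Ug t τ γ) t ≤ Od (St G γ ⊓ St G (t • γ)) :=
  (Cm_mono inf_le_right t).trans (h.Cm_E ht hτ hγ)

variable (m : MX D t τ X)
include m

theorem mx_le : X ≤ St G τ := by
  obtain ⟨γ, -, rfl⟩ := m.ex
  exact (Cm_le_self (t_mem_nor_Ug (h.inv t m.inv) m.fix γ)).trans inf_le_left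

theorem mx_nor : t ∈ Nor X := by
  obtain ⟨γ, -, rfl⟩ := m.ex
  exact t_mem_nor_Cm (t_mem_nor_Ug (h.inv t m.inv) m.fix γ)

theorem mx_odd : Odd (Nat.card X) := by
  obtain ⟨γ, hγ, rfl⟩ := m.ex
  exact odd_of_le (odd_Od _) (h.Cm_Ug_le m.inv m.fix hγ)

theorem mx_Cm : Cm X t = X := by
  have := h.mx_odd m
  obtain ⟨γ, hγ, rfl⟩ := m.ex
  exact Cm_Cm' (h.inv t m.inv) (t_mem_nor_Ug (h.inv t m.inv) m.fix γ) this

theorem mx_eq {γ : Ω} (hγ : γ ≠ τ) (hX : X ≤ St G γ) : Cm (Ug t τ γ) t = X := by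
  have e : X ≤ Cm (Ug t τ γ) t := (h.mx_Cm m).ge.trans
    (Cm_mono (le_inf (h.mx_le m) (le_inf hX (le_St_smul hX (h.mx_nor m)))) t)
  exact le_antisymm (m.max γ hγ e) e

theorem r1a {M : Subgroup G} (hX : X ≤ M) (htM : t ∈ M) (hn : ¬ M ≤ St G τ)
    (h1 : ¬ RkD D M) : Cm (M ⊓ St G τ) t ≤ X ∧ ∃ f ∈ M, Odd (orderOf f) ∧ t * f * t = f⁻¹ ∧
      f • τ ≠ τ ∧ ∃ J, X ≤ J ∧ J ≤ St G τ ∧ f ∈ Nor J := by
  have ht := h.inv t m.inv
  have hC := h.cen_le m.inv m.fix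
  have r1 := fun g (hg : g ∈ M) =>
    exists_oc ht (odd_Od M) (piCoreOf_le _ _) (h.rank_one h1 htM m.inv) hg
  have hE : ¬ Od M ≤ St G τ := fun e => hn fun g hg => by
    obtain ⟨o, ho, c, -, e1, rfl⟩ := r1 g hg
    exact mul_mem (e ho) (hC (c1_iff.mpr e1))
  obtain ⟨J, j1, j2, j3, f, f1, f2, f3, f4⟩ := exists_ch ht (odd_Od M)
    (le_nor_piCoreOf _ _ htM) (t_mem_nor_St m.fix) hC hE
  have e1 : Cm (M ⊓ St G τ) t ≤ Cm (Od M ⊓ St G τ) t := by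
    refine Cm_le ht fun g hg => ?_
    obtain ⟨o, ho, c, -, e1, rfl⟩ := r1 g hg.1
    have : o * c * t * (o * c)⁻¹ * t = o * t * o⁻¹ * t := by
      rw [mul_assoc o, e1]; group
    rw [this]
    exact mem_Cm ht.2 ⟨ho, (mul_mem_cancel_right (hC (c1_iff.mpr e1))).mp hg.2⟩
  have e2 : X ≤ Cm (Od M ⊓ St G τ) t :=
    (h.mx_Cm m).ge.trans ((Cm_mono (le_inf hX (h.mx_le m)) t).trans e1)
  have e3 : J ≤ St G τ := j2.trans inf_le_right
  have e4 : J ≤ St G (f • τ) := le_St_smul e3 f2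
  refine ⟨e1.trans ?_, f, piCoreOf_le _ _ f1, odd_orderOf_of_mem (odd_Od M) f1, f3, f4, J,
    e2.trans j1, e3, f2⟩
  rw [← h.mx_eq m f4 ((e2.trans j1).trans e4), ← Cm_Cm ht
    (mem_nor_inf (le_nor_piCoreOf _ _ htM) (t_mem_nor_St m.fix)) (odd_of_le (odd_Od M) inf_le_left)]
  exact Cm_mono (j1.trans (le_inf e3 (le_inf e4 (le_St_smul e4 j3)))) t

theorem r1b {M : Subgroup G} (hX : X ≤ M) (htM : t ∈ M) (hn : ¬ M ≤ St G τ)
    (h1 : ¬ RkD D M) {γ : Ω} (hγ : γ ∈ Pt D Ω M) (hne : γ ≠ τ) (hXγ : X ≤ St G γ) :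
    M ⊓ (St G γ ⊓ St G (t • γ)) ≤ St G τ := by
  have e := (h.r1a m hX htM hn h1).1
  refine h.two_le_of_count htM m.inv rfl (h.ne_smul m.inv m.fix hne) hγ m.fix fun s hs => ?_
  obtain ⟨g, hg, hgτ, rfl⟩ := h.conj_at ⟨t, m.inv, htM, m.fix⟩ hn ⟨⟨m.inv, m.fix⟩, htM⟩ hs
  have e1 : (g * t * g⁻¹ * t) • t • γ = t • γ :=
    le_St_smul hXγ (h.mx_nor m) (e (mem_Cm (h.sq m.inv) ⟨LL_le M hg, hgτ⟩))
  rwa [mul_smul, h.smul_smul m.inv] at e1

end PD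

namespace Mc
variable (h : Mc D Ω)
include h

theorem trans (x y : Ω) : ∃ g : G, g • x = y :=
  let ⟨g, _, e⟩ := h.Pt_trans (h.all x) (h.all y)
  ⟨g, e⟩

theorem eq_bot_of_normal {N : Subgroup G} (hn : Nor N = ⊤) {x : Ω} (hx : N ≤ St G x) : N = ⊥ := by
  refine eq_bot_iff.mpr fun g hg => h.faith g fun y => ?_
  obtain ⟨k, rfl⟩ := h.trans x y
  exact le_St_smul hx (hn ▸ mem_top k) hg

theorem ex_pt : Nonempty Ω :=
  let ⟨_, ha, _⟩ := h.rk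
  let ⟨x, _⟩ := h.ex ha
  ⟨x⟩

theorem nor_ne_top {X : Subgroup G} (h0 : X ≠ ⊥) (ho : Odd (Nat.card X)) : Nor X ≠ ⊤ := fun e => by
  obtain ⟨x⟩ := h.ex_pt
  exact h0 (h.eq_bot_of_normal e (h.odd_le_St ho (e ▸ h.rk) (e ▸ h.all x)))

theorem nor_eq {M X : Subgroup G} (hM : IsCoatom M) (h0 : X ≠ ⊥) (ho : Odd (Nat.card X))
    (hn : M ≤ Nor X) : Nor X = M :=
  (hM.le_iff.mp hn).resolve_left (h.nor_ne_top h0 ho)

theorem top_not_le (x : Ω) : ¬ (⊤ : Subgroup G) ≤ St G x :=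
  let ⟨y, hy⟩ := h.two x
  h.not_le_of_ne (h.all y) hy

theorem lr_top (x : Ω) : Lr D ⊤ x := ⟨h.rk, h.all x, h.top_not_le x⟩

theorem two_not_le' {t : G} (ht : t ∈ D) {γ τ : Ω} (hτ : t • τ = τ) (hne : γ ≠ τ) :
    ¬ Od (St G γ ⊓ St G (t • γ)) ≤ St G τ := fun hle => by
  have hne' := h.ne_smul ht hτ hne
  refine h.two_not_le h.rk (mem_top t) ht rfl hne' (h.all γ) hτ fun g hg => ?_
  obtain ⟨o, ho, c, -, e, rfl⟩ := h.exists_oc_two (mem_top t) ht rfl hne' hg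
  rw [top_inf_eq] at ho
  exact mul_mem (hle ho) (h.cen_le ht hτ (c1_iff.mpr e))

variable {t : G} {τ : Ω} {X : Subgroup G} (m : MX D t τ X)
include m

theorem sn_X {γ : Ω} (hγ : γ ≠ τ) {E : Subgroup G} (ho : Odd (Nat.card E)) (hn : t ∈ Nor E)
    (h1 : X ≤ E) (h2 : E ≤ St G γ ⊓ St G (t • γ)) : SN E X := by
  have hsn := sn_Cm (h.inv t m.inv) ho hn (inf_le_right (a := St G τ))
    (mem_nor_inf (t_mem_nor_St m.fix) hn)
    (le_inf (inf_le_right.trans (h.cen_le m.inv m.fix)) inf_le_left)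
  rwa [le_antisymm ((Cm_mono (inf_le_inf_left _ h2) t).trans
    (h.mx_eq m hγ (h1.trans (h2.trans inf_le_left))).le)
      ((h.mx_Cm m).ge.trans (Cm_mono (le_inf (h.mx_le m) h1) t))] at hsn

theorem ci (h1 : ∀ M : Subgroup G, M ≠ ⊤ → X ≤ M → t ∈ M → ¬ M ≤ St G τ → ¬ RkD D M) {f : G}
    (ho : Odd (orderOf f)) (hi : t * f * t = f⁻¹) (hne : f • τ ≠ τ) {J : Subgroup G} (hX : X ≤ J)
    (hJ : J ≤ St G τ) (hf : f ∈ Nor J) (hJo : Odd (Nat.card J))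
    (hmax : ∀ J', J ≤ J' → J' ≤ Ug t τ (f • τ) → Nor J ⊓ Ug t τ (f • τ) ≤ J' → f ∈ Nor J' →
      Od J' ≤ J) {r : ℕ} [Fact r.Prime]
    (hr : pCoreIn r X ≠ ⊥) : Od (St G (f • τ) ⊓ St G (t • f • τ)) ≤ Nor (pCoreIn r X) := by
  have ht := h.inv t m.inv
  have e := t_smul_of_inv ht m.fix hi
  have hJU : J ≤ Ug t τ (f • τ) := le_inf hJ (le_inf (le_St_smul hJ hf)
    (by rw [e]; exact le_St_smul hJ (inv_mem hf)))
  have hXU := h.mx_eq m hne (hX.trans (le_St_smul hJ hf))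
  have htJ : t ∈ Nor J := mem_nor_of_Cm_le ht.2 (hXU.le.trans hX) hJU
  set E := St G (f • τ) ⊓ St G (t • f • τ) with hE
  have hJE : J ≤ E := hJU.trans inf_le_right
  have hJO : J ≤ Nor (Od E) := hJE.trans (le_nor_piCoreOf _ _)
  have hD : Odd (Nat.card ↥(Od E ⊔ J)) := by rw [sup_comm]; exact odd_sup hJo (odd_Od E) hJO
  have hUX : Ug t τ (f • τ) ≤ Nor X := by rw [← hXU]; exact le_nor_Cm _ _
  have hsn := h.sn_X m hne hD (mem_nor_sup (nor_le_nor_piCoreOf _ _ (t_mem_nor_D ht _)) htJ)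
    (hX.trans le_sup_right) (sup_le (piCoreOf_le _ _) hJE)
  refine le_sup_left.trans ((lemmaS1 (r := r) hD le_sup_right (fun C c0 c1 c2 => ?_)
    (fun e => hr (le_bot_iff.mp ((pCoreIn_le_of_normal hX (hJU.trans hUX)).trans e.le)))).trans
    (sup_le ((pPrimeCoreIn_le_cen _ _).trans ((centralizer_anti hsn.pCoreIn_le).trans
      (centralizer_le_normalizer _))) ((hJU.trans hUX).trans (normalizer_le_normalizer_pCoreIn _ _))))
  have n1 : ¬ Nor C ≤ St G τ := fun e => hne (e (c2 hf))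
  have n2 : X ≤ Nor C := hX.trans (le_normalizer.trans c2)
  have n3 := h1 (Nor C) (h.nor_ne_top c0 (odd_of_le hJo c1)) n2 (c2 htJ) n1
  have key : ∀ k ∈ zpowers f, k • τ ≠ τ →
      Nor C ⊓ (St G (k • τ) ⊓ St G (k⁻¹ • τ)) ≤ St G τ := by
    intro k hk hkτ
    have hkJ : k ∈ Nor J := zpowers_le.mpr hf hk
    rw [← t_smul_of_inv ht m.fix (inv_zpowers ht hi hk)]
    exact h.r1b m n2 (c2 htJ) n1 n3 (h.Pt_smul' ⟨t, m.inv, c2 htJ, m.fix⟩ (c2 hkJ)) hkτ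
      (hX.trans (le_St_smul hJ hkJ))
  have k1 := mid (c2 hf) ho hne key
  have k2 := key f (mem_zpowers f) hne
  rw [← e] at k1 k2
  rw [H5.sup_inf_of_le_normalizer' hJO (le_normalizer.trans c2)]
  refine sup_le (le_trans ?_ (hmax _ (le_inf (le_normalizer.trans c2) hJE)
    (le_inf k2 inf_le_right) (inf_le_inf c2 inf_le_right) k1)) le_rfl
  exact (le_inf inf_le_left (le_inf inf_le_right (inf_le_left.trans (piCoreOf_le _ _)))).trans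
    (inf_le_Od (odd_Od E) (inf_le_right.trans (le_nor_piCoreOf _ _)))

theorem case1 : ∃ M : Subgroup G, M ≠ ⊤ ∧ X ≤ M ∧ t ∈ M ∧ ¬ M ≤ St G τ ∧ RkD D M := by
  by_contra hcon
  have ht := h.inv t m.inv
  have h1 : ∀ M : Subgroup G, M ≠ ⊤ → X ≤ M → t ∈ M → ¬ M ≤ St G τ → ¬ RkD D M :=
    fun M a b c d e => hcon ⟨M, a, b, c, d, e⟩
  obtain ⟨r, hr, hr0⟩ := exists_pCoreIn_ne_bot (odd_solvable (h.mx_odd m)) m.ne
  have := Fact.mk hr
  obtain ⟨γ, hγ, hXγ⟩ := m.ex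
  obtain ⟨J₀, j1, j2, j3, f₀, -, f2, -, f4⟩ := exists_ch ht (odd_Od _)
    (nor_le_nor_piCoreOf _ _ (t_mem_nor_D ht γ)) (t_mem_nor_St m.fix)
    (h.cen_le m.inv m.fix) (h.two_not_le' m.inv m.fix hγ)
  replace j1 : X ≤ J₀ := ((h.mx_Cm m).ge.trans (Cm_mono (le_inf
    (hXγ.le.trans (h.Cm_Ug_le m.inv m.fix hγ)) (h.mx_le m)) t)).trans j1
  obtain ⟨J, k1, ⟨k0, k2, k3, k4⟩, hmax⟩ := exists_max_ge
    (P := fun Y => Odd (Nat.card Y) ∧ Y ≤ St G τ ∧ t ∈ Nor Y ∧ ¬ Nor Y ≤ St G τ) (X := J₀)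
    ⟨odd_of_le (odd_Od _) (j2.trans inf_le_left), j2.trans inf_le_right, j3, fun e => f4 (e f2)⟩
  have hXJ := j1.trans k1
  have hJ0 : J ≠ ⊥ := fun e => m.ne (le_bot_iff.mp (e ▸ hXJ))
  obtain ⟨-, f, f1, f2, f3, f4, -⟩ := h.r1a m (hXJ.trans le_normalizer) k3 k4
    (h1 _ (h.nor_ne_top hJ0 k0) (hXJ.trans le_normalizer) k3 k4)
  have e1 := h.ci m h1 f2 f3 f4 hXJ k2 f1 k0 (fun J' a1 a2 _ a3 => by
    have a4 : J ⊔ Od J' ≤ Ug t τ (f • τ) := (sup_le a1 (piCoreOf_le _ _)).trans a2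
    exact le_sup_right.trans (hmax (J ⊔ Od J') ⟨odd_sup k0 (odd_Od _)
      (a1.trans (le_nor_piCoreOf _ _)), a4.trans inf_le_left,
      mem_nor_of_Cm_le ht.2 ((h.mx_eq m f4 (hXJ.trans (le_St_smul k2 f1))).le.trans
        (hXJ.trans le_sup_left)) a4,
      fun e => f4 (e (mem_nor_sup f1 (nor_le_nor_piCoreOf _ _ a3)))⟩ le_sup_left)) hr0
  have n1 : ¬ Nor (pCoreIn r X) ≤ St G τ := fun e => h.two_not_le' m.inv m.fix f4 (e1.trans e)
  have n2 : X ≤ Nor (pCoreIn r X) := le_normalizer_pCoreIn _ _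
  have n3 : t ∈ Nor (pCoreIn r X) := normalizer_le_normalizer_pCoreIn _ _ (h.mx_nor m)
  have n4 := h1 _ (h.nor_ne_top hr0 (odd_of_le (h.mx_odd m) (pCoreIn_le _ _))) n2 n3 n1
  obtain ⟨-, g, g1, g2, g3, g4, J', a1, a2, a3⟩ := h.r1a m n2 n3 n1 n4
  have key : ∀ k ∈ zpowers g, k • τ ≠ τ →
      Nor (pCoreIn r X) ⊓ (St G (k • τ) ⊓ St G (k⁻¹ • τ)) ≤ St G τ := by
    intro k hk hkτ
    rw [← t_smul_of_inv ht m.fix (inv_zpowers ht g3 hk)]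
    exact h.r1b m n2 n3 n1 n4 (h.Pt_smul' ⟨t, m.inv, n3, m.fix⟩ (zpowers_le.mpr g1 hk)) hkτ
      (a1.trans (le_St_smul a2 (zpowers_le.mpr a3 hk)))
  have k1 := mid g1 g2 g4 key
  have k2 := key g (mem_zpowers g) g4
  rw [← t_smul_of_inv ht m.fix g3] at k1 k2
  have hXU := h.mx_eq m g4 (a1.trans (le_St_smul a2 a3))
  have hUX : Ug t τ (g • τ) ≤ Nor X := by rw [← hXU]; exact le_nor_Cm _ _
  have e2 : Nor (pCoreIn r X) ⊓ (St G (g • τ) ⊓ St G (t • g • τ)) = Ug t τ (g • τ) :=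
    le_antisymm (le_inf k2 inf_le_right)
      (le_inf (hUX.trans (normalizer_le_normalizer_pCoreIn _ _)) inf_le_right)
  rw [e2] at k1
  have e3 := h.ci m h1 g2 g3 g4 (J := Od (Ug t τ (g • τ)))
    (le_Od (hXU.ge.trans (Cm_le_self (t_mem_nor_Ug ht m.fix _))) hUX (h.mx_odd m))
    ((piCoreOf_le _ _).trans inf_le_left) (nor_le_nor_piCoreOf _ _ k1) (odd_Od _)
    (fun J' _ a b _ => by
      rw [le_antisymm a ((le_inf (le_nor_piCoreOf _ _) le_rfl).trans b)]) hr0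
  exact h.two_not_le' m.inv m.fix g4 ((le_inf e3 (piCoreOf_le _ _)).trans k2)

omit m in
/-- factorization of two point stabilizers -/
theorem two_le_sup {M : Subgroup G} (hM : IsCoatom M) {x y : Ω} (l : Lr D M x)
    (hy : y ∈ Pt D Ω M) (hne : y ≠ x) {r : ℕ} [hr : Fact r.Prime] (hr2 : r ≠ 2) (ht : t ∈ D)
    (htM : t ∈ M) (hc : t ∉ Cen (pCoreIn r (Od M))) :
    Od (St G x ⊓ St G y) ⊔ Od (M ⊓ (St G x ⊓ St G y)) ≤
      pPrimeCoreIn r (Od (St G x ⊓ St G y) ⊔ Od (M ⊓ (St G x ⊓ St G y))) ⊔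
        Od (M ⊓ (St G x ⊓ St G y)) := by
  have hp := h.ih M x hM.1 l
  set E := St G x ⊓ St G y with hE
  set B := Od (M ⊓ E) with hB
  have hBM : B ≤ M ⊓ E := piCoreOf_le _ _
  have hBO : B ≤ Nor (Od E) := hBM.trans (inf_le_right.trans (le_nor_piCoreOf _ _))
  have hD : Odd (Nat.card ↥(Od E ⊔ B)) := by
    rw [sup_comm]; exact odd_sup (odd_Od _) (odd_Od E) hBO
  have hDM : (Od E ⊔ B) ⊓ M ≤ B := by
    rw [H5.sup_inf_of_le_normalizer' hBO (hBM.trans inf_le_left)]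
    exact sup_le ((le_inf inf_le_left (le_inf inf_le_right (inf_le_left.trans
      (piCoreOf_le _ _)))).trans (inf_le_Od (odd_Od E) (inf_le_right.trans (le_nor_piCoreOf _ _))))
      le_rfl
  have hJB : Od M ≤ B := le_Od (le_inf (piCoreOf_le _ _) (le_inf (h.Od_le_St l.rk l.pt)
    (h.Od_le_St l.rk hy))) (inf_le_left.trans (le_nor_piCoreOf _ _)) (odd_Od M)
  have hN : ∀ p : ℕ, pCoreIn p (Od M) ≠ ⊥ → Nor (pCoreIn p (Od M)) = M := fun p h0 =>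
    h.nor_eq hM h0 (odd_of_le (odd_Od M) (pCoreIn_le _ _))
      ((le_nor_piCoreOf _ _).trans (normalizer_le_normalizer_pCoreIn _ _))
  have h1 := ne_bot_of_not_cen hc
  have hCM : Cen (pCoreIn r (Od M)) ≤ M := (centralizer_le_normalizer _).trans (hN r h1).le
  have hMC : M ≤ Nor (Cen (pCoreIn r (Od M))) := H4.le_normalizer_centralizer (hN r h1).ge
  have hCE : Cen (pCoreIn r (Od M)) ≤ M ⊓ E := le_inf hCM (le_inf
    (h.le_St_of_normal hp l hCM hMC ht htM hc)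
    (h.le_St_of_normal hp (h.lr_at l hy) hCM hMC ht htM hc))
  have hC : B ⊓ Cen (pCoreIn r (Od M)) ≤ Od M :=
    (inf_le_Od (odd_Od _) (hCE.trans (le_nor_piCoreOf _ _))).trans (Od_le_Od hCM hMC)
  by_cases hl : ∀ l : ℕ, l.Prime → l ≠ r → pCoreIn l (Od M) = ⊥
  swap
  · push Not at hl
    obtain ⟨p, hp, hpr, h2⟩ := hl
    have := Fact.mk hp
    exact lemmaS (J := Od M) (odd_solvable hD) hJB le_sup_right
      ((hBM.trans inf_le_left).trans (le_nor_piCoreOf _ _)) (fun q _ h0 => by rwa [hN q h0])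
      hpr.symm h1 h2 ((le_inf ((inf_le_inf_left _ hCM).trans hDM) inf_le_right).trans hC)
  obtain ⟨R, hR⟩ := H5.exists_isSylowOf r B
  refine lemmaS0 hD le_sup_right hR ?_
  have h0 := pPrimeCoreIn_eq_bot_of_forall (odd_solvable (odd_Od M)) hl
  have hBL : B ≤ Nor (LL D M) :=
    hBM.trans (inf_le_left.trans (le_normalizer.trans (h.nor_le_nor_LL M)))
  set N := LL D M ⊔ B with hNd
  have hNM : N ≤ M := sup_le (LL_le M) (hBM.trans inf_le_left)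
  have hpN : Pure D N := hp.sup (odd_Od _) hBL
  have hML := h.le_LL_sup hp l hy hne
  have hEN : M ⊓ E ≤ Nor N := H4.le_normalizer_sup
    (inf_le_left.trans (le_normalizer.trans (h.nor_le_nor_LL M))) (le_nor_piCoreOf _ _)
  have hMN : M ≤ Nor N := hML.trans (sup_le (le_sup_left.trans le_normalizer) hEN)
  have hON : Od N = Od M := le_antisymm (Od_le_Od hNM hMN)
    (le_Od (hJB.trans le_sup_right) (hNM.trans (le_nor_piCoreOf _ _)) (odd_Od M))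
  have hNE : N ⊓ E = B := le_antisymm (le_Od (inf_le_inf_right _ hNM)
    (H4.le_normalizer_inf hEN (inf_le_right.trans le_normalizer)) (h.odd_two hpN hne.symm))
    (le_inf le_sup_right (hBM.trans inf_le_right))
  have key : ∀ {x y : Ω}, Lr D N x → y ∈ Pt D Ω N → y ≠ x → N ⊓ (St G x ⊓ St G y) = B →
      N ⊓ St G x ≤ Nor (H7.ZJ 0 R) := by
    intro x y l hy hne e
    obtain ⟨T, b⟩ := h.exists_bend hpN l.rk l.pt l.ne
    have i := h.bend_invHyp b hpN l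
    refine i.zj hr2 b.od_le b.le b.nor b.odd b.two b.comm ?_
      (h.bend_sylow b hpN l.rk hy hne hr2 (e ▸ hR))
    have e1 : pCoreIn r (Od M) ≤ pCoreIn r (N ⊓ St G x) := hON ▸ pCoreIn_le_of_normal i.le i.nor
    have e2 := cent_sub_Fitting (odd_solvable (odd_Od M))
    rw [fittingIn_eq_pCoreIn h0] at e2
    have e3 : N ⊓ St G x ⊓ Cen (pCoreIn r (N ⊓ St G x)) ≤ Cen (pCoreIn r (Od M)) :=
      inf_le_right.trans (centralizer_anti e1)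
    exact (le_inf ((le_inf ((le_inf (inf_le_left.trans inf_le_left) (e3.trans
      (hCE.trans inf_le_right))).trans hNE.le) e3).trans hC) e3).trans (e2.trans e1)
  have lN := h.lr_of l le_sup_left hNM
  have hyN : y ∈ Pt D Ω N := Pt_of le_sup_left hy
  obtain ⟨T, b⟩ := h.exists_bend hpN lN.rk lN.pt lN.ne
  have e4 : N ≤ Nor (H7.ZJ 0 R) := (b.gen2 y ((h.del_iff hpN).mpr hyN) hne).trans (sup_le
    (key lN hyN hne hNE) (key (h.lr_at lN hyN) lN.pt hne.symm (by rwa [inf_comm (St G y)])))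
  have hR0 : R ≠ ⊥ := fun e => h1 (le_bot_iff.mp (e ▸ hR.le_of_le_normalizer
    (isPGroup_pCoreIn _ _) ((pCoreIn_le _ _).trans hJB)
      ((hR.le.trans (hBM.trans inf_le_left)).trans (hN r h1).ge)))
  rw [h.nor_eq hM (H7.ZJ_ne_bot (dvd_zero r) hR.isPGroup hR0)
    (odd_of_le (odd_Od _) ((H7.ZJ_le _ _).trans hR.le)) (hML.trans (sup_le (le_sup_left.trans e4)
      ((le_nor_piCoreOf _ _).trans (nor_le_nor_ZJ hR (le_sup_right.trans e4)))))]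
  exact hDM

theorem case2 : ∃ γ : Ω, Dia D γ := by
  have ht := h.inv t m.inv
  obtain ⟨M₀, a1, a2, a3, a4, a5⟩ := h.case1 m
  obtain ⟨M, hM, hle⟩ := exists_max a1
  have htM := hle a3
  have l : Lr D M τ := ⟨a5.mono hle, ⟨t, m.inv, htM, m.fix⟩, fun e => a4 (hle.trans e)⟩
  have hp := h.ih M τ hM.1 l
  have hXJ : X ≤ Od M := (h.mx_Cm m).ge.trans ((h.Cm_le_Od hp l (le_inf (a2.trans hle) (h.mx_le m))
    (h.mx_odd m) ⟨⟨m.inv, m.fix⟩, htM⟩ (h.mx_nor m)).trans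
      (Od_le_Od (LL_le M) (le_normalizer.trans (h.nor_le_nor_LL M))))
  obtain ⟨γ, hγ, hne⟩ := h.exists_ne l.pt l.ne
  have hγ' := h.Pt_smul' hγ htM
  have hXU := h.mx_eq m hne (hXJ.trans (h.Od_le_St l.rk hγ))
  have hJE : Od M ≤ St G γ ⊓ St G (t • γ) := le_inf (h.Od_le_St l.rk hγ) (h.Od_le_St l.rk hγ')
  have hJU : Od M ≤ Ug t τ γ := le_inf (h.Od_le_St l.rk l.pt) hJE
  obtain ⟨r, hr, hr2, hc⟩ := exists_r ht (le_nor_piCoreOf _ _ htM) (odd_Od M) fun e =>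
    m.ne ((h.mx_Cm m).symm.trans (Cm_eq_bot_iff.mpr (hXJ.trans (le_cen1_iff.mpr e))))
  have := Fact.mk hr
  have hne' := h.ne_smul m.inv m.fix hne
  have e1 := h.two_le_sup hM (h.lr_at l hγ) hγ' hne'.symm hr2 m.inv htM hc
  set E := St G γ ⊓ St G (t • γ) with hE
  set B := Od (M ⊓ E) with hB
  have hBM : B ≤ M ⊓ E := piCoreOf_le _ _
  have hD : Odd (Nat.card ↥(Od E ⊔ B)) := by
    rw [sup_comm]
    exact odd_sup (odd_Od _) (odd_Od E) (hBM.trans (inf_le_right.trans (le_nor_piCoreOf _ _)))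
  have hDE : Od E ⊔ B ≤ E := sup_le (piCoreOf_le _ _) (hBM.trans inf_le_right)
  have hJB : Od M ≤ B := le_Od (le_inf (piCoreOf_le _ _) hJE)
    (inf_le_left.trans (le_nor_piCoreOf _ _)) (odd_Od M)
  obtain ⟨z, hz, hzτ⟩ := h.exists_ne l.pt l.ne
  obtain ⟨t', ht', ht'M, e, e'⟩ := h.rk_inv l.rk hz l.pt hzτ htM m.inv
  have hRo := odd_of_isPGroup hr2 (isPGroup_pCoreIn r (Od M))
  have hMR : M ≤ Nor (pCoreIn r (Od M)) :=
    (le_nor_piCoreOf _ _).trans (normalizer_le_normalizer_pCoreIn _ _)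
  obtain ⟨v, v1, v2, v3, v4⟩ := exists_delta ht (h.inv _ ht') e e' hRo (hMR htM) (hMR ht'M)
    (fun e => hc (le_cen1_iff.mp e))
  have hvo := odd_orderOf_of_mem hRo v1
  have hv : Cen1 v ≤ St G τ := v4.elim (fun e1 => h.delta_cen hvo v2 m.inv ht' v3 e1 m.fix)
    fun e1 => h.delta_cen hvo v2 m.inv (h.mul t m.inv t' ht' e e') v3 e1 m.fix
  have hsn := h.sn_X m hne hD (mem_nor_sup (nor_le_nor_piCoreOf _ _ (t_mem_nor_D ht _))
    (nor_le_nor_piCoreOf _ _ (mem_nor_inf (le_normalizer htM) (t_mem_nor_D ht _))))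
    (hXJ.trans (hJB.trans le_sup_right)) hDE
  have hvX : v ∈ X := hXU.le (mem_Cm_of_inv ht.2 (hJU (pCoreIn_le _ _ v1)) hvo v3)
  have hA : pPrimeCoreIn r (Od E ⊔ B) ≤ Ug t τ γ :=
    le_inf ((pPrimeCoreIn_le_cen _ _).trans ((cen_le_cen1
      (hsn.pCoreIn_le (pCoreIn_inf_le hXJ ⟨v1, hvX⟩))).trans hv)) ((pPrimeCoreIn_le _ _).trans hDE)
  have hK : Cm (Od E) t ≤ M := by
    refine Cm_le ht fun d hd => ?_
    rw [sup_comm (pPrimeCoreIn _ _)] at e1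
    obtain ⟨c, hc, a, ha, rfl⟩ := (H4.mem_sup_of_le_normalizer_right
      (le_sup_right.trans (le_normalizer_pPrimeCoreIn _ _))).mp (e1 (mem_sup_left hd))
    have : c * a * t * (c * a)⁻¹ * t = c * (a * t * a⁻¹ * t) * t⁻¹ * c⁻¹ * t := by group
    rw [this]
    exact mul_mem (mul_mem (mul_mem (mul_mem (hBM hc).1 (hle (a2 (hXU.le (mem_Cm ht.2 (hA ha))))))
      (inv_mem htM)) (inv_mem (hBM hc).1)) htM
  refine ⟨γ, M, hM.1, (closure_le _).mpr fun a ha => ?_, (h.lr_at l hγ).ne⟩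
  obtain ⟨s, hs, hsM, hsγ⟩ := hγ
  obtain ⟨k, -, k1, rfl⟩ := h.exists_K m.inv rfl (mem_top t) hne' (mem_top s) hs hsγ
    (mem_top a) ha.1 ha.2
  have k2 := h.K_mem_Od (mem_top t) m.inv rfl hne' k1 (mem_top k)
  rw [top_inf_eq] at k2
  exact cmem (hK (mem_Cm_of_inv ht.2 k2 (h.K_odd m.inv rfl hne' k1) (h.K_inv m.inv k1))) hsM

omit m in
theorem star_or_dia : Star D Ω ∨ ∀ x : Ω, Dia D x := by
  refine or_iff_not_imp_left.mpr fun hcon x => ?_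
  simp only [Star, not_forall] at hcon
  obtain ⟨t, ht, τ, γ, hτ, hne, hcon⟩ := hcon
  obtain ⟨X, h1, h2, h3⟩ := exists_max_ge (P := fun Y => ∃ γ : Ω, γ ≠ τ ∧ Y = Cm (Ug t τ γ) t)
    (X := Cm (Ug t τ γ) t) ⟨γ, hne, rfl⟩
  have m : MX D t τ X := ⟨ht, hτ, fun e => hcon (Cm_eq_bot_iff.mp (le_bot_iff.mp (e ▸ h1))), h2,
    fun δ hδ e => h3 _ ⟨δ, hδ, rfl⟩ e⟩
  obtain ⟨y, M, d1, d2, d3⟩ := h.case2 m
  obtain ⟨g, rfl⟩ := h.trans y x
  exact ⟨conjS g M, conjS_ne_top d1 g,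
    by rw [← h.conjS_Ax]; exact conjS_mono g d2,
    by rw [← conjS_St, conjS_le_conjS_iff]; exact d3⟩

end Mc

end SF
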