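import Cfsg.Agent.SF.E

/-! Involutions fixing two points; the diamond case; `D`-rank one centralizers. -/

set_option autoImplicit false
set_option linter.unusedSectionVars false

namespace SF

open Cfsg Subgroup FT H4 BS
open scoped commutatorElement

universe u

section Gen
variable {G : Type*} [Group G] [Finite G]

theorem perm_eq_one {α : Type*} [Fintype α] [DecidableEq α] (hc : Fintype.card α ≤ 3)
    {σ : Equiv.Perm α} (h2 : σ * σ = 1) (hs : Equiv.Perm.sign σ = 1) : σ = 1 := by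
  by_contra h1
  have e1 := Equiv.Perm.two_le_card_support_of_ne_one h1
  have e2 : σ.support.card ≤ 3 := (Finset.card_le_univ _).trans hc
  rcases (by omega : σ.support.card = 2 ∨ σ.support.card = 3) with e | e
  · rw [(Equiv.Perm.card_support_eq_two.mp e).sign_eq] at hs
    exact absurd hs (by decide)
  · have := orderOf_dvd_of_pow_eq_one ((pow_two σ).trans h2)
    rw [(card_support_eq_three_iff.mp e).orderOf] at this
    exact absurd this (by decide)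

theorem four_cen {A Y : Subgroup G} (hA : Nat.card A ≤ 4) (hn : Y ≤ Nor A) {w : G}
    (hw : w ∈ ⁅Y, Y⁆) (h2 : w * w = 1) : A ≤ Cen1 w := by
  classical
  letI := cjAct G
  let S := subAct Y {a | a ∈ A ∧ a ≠ 1} fun g hg z hz =>
    ⟨conj_mem (hn hg) hz.1, fun e => hz.2 (by simpa using (show g * z * g⁻¹ = 1 from e))⟩
  have : Fintype S := Fintype.ofFinite S
  have hc : Fintype.card S ≤ 3 := by
    have := ncard_ne_one A
    rw [← Nat.card_coe_set_eq] at this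
    rw [← Nat.card_eq_fintype_card]
    change Nat.card {a | a ∈ A ∧ a ≠ 1} ≤ 3
    omega
  rw [← Subgroup.map_subtype_commutator] at hw
  obtain ⟨y, hy, rfl⟩ := hw
  have h3 := perm_eq_one hc (σ := MulAction.toPermHom Y S y)
    (by rw [← map_mul, show y * y = 1 from Subtype.ext h2, map_one])
    (Abelianization.commutator_subset_ker (Equiv.Perm.sign.comp (MulAction.toPermHom Y S)) hy)
  intro a ha
  by_cases h1 : a = 1
  · rw [h1]; exact one_mem _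
  have : (y : G) * a * (y : G)⁻¹ = a :=
    congrArg Subtype.val (congrArg (fun f : Equiv.Perm S => f ⟨a, ha, h1⟩) h3)
  exact c1_iff.mpr (mul_inv_eq_iff_eq_mul.mp this).symm

theorem pgroup_zp {w : G} (h : w * w = 1) : IsPGroup 2 (zpowers w) := by
  by_cases e : w = 1
  · rw [e, zpowers_one_eq_bot]; exact IsPGroup.of_bot
  · exact IsPGroup.of_card (n := 1) (by rw [Inv.card_zpowers ⟨e, h⟩, pow_one])

theorem exists_cen_inv {w : G} (h2 : w * w = 1) {S : Set G} (h : ∀ z ∈ S, w * z * w⁻¹ ∈ S)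
    (ho : Odd S.ncard) : ∃ z ∈ S, z * w = w * z := by
  have : Fact (Nat.Prime 2) := ⟨Nat.prime_two⟩
  have h1 := modEq_cen_elt (p := 2) (g := w) (k := 1) (by rw [pow_one, pow_two, h2]) h
  have : (S ∩ Cen1 w).Nonempty := Set.nonempty_of_ncard_ne_zero fun e => by
    rw [e] at h1
    exact absurd (Nat.odd_iff.mp ho) (by rw [h1]; decide)
  obtain ⟨z, h3, h4⟩ := this
  exact ⟨z, h3, c1_iff.mp h4⟩

theorem mem_of_sq_mem {N : Subgroup G} {g : G} (ho : Odd (orderOf g)) (h : g * g ∈ N) : g ∈ N :=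
  mem_of_pow_mem_of_coprime (show g ^ 2 ∈ N by rwa [pow_two]) (Nat.coprime_two_right.mpr ho)

theorem mem_of_pow_odd {N : Subgroup G} {g : G} {n k : ℕ} (ho : Odd n) (h1 : g ^ n ∈ N)
    (h2 : g ^ 2 ^ k ∈ N) : g ∈ N := by
  have e := Nat.gcd_eq_gcd_ab n (2 ^ k)
  rw [(Nat.Coprime.pow_right k (Nat.coprime_two_right.mpr ho)).gcd_eq_one] at e
  have := mul_mem (zpow_mem h1 (n.gcdA (2 ^ k))) (zpow_mem h2 (n.gcdB (2 ^ k)))
  rwa [← zpow_natCast, ← zpow_natCast, ← zpow_mul, ← zpow_mul, ← zpow_add, ← e, Nat.cast_one,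
    zpow_one] at this

theorem exists_two_ne {A : Subgroup G} (h : 2 < Nat.card A) :
    ∃ a ∈ A, ∃ b ∈ A, a ≠ 1 ∧ b ≠ 1 ∧ a ≠ b := by
  have := ncard_ne_one A
  obtain ⟨a, b, ha, hb, e⟩ := (Set.one_lt_ncard_iff (s := {a | a ∈ A ∧ a ≠ 1})).mp (by omega)
  exact ⟨a, ha.1, b, hb.1, ha.2, hb.2, e⟩

theorem comm_eq_sq {a b : G} (ha : a * a = 1) (hb : b * b = 1) : ⁅a, b⁆ = a * b * (a * b) := by
  rw [commutatorElement_def, inv_eq_self_of_sq ha, inv_eq_self_of_sq hb, mul_assoc (a * b)]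

theorem dih_par {a b : G} (ha : a * a = 1) (hb : b * b = 1) (m : ℕ) :
    a * (a * b) ^ (2 * m) = ((a * b) ^ m)⁻¹ * a * (a * b) ^ m ∧
      a * (a * b) ^ (2 * m + 1) = ((a * b) ^ m)⁻¹ * b * (a * b) ^ m := by
  have e1 : a * (a * b) * a = (a * b)⁻¹ := by
    rw [mul_inv_rev, inv_eq_self_of_sq ha, inv_eq_self_of_sq hb, ← mul_assoc, ha, one_mul]
  have e2 : b * (a * b) * b = (a * b)⁻¹ := by
    rw [mul_inv_rev, inv_eq_self_of_sq ha, inv_eq_self_of_sq hb, mul_assoc, mul_assoc, hb, mul_one]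
  constructor
  · rw [← inv_conj_pow ha e1 m, mul_assoc (a * _) a a, ha, mul_one, two_mul, pow_add, mul_assoc]
  · rw [← inv_conj_pow hb e2 m, mul_assoc (b * _) b b, hb, mul_one, two_mul, pow_succ', pow_add,
      ← mul_assoc, ← mul_assoc a, ha, one_mul, mul_assoc]

/-- the elements acting trivially on `O` modulo `N` -/
def actMod (O N : Subgroup G) (h : N ≤ O) : Subgroup G where
  carrier := {g | g ∈ Nor O ∧ ∀ o ∈ O, o⁻¹ * (g * o * g⁻¹) ∈ N}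
  one_mem' := ⟨one_mem _, fun o _ => by simpa using N.one_mem⟩
  mul_mem' := by
    rintro g k ⟨g1, g2⟩ ⟨k1, k2⟩
    refine ⟨mul_mem g1 k1, fun o ho => ?_⟩
    have e := k2 o ho
    exact H5.mem_of_eq (mul_mem (g2 o ho) (mul_mem e (g2 _ (h e)))) (by group)
  inv_mem' := by
    rintro g ⟨g1, g2⟩
    refine ⟨inv_mem g1, fun o ho => ?_⟩
    exact H5.mem_of_eq (inv_mem (g2 _ (conj_mem (inv_mem g1) ho))) (by group)

end Gen

variable {G : Type u} [Group G] [Finite G] {Ω : Type*} [MulAction G Ω] [Finite Ω] {D : Set G}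

/-- an involution fixing two points -/
def Wv (Ω : Type*) [MulAction G Ω] (v : G) : Prop :=
  Inv v ∧ ∃ x y : Ω, x ≠ y ∧ v • x = x ∧ v • y = y

theorem Wv.conj {v : G} (h : Wv Ω v) (g : G) : Wv Ω (g * v * g⁻¹) :=
  let ⟨h1, x, y, h2, h3, h4⟩ := h
  ⟨h1.conj g, g • x, g • y, fun e => h2 (MulAction.injective g e), conj_smul h3, conj_smul h4⟩

theorem Wv.ex {v : G} (h : Wv Ω v) (x : Ω) : ∃ y : Ω, y ≠ x ∧ v • y = y := by
  obtain ⟨-, y, z, h2, h3, h4⟩ := h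
  by_cases e : y = x
  · exact ⟨z, fun e' => h2 (e.trans e'.symm), h4⟩
  · exact ⟨y, e, h3⟩

/-- the elements of `D` at `x` commute modulo the core of `A_x` -/
def Am (D : Set G) (x : Ω) : Prop :=
  ∀ a ∈ D, ∀ b ∈ D, a • x = x → b • x = x → ⁅a, b⁆ ∈ Od (Ax D x)

theorem PD.RkD_conj (h : PD D Ω) {M : Subgroup G} (h2 : RkD D M) (g : G) : RkD D (conjS g M) :=
  let ⟨a, h1, b, h2, h3, h4, h5, h6⟩ := h2
  ⟨_, h.conj a h1 g, _, h.conj b h2 g, conj_mem_conjS h3, conj_mem_conjS h4,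
    fun e => h5 (by simpa using e), conj_comm h6 g⟩

theorem PD.not_mem_W (h : PD D Ω) {v : G} (hv : Wv Ω v) : v ∉ D := fun e =>
  let ⟨_, _, _, h2, h3, h4⟩ := hv
  h2 (h.uniq e h3 h4)

theorem PD.rk_of_even (h : PD D Ω) {M : Subgroup G} {a b : G} (ha : a ∈ D) (hb : b ∈ D)
    (haM : a ∈ M) (hbM : b ∈ M) (he : ¬ Odd (orderOf (a * b))) : RkD D M := by
  obtain ⟨n, h1, h2, h3⟩ := h.exists_pow_mem ha hb he
  by_cases e : (a * b) ^ n = a
  · refine ⟨a, ha, b, hb, haM, hbM, ?_, e ▸ h3⟩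
    rintro rfl
    exact he (by rw [h.sq ha, orderOf_one]; exact odd_one)
  · exact ⟨_, h1, a, ha, pow_mem (mul_mem haM hbM) n, haM, e, h2⟩

/-- an odd normal subgroup of the point stabilizer lies in the core -/
theorem PD.odd_le_Od (h : PD D Ω) {M Y : Subgroup G} {x : Ω} (hp : Pure D (LL D M))
    (l : Lr D M x) (hY : Y ≤ M ⊓ St G x) (hn : M ⊓ St G x ≤ Nor Y) (ho : Odd (Nat.card Y)) :
    Y ≤ Od M := by
  have h1 : Y ≤ Nor (LL D M) :=
    hY.trans (inf_le_left.trans (le_normalizer.trans (h.nor_le_nor_LL M)))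
  have h2 : LL D M ⊔ Y ≤ M := sup_le (LL_le M) (hY.trans inf_le_left)
  have l' := h.lr_of l le_sup_left h2
  obtain ⟨T, b⟩ := h.exists_bend (hp.sup ho h1) l'.rk l'.pt l'.ne
  have h3 := b.odd_le Y (le_inf le_sup_right (hY.trans inf_le_right))
    ((inf_le_inf_right _ h2).trans hn) ho
  let N : Subgroup G := M ⊓ ⨅ z ∈ Pt D Ω M, St G z
  have mN : ∀ g, g ∈ N ↔ g ∈ M ∧ ∀ z ∈ Pt D Ω M, g • z = z := fun g => by
    simp only [N, mem_inf, mem_iInf]; rfl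
  have hN : M ≤ Nor N := fun g hg => H5.mem_normalizer_of_forall fun k hk =>
    (mN _).mpr ⟨cmem hg ((mN k).mp hk).1, fun z hz => by
      rw [mul_smul, mul_smul, ((mN k).mp hk).2 _ (h.Pt_smul' hz (inv_mem hg)), smul_inv_smul]⟩
  refine (le_Od (fun g hg => (mN g).mpr ⟨(hY hg).1, fun z hz =>
    h.Od_le_St l'.rk (Pt_of le_sup_left hz) (h3 hg)⟩) (le_trans ?_ hn) ho).trans
      (Od_le_Od inf_le_left hN)
  exact fun g hg => ⟨hg.1, ((mN g).mp hg).2 x l.pt⟩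

/-- `C_T(u)` is transitive -/
theorem PD.bend_tr (h : PD D Ω) {M T : Subgroup G} {x : Ω} (b : Bend M x T) (hp : Pure D M)
    (h2 : RkD D M) {u : G} (hu : u ∈ Dx D M x) {y z : Ω} (hy : y ∈ Pt D Ω M) (hz : z ∈ Pt D Ω M)
    (hyx : y ≠ x) (hzx : z ≠ x) : ∃ c ∈ T, c * u = u * c ∧ c • y = z := by
  obtain ⟨g, hg, e⟩ := b.tr y z ((h.del_iff hp).mpr hy) ((h.del_iff hp).mpr hz) hyx hzx
  have hi := h.inv u hu.1.1
  obtain ⟨o, ho, c, hc, e1, rfl⟩ := exists_oc hi (odd_Od M) b.od_le (Cm_le hi fun g hg => by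
    have := b.inv_comm u ⟨hu.2, hu.1.2⟩ hi.2 g hg
    rw [commutatorElement_def, hi.inv] at this
    exact H5.mem_of_eq (inv_mem this) (by simp [hi.inv, mul_assoc])) hg
  refine ⟨c, hc, e1, ?_⟩
  rw [mul_smul, show o • c • y = c • y from h.Od_le_St h2 (h.Pt_smul' hy (b.le hc).1) ho] at e
  exact e

namespace Mc
variable (h : Mc D Ω)
include h

theorem odd_card : Odd (Nat.card Ω) := by
  have : Fact (Nat.Prime 2) := ⟨Nat.prime_two⟩
  obtain ⟨a, ha, -⟩ := h.rk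
  obtain ⟨x, hx⟩ := h.ex ha
  have h1 := modEq_fix_elt (p := 2) (g := a) (k := 1) (by rw [pow_one, pow_two, h.sq ha])
    (S := (Set.univ : Set Ω)) fun _ _ => trivial
  rw [show Set.univ ∩ Fx Ω a = {x} from Set.ext fun z => ⟨fun hz => h.uniq ha hz.2 hx,
    by rintro rfl; exact ⟨trivial, hx⟩⟩, Set.ncard_singleton, Set.ncard_univ] at h1
  exact Nat.odd_iff.mpr h1

theorem index_St (x : Ω) : (St G x).index = Nat.card Ω := by
  have : MulAction.IsPretransitive G Ω := ⟨h.trans⟩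
  exact MulAction.index_stabilizer_of_transitive G x

theorem perfect : commutator G = ⊤ := by
  obtain ⟨x⟩ := h.ex_pt
  obtain ⟨y, hy⟩ := h.two x
  obtain ⟨a, ha, b, hb, -, -, hne, hc⟩ := h.rk
  rw [eq_top_iff, ← h.gen, closure_le]
  intro d hd
  obtain ⟨g, -, rfl⟩ := h.conj_D (h.all y) (h.all x) hy (mem_top _) (h.mul a ha b hb hne hc)
    (mem_top d) hd
  obtain ⟨k, -, rfl⟩ := h.conj_D (h.all y) (h.all x) hy (mem_top a) ha (mem_top b) hb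
  refine Normal.conj_mem inferInstance _ (H5.mem_of_eq (commutator_mem_commutator (mem_top a)
    (mem_top k)) ?_) g
  rw [commutatorElement_def, h.inv_eq ha]; group

theorem exists_fix {R : Subgroup G} (hR : IsPGroup 2 R) : ∃ x : Ω, R ≤ St G x := by
  have : Fact (Nat.Prime 2) := ⟨Nat.prime_two⟩
  obtain ⟨x, -, hx⟩ := exists_fix_pgroup hR (S := (Set.univ : Set Ω)) (fun _ _ _ _ => trivial)
    (by rw [Set.ncard_univ]; exact fun e => Nat.not_even_iff_odd.mpr h.odd_card (even_iff_two_dvd.mpr e))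
  exact ⟨x, hx⟩

theorem odd_m (x : Ω) : Odd (Dx D ⊤ x).ncard :=
  let ⟨y, hy⟩ := h.two x
  h.odd_Dx (h.all x) (h.all y) hy.symm

theorem pt_cen {R : Subgroup G} (hR : IsPGroup 2 R) {x : Ω} : x ∈ Pt D Ω (Cen R) ↔ R ≤ St G x := by
  have : Fact (Nat.Prime 2) := ⟨Nat.prime_two⟩
  refine ⟨fun ⟨a, h1, h2, h3⟩ r hr => h.cen_fix h1 h3 (cen_iff.mp h2 r hr).symm, fun hx => ?_⟩
  obtain ⟨a, ha, e⟩ := exists_cen_pgroup hR (S := Dx D ⊤ x) (fun g hg z hz =>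
    ⟨⟨h.conj z hz.1.1 g, by have := conj_smul (g := g) hz.1.2; rwa [show g • x = x from hx hg] at this⟩,
      trivial⟩) fun e => Nat.not_even_iff_odd.mpr (h.odd_m x) (even_iff_two_dvd.mpr e)
  exact ⟨a, ha.1.1, cen_iff.mpr fun g hg => (e g hg).symm, ha.1.2⟩

theorem pt_cen1 {w : G} (hw : w * w = 1) {x : Ω} : x ∈ Pt D Ω (Cen1 w) ↔ w • x = x := by
  rw [← BS.cen_zpowers, h.pt_cen (pgroup_zp hw), zpowers_le]; rfl

theorem cen1_ne_top {g : G} (hg : g ≠ 1) : Cen1 g ≠ ⊤ := fun e => hg (h.faith g fun x => by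
  obtain ⟨a, h1, -, h3⟩ := h.all x
  exact h.cen_fix h1 h3 (c1_iff.mp (e ▸ mem_top a)).symm)

/-- every involution of the point stabilizer lies in its derived group -/
theorem mem_comm {w : G} (hw : w * w = 1) {x : Ω} (hx : w • x = x) : w ∈ ⁅St G x, St G x⁆ := by
  refine mem_comm_of_fusion h.perfect (by rw [h.index_St]; exact h.odd_card) hx hw fun g hg => ?_
  have e : w • g • x = g • x := by
    have : (g⁻¹ * w * g) • x = x := hg
    rwa [mul_smul, mul_smul, inv_smul_eq_iff] at this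
  obtain ⟨c, hc, e1⟩ := h.Pt_trans ((h.pt_cen1 hw).mpr hx) ((h.pt_cen1 hw).mpr e)
  refine ⟨c⁻¹ * g, show (c⁻¹ * g) • x = x by rw [mul_smul, ← e1, inv_smul_smul], ?_⟩
  have := c1_iff.mp (LL_le _ hc)
  calc g⁻¹ * w * g = g⁻¹ * (w * c) * c⁻¹ * g := by group
    _ = (c⁻¹ * g)⁻¹ * w * (c⁻¹ * g) := by rw [← this]; group

theorem exists_T {r : G} (hr : r * r = 1) {y : Ω} (hy : r • y ≠ y) :
    ∃ u ∈ D, u • y = r • y ∧ r * u = u * r := by
  have e : r • r • y = y := by rw [_root_.smul_smul, hr, one_smul]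
  obtain ⟨u, h1, -, h3, h4⟩ := h.exists_T_cen (h.all y) (h.all (r • y)) hy.symm (pgroup_zp hr)
    (le_top.trans le_normalizer) fun g hg => by
      by_cases e1 : r = 1
      · exact absurd (by rw [e1, one_smul]) hy
      rcases Inv.mem_zpowers ⟨e1, hr⟩ hg with rfl | rfl
      · exact Or.inl ⟨one_smul _ _, one_smul _ _⟩
      · exact Or.inr ⟨rfl, e⟩
  exact ⟨u, h1, h3, h4 r (mem_zpowers r)⟩

theorem W_of_T {r u : G} (hr : Inv r) (hD : r ∉ D) (hu : u ∈ D) {y : Ω} (hy : r • y ≠ y)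
    (h1 : u • y = r • y) (h2 : r * u = u * r) : Wv Ω (r * u) :=
  ⟨hr.mul (h.inv u hu) (fun e => hD (e ▸ hu)) h2, y, r • y, hy.symm,
    by rw [mul_smul, h1, hr.smul_smul], by rw [mul_smul, ← h1, h.smul_smul hu, h1]⟩

theorem exists_move {g : G} (hg : g ≠ 1) : ∃ y : Ω, g • y ≠ y := by
  by_contra hc
  push Not at hc
  exact hg (h.faith g hc)

theorem exists_W {r : G} (hr : Inv r) (hD : r ∉ D) : ∃ v : G, Wv Ω v :=
  let ⟨_, hy⟩ := h.exists_move hr.1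
  let ⟨_, hu, h1, h2⟩ := h.exists_T hr.2 hy
  ⟨_, h.W_of_T hr hD hu hy h1 h2⟩

theorem conj_vu {v u u' : G} (hv : Wv Ω v) (hu : u ∈ D) (huv : u ∈ Cen1 v) (hu' : u' ∈ D)
    (huv' : u' ∈ Cen1 v) : ∃ g ∈ LL D (Cen1 v), g * u * g⁻¹ = u' ∧ g * (v * u) * g⁻¹ = v * u' := by
  obtain ⟨hi, x, y, hne, hx, hy⟩ := hv
  obtain ⟨g, hg, e⟩ := h.conj_D ((h.pt_cen1 hi.2).mpr hx) ((h.pt_cen1 hi.2).mpr hy) hne huv hu
    huv' hu'
  refine ⟨g, hg, e, ?_⟩
  rw [← e, ← mul_assoc, c1_iff.mp (LL_le _ hg)]; group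

theorem W_mul {v u : G} (hv : Wv Ω v) (hu : u ∈ D) (huv : u ∈ Cen1 v) : Wv Ω (v * u) := by
  obtain ⟨y, hy⟩ := h.exists_move hv.1.1
  obtain ⟨u', hu', h1, h2⟩ := h.exists_T hv.1.2 hy
  obtain ⟨g, -, -, e⟩ := h.conj_vu hv hu' (c1_iff.mpr h2.symm) hu huv
  exact e ▸ (h.W_of_T hv.1 (h.not_mem_W hv) hu' hy h1 h2).conj g

theorem lr_W {v : G} (hv : Wv Ω v) (h2 : RkD D (Cen1 v)) {x : Ω} (hx : v • x = x) :
    Lr D (Cen1 v) x :=
  let ⟨_, hy, hvy⟩ := hv.ex x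
  ⟨h2, (h.pt_cen1 hv.1.2).mpr hx, h.not_le_of_ne ((h.pt_cen1 hv.1.2).mpr hvy) hy⟩

theorem pure_W {v : G} (hv : Wv Ω v) (h2 : RkD D (Cen1 v)) : Pure D (LL D (Cen1 v)) :=
  let ⟨_, x, _, _, hx, _⟩ := id hv
  h.ih _ x (h.cen1_ne_top hv.1.1) (h.lr_W hv h2 hx)

theorem rk_partner {v u : G} (hv : Wv Ω v) (h2 : RkD D (Cen1 v)) (hu : u ∈ D) (huv : u ∈ Cen1 v) :
    ∃ b ∈ D, b ∈ Cen1 v ∧ u ≠ b ∧ u * b = b * u :=
  let ⟨hi, _, _, hne, hx, hy⟩ := hv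
  h.rk_inv h2 ((h.pt_cen1 hi.2).mpr hx) ((h.pt_cen1 hi.2).mpr hy) hne huv hu

omit h in
theorem cen_mul {v u b : G} (h1 : b ∈ Cen1 v) (h2 : u * b = b * u) : b ∈ Cen1 (v * u) :=
  c1_iff.mpr (by rw [← mul_assoc, c1_iff.mp h1, mul_assoc, ← h2, mul_assoc])

theorem rk_mul {v u : G} (hv : Wv Ω v) (h2 : RkD D (Cen1 v)) (hu : u ∈ D) (huv : u ∈ Cen1 v) :
    RkD D (Cen1 (v * u)) :=
  let ⟨b, h1, h2, h3, h4⟩ := h.rk_partner hv h2 hu huv
  ⟨u, hu, b, h1, cen_mul huv rfl, cen_mul h2 h4, h3, h4⟩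

theorem conj_v {v u : G} (hv : Wv Ω v) (h2 : RkD D (Cen1 v)) (hu : u ∈ D) (huv : u ∈ Cen1 v) :
    ∃ g : G, g * (v * u) * g⁻¹ = v := by
  obtain ⟨b, h1, h2, h3, h4⟩ := h.rk_partner hv h2 hu huv
  obtain ⟨g, -, -, e⟩ := h.conj_vu hv hu huv (h.mul u hu b h1 h3 h4) (mul_mem huv h2)
  obtain ⟨k, -, -, e'⟩ := h.conj_vu (h.W_mul hv hu huv) h1 (cen_mul h2 h4) hu (cen_mul huv rfl)
  refine ⟨k * g, ?_⟩
  rw [mul_assoc v u u, h.sq hu, mul_one, mul_assoc v, ← e] at e'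
  exact Eq.trans (by group) e'

theorem am_of_dia {x : Ω} (d : Dia D x) : Am D x ∧ ∃ y : Ω, y ≠ x ∧ Od (Ax D x) ≤ St G y := by
  obtain ⟨M, hM, hA, hn⟩ := d
  have l : Lr D M x := by
    obtain ⟨a, ha, b, hb, e⟩ := h.rk_at h.rk (h.all x)
    have h1 := hA (mem_Ax_of ha.1.1 ha.1.2)
    exact ⟨⟨a, ha.1.1, b, hb.1.1, h1, hA (mem_Ax_of hb.1.1 hb.1.2), e⟩, ⟨a, ha.1.1, h1, ha.1.2⟩, hn⟩
  have hp := h.ih M x hM l
  have l' := h.lr_of l le_rfl (LL_le M)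
  obtain ⟨T, b⟩ := h.exists_bend hp l'.rk l'.pt l'.ne
  have hL : ∀ a ∈ D, a • x = x → a ∈ LL D M := fun a h1 h2 => mem_LL h1 (hA (mem_Ax_of h1 h2))
  have hAT : Ax D x ≤ T := (closure_le _).mpr fun a ha =>
    b.inv_mem a ⟨hL a ha.1 ha.2, ha.2⟩ (h.sq ha.1)
  obtain ⟨y, hy, hyx⟩ := h.exists_ne l'.pt l'.ne
  refine ⟨fun a ha c hc h1 h2 => inf_le_Od (odd_Od (LL D M)) ((hAT.trans (b.le.trans
    inf_le_left)).trans (le_nor_piCoreOf _ _)) ⟨b.inv_comm a ⟨hL a ha h1, h1⟩ (h.sq ha) c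
      (hAT (mem_Ax_of hc h2)), comm_mem_of_mem (mem_Ax_of ha h1) (mem_Ax_of hc h2)⟩, y, hyx,
    fun g hg => h.Od_le_St l'.rk hy (b.odd_mem (hAT (piCoreOf_le _ _ hg))
      (odd_orderOf_of_mem (odd_Od _) hg))⟩

omit h in
theorem fix_of_comm {c g : G} {y : Ω} {S : Set Ω} (hy : y ∈ S) (hc : ∀ z ∈ S, c • z ∈ S)
    (e : ∀ z ∈ S, g • c • z = c • g • z) (e0 : g • y = c • y) (n : ℕ) : g ^ n • y = c ^ n • y := by
  have key : ∀ n : ℕ, g • c ^ n • y = c ^ n • g • y := fun n => by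
    induction n with
    | zero => simp
    | succ n ih => rw [pow_succ', mul_smul, mul_smul, e _ (pow_inv hc n y hy), ih]
  induction n with
  | zero => simp
  | succ n ih => rw [pow_succ', mul_smul, ih, key, e0, ← mul_smul, ← pow_succ]

/-- the core of `C(v)` is trivial in the diamond case -/
theorem core_W (hd : ∀ x : Ω, Dia D x) {v : G} (hv : Wv Ω v) (h2 : RkD D (Cen1 v)) :
    Od (Cen1 v) = ⊥ := by
  obtain ⟨x, hx⟩ : ∃ x : Ω, v • x = x := let ⟨_, x, _, _, hx, _⟩ := hv; ⟨x, hx⟩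
  obtain ⟨-, y, hyx, hy⟩ := h.am_of_dia (hd x)
  wlog hvy : v • y ≠ y generalizing v
  · obtain ⟨u, hu, huv, hux⟩ := (h.pt_cen1 hv.1.2).mpr hx
    have := this (h.W_mul hv hu huv) (h.rk_mul hv h2 hu huv) (by rw [mul_smul, hux, hx]) (by
      rw [← c1_iff.mp huv, mul_smul, not_not.mp hvy]; exact fun e => hyx (h.uniq hu e hux))
    obtain ⟨g, e⟩ := h.conj_v hv h2 hu huv
    rw [← e, ← conjS_cen1, Od, ← conjS_piCoreOf]
    exact (congrArg (conjS g) this).trans (Subgroup.map_bot _)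
  set O := Od (Cen1 v) with hO
  have hOC : O ≤ Cen1 v := piCoreOf_le _ _
  have hCO : Cen1 v ≤ Nor O := le_nor_piCoreOf _ _
  have hOΦ : ∀ z : Ω, v • z = z → O ≤ St G z := fun z hz =>
    h.Od_le_St h2 ((h.pt_cen1 hv.1.2).mpr hz)
  have k1 : ∀ z : Ω, ∀ a ∈ D, a ∈ Cen1 v → a • z = z → ∀ o ∈ O,
      o⁻¹ * (a * o * a⁻¹) ∈ Od (Ax D z) := fun z a ha hav haz o ho => by
    have e : o⁻¹ * (a * o * a⁻¹) = o⁻¹ * a * o⁻¹⁻¹ * a := by rw [h.inv_eq ha]; group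
    refine mem_of_sq_mem (odd_orderOf_of_mem (odd_Od _)
      (mul_mem (inv_mem ho) (conj_mem (hCO hav) ho))) ?_
    rw [e, ← comm_eq_sq (h.sq (h.conj a ha _)) (h.sq ha)]
    refine (h.am_of_dia (hd z)).1 _ (h.conj a ha _) a ha ?_ haz
    have := conj_smul (g := o⁻¹) haz
    rwa [show o⁻¹ • z = z from
      (St G z).inv_mem (hOΦ z (h.cen_fix ha haz (c1_iff.mp hav).symm) ho)] at this
  obtain ⟨u, hu, h1, h3⟩ := h.exists_T hv.1.2 hvy
  have huv : u ∈ Cen1 v := c1_iff.mpr h3.symm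
  have k2 : u ∈ actMod O (O ⊓ St G y) inf_le_left := by
    have k3 : ∀ a ∈ D, a ∈ Cen1 v → ∀ z : Ω, a • z = z → Od (Ax D z) ⊓ Cen1 v ≤ St G y →
        a ∈ actMod O (O ⊓ St G y) inf_le_left := fun a ha hav z haz e =>
      ⟨hCO hav, fun o ho =>
        have e1 := mul_mem (inv_mem ho) (conj_mem (hCO hav) ho)
        ⟨e1, e ⟨k1 z a ha hav haz o ho, hOC e1⟩⟩⟩
    by_cases hux : u • x = x
    · exact k3 u hu huv x hux (inf_le_left.trans hy)
    obtain ⟨a, ha, hav, hax⟩ := (h.pt_cen1 hv.1.2).mpr hx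
    have ha' := conj_smul (g := u) hax
    obtain ⟨u', m1, m2, m3, -, m4⟩ := h.exists_swap (k3 a ha hav x hax (inf_le_left.trans hy))
      (k3 _ (h.conj a ha u) (cmem huv hav) _ ha' fun g hg => by
        have e1 := hg.1
        rw [← h.conjS_Ax, Od, ← conjS_piCoreOf] at e1
        have e2 := conjS_mono u hy e1
        rw [conjS_St, h1] at e2
        have e3 : g • v • y = v • y := e2
        rw [← mul_smul, c1_iff.mp hg.2, mul_smul] at e3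
        exact MulAction.injective v e3) ha (h.conj a ha u) hax ha' (Ne.symm hux)
    have := h.K_eq_one m2 m3 (Ne.symm hux) (h.mem_K_of_swap m2 m3 hu rfl) ha hax (by
      rw [h.inv_eq hu] at m4
      calc u * u' * a = u * (u' * a * u') * u' := by rw [mul_assoc u, mul_assoc u, mul_assoc _ u' u', h.sq m2, mul_one]
        _ = (u * u) * a * (u * u') := by rw [m4]; group
        _ = a * (u * u') := by rw [h.sq hu, one_mul])
    rwa [show u = u' by rw [← h.inv_eq m2]; exact eq_inv_of_mul_eq_one_left this]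
  obtain ⟨x', hx'⟩ := h.ex hu
  have hvx' : v • x' = x' := h.cen_fix hu hx' h3
  have hw := h.W_mul hv hu huv
  have hw2 := h.rk_mul hv h2 hu huv
  have hwx' : (v * u) • x' = x' := by rw [mul_smul, hx', hvx']
  have hwy : (v * u) • y = y := by rw [mul_smul, h1, hv.1.smul_smul]
  have hyx' : y ≠ x' := fun e => hvy (e ▸ hvx')
  set Y := O ⊓ Cen1 u with hY
  have hYC : Y ≤ Cen1 (v * u) := fun g hg => cen_mul (hOC hg.1) (c1_iff.mp hg.2).symm
  have hYo : Odd (Nat.card Y) := odd_of_le (odd_Od _) inf_le_left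
  have hYL : Y ≤ Nor (LL D (Cen1 (v * u))) := hYC.trans (le_normalizer.trans (h.nor_le_nor_LL _))
  have hMC : LL D (Cen1 (v * u)) ⊔ Y ≤ Cen1 (v * u) := sup_le (LL_le _) hYC
  have hp := (h.pure_W hw hw2).sup hYo hYL
  have l := h.lr_of (h.lr_W hw hw2 hwx') le_sup_left hMC
  set M := LL D (Cen1 (v * u)) ⊔ Y with hM
  obtain ⟨T, b⟩ := h.exists_bend hp l.rk l.pt l.ne
  have hPt : ∀ z : Ω, (v * u) • z = z → z ∈ Pt D Ω M := fun z hz =>
    Pt_of le_sup_left ((h.pt_cen1 hw.1.2).mpr hz)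
  have huM : u ∈ Dx D M x' := ⟨⟨hu, hx'⟩, mem_sup_left (mem_LL hu (cen_mul huv rfl))⟩
  have hcv : ∀ c ∈ T, c * u = u * c → c ∈ Cen1 v := fun c hc e => by
    have := cen_mul (hMC (b.le hc).1) e.symm
    rwa [mul_assoc, h.sq hu, mul_one] at this
  have k4 : Y ≤ St G y := fun g hg => by
    have hgx : g • x' = x' := hOΦ x' hvx' hg.1
    have hgM : g ∈ M := mem_sup_right hg
    obtain ⟨c, hc, e1, e2⟩ := h.bend_tr b hp l.rk huM (hPt y hwy) (h.Pt_smul' (hPt y hwy) hgM) hyx'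
      fun e => hyx' (MulAction.injective g (e.trans hgx.symm))
    have hcM := (b.le hc).1
    have e3 : c⁻¹ * g⁻¹ * c * g ∈ Od M := b.odd_mem
      (H5.mem_of_eq (mul_mem (inv_mem hc) (conj_mem (inv_mem (b.nor ⟨hgM, hgx⟩)) hc)) (by group))
      (odd_orderOf_of_mem (odd_Od (Cen1 v)) (H5.mem_of_eq (mul_mem
        (conj_mem (inv_mem (hCO (hcv c hc e1))) (inv_mem hg.1)) hg.1) (by group)))
    have e4 := fix_of_comm (g := g) (hPt y hwy) (fun z hz => h.Pt_smul' hz hcM) (fun z hz => by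
      have : (c⁻¹ * g⁻¹ * c * g) • z = z := h.Od_le_St l.rk hz e3
      rw [mul_smul, mul_smul, mul_smul, inv_smul_eq_iff, inv_smul_eq_iff] at this
      exact this.symm) e2.symm (orderOf g)
    rw [pow_orderOf_eq_one, one_smul] at e4
    obtain ⟨k, hk⟩ := b.two c hc
    have e5 : c ∈ St G y := mem_of_pow_odd (odd_orderOf_of_mem hYo hg) e4.symm
      (h.Od_le_St l.rk (hPt y hwy) hk)
    exact e2.symm.trans e5
  have k5 : O ≤ St G y := fun g hg => by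
    obtain ⟨k, hk, c, hc, e1, e2, rfl⟩ := exists_kc (h.sq hu) (hCO huv) (odd_Od _) hg
    refine mul_mem (mem_of_sq_mem (odd_orderOf_of_mem (odd_Od _) hk) ?_) (k4 ⟨hc, c1_iff.mpr e2⟩)
    have := (St G y).inv_mem (k2.2 k hk).2
    rwa [h.inv_eq hu, e1, mul_inv_rev, inv_inv] at this
  have k6 : ∀ z : Ω, (v * u) • z = z → O ≤ St G z := fun z hz => by
    by_cases e : z = x'
    · exact e ▸ hOΦ x' hvx'
    obtain ⟨c, hc, e1, rfl⟩ := h.bend_tr b hp l.rk huM (hPt y hwy) (hPt z hz) hyx' e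
    exact le_St_smul k5 (hCO (hcv c hc e1))
  refine eq_bot_iff.mpr fun g hg => h.faith g fun z => ?_
  by_cases hz : v • z = z
  · exact hOΦ z hz hg
  obtain ⟨u', hu', m1, m2⟩ := h.exists_T hv.1.2 hz
  obtain ⟨k, hk, -, e⟩ := h.conj_vu hv hu huv hu' (c1_iff.mpr m2.symm)
  have e1 : (v * u) • k⁻¹ • z = k⁻¹ • z := by
    rw [eq_inv_smul_iff, ← mul_smul, ← mul_smul, e, mul_smul, m1, hv.1.smul_smul]
  have := le_St_smul (k6 _ e1) (hCO (LL_le _ hk)) hg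
  rwa [smul_inv_smul] at this

theorem fam_of_dia (hd : ∀ x : Ω, Dia D x) {v : G} (hv : Wv Ω v) (h2 : RkD D (Cen1 v)) :
    Fam D Ω := by
  obtain ⟨x, hx⟩ : ∃ x : Ω, v • x = x := let ⟨_, x, _, _, hx, _⟩ := hv; ⟨x, hx⟩
  have hn : St G x ≤ Nor (Od (Ax D x)) := (h.St_le_nor x).trans (nor_le_nor_piCoreOf _ _)
  have k1 : ∀ w, Wv Ω w → RkD D (Cen1 w) → w • x = x → Od (Ax D x) ⊓ Cen1 w ≤ ⊥ :=
    fun w hw r2 hx => (h.odd_le_Od (h.pure_W hw r2) (h.lr_W hw r2 hx)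
      (le_inf inf_le_right (inf_le_left.trans ((piCoreOf_le _ _).trans (Ax_le x))))
      (H4.le_normalizer_inf (inf_le_right.trans hn) (inf_le_left.trans le_normalizer))
      (odd_of_le (odd_Od _) inf_le_left)).trans (h.core_W hd hw r2).le
  obtain ⟨u, hu, huv, hux⟩ := (h.pt_cen1 hv.1.2).mpr hx
  have k2 : Od (Ax D x) ≤ Cen1 u := le_of_four hv.1 (h.inv u hu) (fun e => h.not_mem_W hv (e ▸ hu))
    (c1_iff.mp huv).symm (odd_Od _) (hn hx) (hn hux) ((k1 v hv h2 hx).trans bot_le) inf_le_right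
    ((k1 _ (h.W_mul hv hu huv) (h.rk_mul hv h2 hu huv) (by rw [mul_smul, hux, hx])).trans bot_le)
  refine ⟨h.toPD, fun a ha b hb z haz hbz => ?_⟩
  obtain ⟨y, hy⟩ := h.two x
  obtain ⟨g, -, rfl⟩ := h.conj_D (h.all y) (h.all x) hy (mem_top u) hu (mem_top a) ha
  obtain rfl := h.uniq ha (conj_smul hux) haz
  have hc := h.conj' hb g
  have hcx : (g⁻¹ * b * g) • x = x := by rw [mul_smul, mul_smul, hbz, inv_smul_smul]
  have e1 := (h.am_of_dia (hd x)).1 u hu _ hc hux hcx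
  have e2 := c1_iff.mp (k2 e1)
  have e3 : ⁅u, g⁻¹ * b * g⁆ = 1 := eq_one_of_odd_of_sq (odd_orderOf_of_mem (odd_Od _) e1) (by
    rw [comm_eq_sq (h.sq hu) (h.sq hc)] at e2 ⊢
    generalize g⁻¹ * b * g = c at *
    calc u * c * (u * c) * (u * c * (u * c)) = (u * c * (u * c) * u) * (c * u * c) := by group
      _ = (u * u) * c * u * (c * c) * u * c := by rw [e2]; group
      _ = 1 := by rw [h.sq hu, h.sq hc, one_mul, mul_one, mul_assoc c, h.sq hu, mul_one, h.sq hc])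
  have := conj_comm (commutatorElement_eq_one_iff_mul_comm.mp e3) g
  simpa [mul_assoc] using this

theorem rk_of_am (ha' : ∀ x : Ω, Am D x) {w : G} (hw : Wv Ω w) : RkD D (Cen1 w) := by
  by_contra h1
  obtain ⟨x, hx⟩ : ∃ x : Ω, w • x = x := let ⟨_, x, _, _, hx, _⟩ := hw; ⟨x, hx⟩
  set θ := Od (Ax D x) with hθ
  have hn : St G x ≤ Nor θ := (h.St_le_nor x).trans (nor_le_nor_piCoreOf _ _)
  obtain ⟨X, _, _, f, hf, hk⟩ := H5.exists_hom_ker_eq hn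
  have k0 : ∀ a ∈ D, ∀ b ∈ D, a • x = x → b • x = x → Odd (orderOf (a * b)) → a * b ∈ θ :=
    fun a h1 b h2 e1 e2 ho => mem_of_sq_mem ho (comm_eq_sq (h.sq h1) (h.sq h2) ▸ ha' x a h1 b h2 e1 e2)
  have fe : ∀ a b : St G x, (a : G) ∈ D → (f a = f b ↔ (a : G) * b ∈ θ) := fun a b h1 => by
    rw [im_eq_iff hk, h.inv_eq h1]
  have f2 : ∀ a : St G x, (a : G) * a = 1 → f a * f a = 1 := fun a e => by
    rw [← map_mul]; exact (congrArg f (Subtype.ext e)).trans (map_one f)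
  have k1 : ∀ y ∈ H5.im f (Ax D x), y = 1 ∨ ∃ a : St G x, (a : G) ∈ D ∧ f a = y := by
    rintro _ ⟨⟨g, hg0⟩, hg, rfl⟩
    change g ∈ Ax D x at hg
    induction hg using closure_induction with
    | mem a ha => exact Or.inr ⟨_, ha.1, rfl⟩
    | one => exact Or.inl (map_one f)
    | inv a ha ih =>
      have e : f ⟨a⁻¹, hg0⟩ = (f ⟨a, Ax_le x ha⟩)⁻¹ := by rw [← map_inv]; rfl
      rcases ih (Ax_le x ha) with e1 | ⟨c, hc, e1⟩
      · exact Or.inl (by rw [e, e1, inv_one])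
      · exact Or.inr ⟨c, hc, by rw [e, ← e1, inv_eq_self_of_sq (f2 c (h.sq hc))]⟩
    | mul a b ha hb i1 i2 =>
      have e : f ⟨a * b, hg0⟩ = f ⟨a, Ax_le x ha⟩ * f ⟨b, Ax_le x hb⟩ := by rw [← map_mul]; rfl
      rw [e]
      rcases i1 (Ax_le x ha) with e1 | ⟨c, hc, e1⟩
      · rw [e1, one_mul]; exact i2 _
      rcases i2 (Ax_le x hb) with e2 | ⟨d, hd, e2⟩
      · rw [e2, mul_one]; exact Or.inr ⟨c, hc, e1⟩
      rw [← e1, ← e2, ← map_mul]
      have e3 : (c * d) * (c * d) ∈ f.ker := by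
        rw [hk]; exact (show (c : G) * d * (c * d) ∈ θ from
          comm_eq_sq (h.sq hc) (h.sq hd) ▸ ha' x c hc d hd c.2 d.2)
      by_cases ho : Odd (orderOf ((c : G) * d))
      · exact Or.inl ((H5.map_eq_one_iff_of_ker hk).mpr (k0 c hc d hd c.2 d.2 ho))
      obtain ⟨n, m1, -⟩ := h.exists_pow_mem hc hd ho
      rcases Nat.even_or_odd' n with ⟨m, rfl | rfl⟩
      · refine ((h.inv _ m1).not_mem (odd_Od (Ax D x)) ?_).elim
        rw [pow_mul, pow_two]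
        exact pow_mem (by rw [hk] at e3; exact e3) m
      · refine Or.inr ⟨(c * d) ^ (2 * m + 1), m1, ?_⟩
        rw [pow_succ, map_mul, pow_mul, pow_two, map_pow, e3, one_pow, one_mul]
  have k2 : ∀ y ∈ H5.im f (Ax D x), y * y = 1 := fun y hy => by
    rcases k1 y hy with rfl | ⟨a, ha, rfl⟩
    exacts [one_mul 1, f2 a (h.sq ha)]
  have k3 : ∀ a : St G x, (a : G) ∈ D → f a ∈ Cen1 (f ⟨w, hx⟩) →
      ∃ b : St G x, (b : G) ∈ D ∧ (b : G) ∈ Cen1 w ∧ f b = f a := fun a h2 h3 => by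
    have : Fact (Nat.Prime 2) := ⟨Nat.prime_two⟩
    let S : Set G := {b | ∃ hb : b ∈ St G x, b ∈ D ∧ f ⟨b, hb⟩ = f a}
    have cl : ∀ g : St G x, f g * f a = f a * f g → ∀ z ∈ S, (g : G) * z * (g : G)⁻¹ ∈ S := by
      rintro g e z ⟨z1, z2, z3⟩
      refine ⟨cmem g.2 z1, h.conj z z2 g, ?_⟩
      rw [show (⟨_, cmem g.2 z1⟩ : St G x) = g * ⟨z, z1⟩ * g⁻¹ from rfl, map_mul, map_mul, z3, e,
        map_inv, mul_inv_cancel_right]
    have m1 := modEq_cen_elt (p := 2) (g := (a : G)) (k := 1) (by rw [pow_one, pow_two, h.sq h2])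
      (cl a rfl)
    rw [show S ∩ Cen1 (a : G) = {(a : G)} from Set.ext fun b => ⟨fun ⟨⟨b1, b2, b3⟩, b4⟩ => by
      by_contra e
      exact (h.inv _ (h.mul _ h2 b b2 (Ne.symm e) (c1_iff.mp b4).symm)).not_mem (odd_Od _)
        ((fe a ⟨b, b1⟩ h2).mp b3.symm), by
        rintro rfl; exact ⟨⟨a.2, h2, rfl⟩, c1_iff.mpr rfl⟩⟩, Set.ncard_singleton] at m1
    obtain ⟨b, ⟨b1, b2, b3⟩, b4⟩ := exists_cen_inv hw.1.2 (cl ⟨w, hx⟩ (c1_iff.mp h3).symm)
      (Nat.odd_iff.mpr m1)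
    exact ⟨⟨b, b1⟩, b2, c1_iff.mpr b4, b3⟩
  have k4 : ∀ y ∈ H5.im f (Ax D x) ⊓ Cen1 (f ⟨w, hx⟩), ∀ z ∈ H5.im f (Ax D x) ⊓ Cen1 (f ⟨w, hx⟩),
      y ≠ 1 → z ≠ 1 → y = z := fun y hy z hz y1 z1 => by
    obtain ⟨a, a1, rfl⟩ := (k1 y hy.1).resolve_left y1
    obtain ⟨b, b1, rfl⟩ := (k1 z hz.1).resolve_left z1
    obtain ⟨c, c1, c2, e1⟩ := k3 a a1 hy.2
    obtain ⟨d, d1, d2, e2⟩ := k3 b b1 hz.2
    rw [← e1, ← e2, fe c d c1]
    exact k0 c c1 d d1 c.2 d.2 (by_contra fun he => h1 (h.rk_of_even c1 d1 c2 d2 he))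
  have hA : (⊤ : Subgroup X) ≤ Nor (H5.im f (Ax D x)) := by
    rw [← H5.im_self hf]; exact H5.im_le_normalizer (h.St_le_nor x)
  have w2 := f2 ⟨w, hx⟩ hw.1.2
  have k5 : Nat.card ↥(H5.im f (Ax D x) ⊓ Cen1 (f ⟨w, hx⟩)) ≤ 2 := by
    by_contra hc
    obtain ⟨a, a1, b, b1, e1, e2, e3⟩ := exists_two_ne (not_le.mp hc)
    exact e3 (k4 a a1 b b1 e1 e2)
  have k6 := four_cen ((card_le_sq k2 (hA (mem_top (f ⟨w, hx⟩))) fun a _ => by
    rw [w2, one_mul, mul_one]).trans (Nat.pow_le_pow_left k5 2)) hA (by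
      rw [← H5.im_self hf, ← H5.im_commutator le_rfl le_rfl]
      exact H5.mem_im_of_mem hx (h.mem_comm hw.1.2 hx)) w2
  obtain ⟨a, a1, b, b1, e1, e2⟩ := h.rk_at h.rk (h.all x)
  have m1 := H5.mem_im_of_mem (f := f) a1.1.2 (mem_Ax_of a1.1.1 a1.1.2)
  have m2 := H5.mem_im_of_mem (f := f) b1.1.2 (mem_Ax_of b1.1.1 b1.1.2)
  have n1 : ∀ c ∈ D, ∀ hc : c ∈ St G x, f ⟨c, hc⟩ ≠ 1 := fun c c1 hc e =>
    (h.inv c c1).not_mem (odd_Od _) ((H5.map_eq_one_iff_of_ker hk).mp e)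
  exact (h.inv _ (h.mul a a1.1.1 b b1.1.1 e1 e2)).not_mem (odd_Od _) ((fe ⟨a, a1.1.2⟩ ⟨b, b1.1.2⟩
    a1.1.1).mp (k4 _ ⟨m1, k6 m1⟩ _ ⟨m2, k6 m2⟩ (n1 a a1.1.1 _) (n1 b b1.1.1 _)))

theorem uniq_of_star (hs : Star D Ω) {M : Subgroup G} (h1 : ¬ RkD D M) {x : Ω}
    (hn : ¬ M ≤ St G x) {u u' : G} (hu : u ∈ Dx D M x) (hu' : u' ∈ Dx D M x) : u = u' := by
  have r1 := fun a (ha : a ∈ Dx D M x) => h.rank_one h1 ha.2 ha.1.1
  have hE : ¬ Od M ≤ St G x := fun e => hn fun g hg => by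
    obtain ⟨o, ho, c, -, e1, rfl⟩ := exists_oc (h.inv u hu.1.1) (odd_Od M) (piCoreOf_le _ _)
      (r1 u hu) hg
    exact mul_mem (e ho) (h.cen_fix hu.1.1 hu.1.2 e1)
  obtain ⟨V, ⟨v1, v2, v3⟩, hmin⟩ := exists_minimal_of_wellFoundedLT
    (fun V : Subgroup G => V ≤ Od M ∧ M ≤ Nor V ∧ ¬ V ≤ St G x) ⟨_, le_rfl, le_nor_piCoreOf _ _, hE⟩
  have hVo := odd_of_le (odd_Od M) v1
  have hV : ⁅V, V⁆ ≤ St G x := by
    by_contra hc
    have l := H5.commutator_lt_self (odd_solvable hVo) fun e => v3 (e ▸ bot_le)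
    exact l.not_ge (hmin ⟨l.le.trans v1, H5.le_normalizer_commutator v2 v2, hc⟩ l.le)
  obtain ⟨g, hg, hgx⟩ := SetLike.not_le_iff_exists.mp v3
  have key : ∀ a ∈ Dx D M x, a • g • x = g⁻¹ • x := fun a ha => by
    obtain ⟨k, hk, c, hc, e1, e2, rfl⟩ := exists_kc (h.sq ha.1.1) (v2 ha.2) hVo hg
    have e3 : c • x = x := h.cen_fix ha.1.1 ha.1.2 e2
    have e4 : ⁅k, c⁻¹⁆ • x = x := hV (commutator_mem_commutator hk (inv_mem hc))
    rw [mul_smul, e3, t_smul_of_inv (h.inv a ha.1.1) ha.1.2 e1,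
      show (k * c)⁻¹ = k⁻¹ * ⁅k, c⁻¹⁆ * c⁻¹ by rw [commutatorElement_def]; group, mul_smul, mul_smul,
      inv_smul_eq_iff.mpr e3.symm, e4]
  obtain ⟨k, hk, -, e⟩ := h.conj_at ⟨u, hu.1.1, hu.2, hu.1.2⟩ hn hu hu'
  have ho : Odd (orderOf (u' * u)) :=
    odd_orderOf_of_mem (odd_Od M) (r1 u hu (e ▸ mem_Cm (h.sq hu.1.1) (LL_le M hk)))
  have e1 : (u' * u) • g • x = g • x := by
    rw [mul_smul, key u hu, ← key u' hu', h.smul_smul hu'.1.1]
  have e2 := c1_iff.mp (hs u hu.1.1 x (g • x) hu.1.2 hgx (show u' * u ∈ _ from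
    ⟨show (u' * u) • x = x by rw [mul_smul, hu.1.2, hu'.1.2], e1, show (u' * u) • u • g • x = _ by
      rw [mul_smul, h.smul_smul hu.1.1, key u hu, key u' hu']⟩))
  have e3 : u' * u = 1 := eq_one_of_odd_of_sq ho (by
    rw [mul_assoc, h.sq hu.1.1, mul_one] at e2
    rw [mul_assoc, ← mul_assoc u, mul_assoc u, ← e2, h.sq hu'.1.1])
  rw [← h.inv_eq hu.1.1]
  exact (eq_inv_of_mul_eq_one_left e3).symm

theorem fam_of_cen {u : G} {x : Ω} (hu : u ∈ D) (hux : u • x = x)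
    (hc : ∀ a ∈ D, a • x = x → a * u = u * a) : Fam D Ω := by
  refine ⟨h.toPD, fun a ha b hb z haz hbz => ?_⟩
  obtain ⟨y, hy⟩ := h.two x
  obtain ⟨g, -, rfl⟩ := h.conj_D (h.all y) (h.all x) hy (mem_top u) hu (mem_top a) ha
  obtain rfl := h.uniq ha (conj_smul hux) haz
  have := conj_comm (hc _ (h.conj' hb g) (by rw [mul_smul, mul_smul, hbz, inv_smul_smul])) g
  simpa [mul_assoc] using this.symm

theorem fam_of_rank_one (hs : Star D Ω) {w : G} (hw : Wv Ω w) (h1 : ¬ RkD D (Cen1 w)) :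
    Fam D Ω := by
  obtain ⟨x, hx⟩ : ∃ x : Ω, w • x = x := let ⟨_, x, _, _, hx, _⟩ := hw; ⟨x, hx⟩
  have key : ∀ v, Wv Ω v → ¬ RkD D (Cen1 v) → v • x = x → ∀ a ∈ Dx D (Cen1 v) x,
      ∀ b ∈ Dx D (Cen1 v) x, a = b := fun v hv r hx a ha b hb =>
    let ⟨_, hy, hvy⟩ := hv.ex x
    h.uniq_of_star hs r (h.not_le_of_ne ((h.pt_cen1 hv.1.2).mpr hvy) hy) ha hb
  obtain ⟨u, hu, huw, hux⟩ := (h.pt_cen1 hw.1.2).mpr hx
  refine h.fam_of_cen hu hux fun a ha hax => ?_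
  have he : ¬ Odd (orderOf (w * a)) := fun ho => by
    obtain ⟨n, e1, e2, -⟩ := BS.exists_swap (h.sq ha) hw.1.2 ho
    exact h.not_mem_W hw (e2 ▸ h.conj2 ha e1)
  obtain ⟨n, e1, e2, e3, e4⟩ := exists_central_inv hw.1.2 (h.sq ha) he
  have e5 : (w * a) ^ n • x = x := pow_fix (by rw [mul_smul, hax, hx]) n
  by_cases hz : (w * a) ^ n ∈ D
  · rw [← key w hw h1 hx _ ⟨⟨hz, e5⟩, c1_iff.mpr e3⟩ u ⟨⟨hu, hux⟩, huw⟩, e4]
  rcases Nat.even_or_odd' n with ⟨m, rfl | rfl⟩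
  · have e : (a * w) ^ (2 * m) = (w * a) ^ (2 * m) := by
      rw [← inv_eq_self_of_sq e2, ← inv_pow, mul_inv_rev, h.inv_eq ha, hw.1.inv]
    have hD : a * (w * a) ^ (2 * m) ∈ D := by
      rw [← e, (dih_par (h.sq ha) hw.1.2 m).1]; exact h.conj' ha _
    have := h.mul a ha _ hD (fun e => e1 (by simpa using e)) (by rw [mul_assoc, e4])
    rw [← mul_assoc, h.sq ha, one_mul] at this
    exact (hz this).elim
  · generalize hn : 2 * m + 1 = n at *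
    have hD : w * (w * a) ^ n ∈ D := by
      rw [← hn, (dih_par hw.1.2 (h.sq ha) m).2]; exact h.conj' ha _
    have e6 := key w hw h1 hx _ ⟨⟨hD, by rw [mul_smul, e5, hx]⟩,
      c1_iff.mpr (by rw [mul_assoc, e3])⟩ u ⟨⟨hu, hux⟩, huw⟩
    have e7 : w * u = (w * a) ^ n := by rw [← e6, ← mul_assoc, hw.1.2, one_mul]
    have hv := h.W_mul hw hu huw
    refine (key _ hv (fun r => h1 ?_) (e7 ▸ e5) a ⟨⟨ha, hax⟩, c1_iff.mpr (e7 ▸ e4.symm)⟩ u
      ⟨⟨hu, hux⟩, cen_mul huw rfl⟩) ▸ rfl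
    have := h.rk_mul hv r hu (cen_mul huw rfl)
    rwa [mul_assoc, h.sq hu, mul_one] at this

theorem star_of_fam (f : Fam D Ω) : Star D Ω := fun t ht τ γ hτ hne g hg => by
  have e := h.Cm_Ug_le ht hτ hne (mem_Cm (h.sq ht) hg)
  have h1 : (g * t * g⁻¹) • τ = τ := by
    have := conj_smul (g := g) hτ
    rwa [show g • τ = τ from hg.1] at this
  have e2 := f.comm _ (h.conj t ht g) t ht τ h1 hτ
  have e3 : g * t * g⁻¹ * t = 1 := eq_one_of_odd_of_sq (odd_orderOf_of_mem (odd_Od _) e) (by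
    rw [mul_assoc (g * t * g⁻¹), ← mul_assoc t, ← e2, mul_assoc (g * t * g⁻¹) t t, h.sq ht, mul_one,
      h.sq (h.conj t ht g)])
  refine c1_iff.mpr (mul_inv_eq_iff_eq_mul.mp ?_)
  rw [eq_inv_of_mul_eq_one_left e3, h.inv_eq ht]

theorem am_of_fam (f : Fam D Ω) (x : Ω) : Am D x := fun a ha b hb h1 h2 => by
  rw [commutatorElement_eq_one_iff_mul_comm.mpr (f.comm a ha b hb x h1 h2)]
  exact one_mem _

/-- (**) holds and all the involutions fixing two points have `D`-rank at least two -/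
theorem star_rk {w : G} (hw : Wv Ω w) : Star D Ω ∧ ∀ v, Wv Ω v → RkD D (Cen1 v) := by
  have key : Fam D Ω → Star D Ω ∧ ∀ v, Wv Ω v → RkD D (Cen1 v) := fun f =>
    ⟨h.star_of_fam f, fun _ hv => h.rk_of_am (h.am_of_fam f) hv⟩
  rcases h.star_or_dia with hs | hd
  · exact ⟨hs, fun v hv => by_contra fun r => r ((key (h.fam_of_rank_one hs hv r)).2 v hv)⟩
  · exact key (h.fam_of_dia hd hw (h.rk_of_am (fun x => (h.am_of_dia (hd x)).1) hw))

end Mc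

end SF
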