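import Cfsg.Agent.SF.F

/-! The structure of the proper subgroups under (**), and the basic count. -/

set_option autoImplicit false
set_option linter.unusedSectionVars false

namespace SF

open Cfsg Subgroup FT H4 BS
open scoped commutatorElement

universe u

section Gen
variable {G : Type*} [Group G] [Finite G]

instance fact2 : Fact (Nat.Prime 2) := ⟨Nat.prime_two⟩

theorem exists_inv_pow {R : Subgroup G} (hR : IsPGroup 2 R) {c : G} (hc : c ∈ R) (h1 : c ≠ 1) :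
    ∃ n : ℕ, Inv (c ^ n) := by
  obtain ⟨k, hk⟩ := IsPGroup.iff_card.mp (hR.to_le (zpowers_le.mpr hc))
  have : Even (Nat.card (zpowers c)) := by
    rcases k with _ | k
    · exact absurd (zpowers_eq_bot.mp (card_eq_one.mp hk)) h1
    · rw [hk]; exact (Nat.even_pow' k.succ_ne_zero).mpr even_two
  obtain ⟨a, ha, h2, h3⟩ := exists_inv_of_even this
  obtain ⟨n, rfl⟩ := mem_powers_iff_mem_zpowers.mpr ha
  exact ⟨n, h2, h3⟩

theorem eq_one_of_two_odd {R : Subgroup G} (hR : IsPGroup 2 R) {c : G} (hc : c ∈ R)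
    (ho : Odd (orderOf c)) : c = 1 := by
  by_contra h1
  obtain ⟨n, hn⟩ := exists_inv_pow hR hc h1
  exact hn.not_odd (ho.of_dvd_nat (orderOf_pow_dvd n))

theorem ncard_double {α β : Type*} [Finite α] [Finite β] {S : Set α} {T : Set β} (r : α → β → Prop)
    {a b : ℕ} (h1 : ∀ x ∈ S, {y | y ∈ T ∧ r x y}.ncard = a)
    (h2 : ∀ y ∈ T, {x | x ∈ S ∧ r x y}.ncard = b) : S.ncard * a = T.ncard * b := by
  classical
  rw [Set.ncard_eq_toFinset_card S, Set.ncard_eq_toFinset_card T]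
  refine Finset.card_mul_eq_card_mul r (fun x hx => ?_) fun y hy => ?_
  · rw [← h1 x (by simpa using hx), ← Set.ncard_coe_finset]
    congr 1; ext; simp
  · rw [← h2 y (by simpa using hy), ← Set.ncard_coe_finset]
    congr 1; ext; simp

theorem ncard_fib {α β : Type*} [Finite α] [Finite β] {S : Set α} {T : Set β} (f : α → β) {b : ℕ}
    (h1 : ∀ x ∈ S, f x ∈ T) (h2 : ∀ y ∈ T, {x | x ∈ S ∧ f x = y}.ncard = b) :
    S.ncard = T.ncard * b := by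
  rw [← ncard_double (fun x y => f x = y) (a := 1) (fun x hx => ?_) h2, mul_one]
  rw [show {y | y ∈ T ∧ f x = y} = {f x} from Set.ext fun y =>
    ⟨fun h => h.2.symm, by rintro rfl; exact ⟨h1 x hx, rfl⟩⟩, Set.ncard_singleton]

theorem comm_one_of_cen {a b : G} (ha : a * a = 1) (hb : b * b = 1) (ho : Odd (orderOf ⁅a, b⁆))
    (e : ⁅a, b⁆ * a = a * ⁅a, b⁆) : a * b = b * a := by
  refine commutatorElement_eq_one_iff_mul_comm.mp (eq_one_of_odd_of_sq ho ?_)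
  rw [comm_eq_sq ha hb] at e ⊢
  calc a * b * (a * b) * (a * b * (a * b)) = (a * b * (a * b) * a) * (b * a * b) := by group
    _ = (a * a) * b * a * (b * b) * a * b := by rw [e]; group
    _ = 1 := by rw [ha, hb, one_mul, mul_one, mul_assoc b, ha, mul_one, hb]

end Gen

variable {G : Type u} [Group G] [Finite G] {Ω : Type*} [MulAction G Ω] [Finite Ω] {D : Set G}

/-- the Sylow 2-subgroup of `⟨D ∩ M⟩_x` -/
noncomputable def Qx (D : Set G) (M : Subgroup G) (x : Ω) : Subgroup G :=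
  pCoreIn 2 (LL D M ⊓ St G x)

/-- the involutions of `Q` -/
noncomputable abbrev Az (D : Set G) (M : Subgroup G) (x : Ω) : Subgroup G := Q0 (Qx D M x)

/-- the two point stabilizer -/
abbrev Ez (D : Set G) (M : Subgroup G) (x y : Ω) : Subgroup G := LL D M ⊓ (St G x ⊓ St G y)

/-- `⟨D ∩ M⟩` is a Bender group -/
structure Sr (D : Set G) (M : Subgroup G) (x y : Ω) (t : G) : Prop where
  pd : PD D Ω
  lr : Lr D M x
  pure : Pure D (LL D M)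
  tD : t ∈ D
  tM : t ∈ M
  txy : t • x = y
  ne : x ≠ y
  bd : Bd (LL D M) (LL D M ⊓ St G x) (Qx D M x) (Ez D M x y) t

theorem Qx_two (M : Subgroup G) (x : Ω) : IsPGroup 2 (Qx D M x) := isPGroup_pCoreIn _ _

theorem Qx_le (M : Subgroup G) (x : Ω) : Qx D M x ≤ LL D M ⊓ St G x := pCoreIn_le _ _

theorem Qx_le_M (M : Subgroup G) (x : Ω) : Qx D M x ≤ M :=
  (Qx_le M x).trans (inf_le_left.trans (LL_le M))

theorem Qx_le_St (M : Subgroup G) (x : Ω) : Qx D M x ≤ St G x := (Qx_le M x).trans inf_le_right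

theorem Az_le (M : Subgroup G) (x : Ω) : Az D M x ≤ Qx D M x := A1.Q0_le_Q

theorem nor_Qx {M : Subgroup G} {x : Ω} {g : G} (h1 : g ∈ Nor (LL D M)) (h2 : g • x = x) :
    g ∈ Nor (Qx D M x) :=
  normalizer_le_normalizer_pCoreIn _ _ (mem_nor_inf h1 (t_mem_nor_St h2))

theorem nor_Q0 {Q : Subgroup G} {g : G} (h : g ∈ Nor Q) : g ∈ Nor (Q0 Q) :=
  mem_nor_closure fun _ ha => ⟨conj_mem h ha.1, conj_sq_eq_one ha.2⟩

namespace PD
variable (h : PD D Ω) {M : Subgroup G} {x y : Ω} {t : G}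
include h

theorem nor_LL {g : G} (hg : g ∈ M) : g ∈ Nor (LL D M) := h.nor_le_nor_LL M (le_normalizer hg)

theorem semi {R : Subgroup G} (hR : IsPGroup 2 R) (hp : Pure D R) (hx : R ≤ St G x) {c : G}
    (hc : c ∈ R) {z : Ω} (hz : c • z = z) (hne : z ≠ x) : c = 1 := by
  by_contra h1
  obtain ⟨n, hn⟩ := exists_inv_pow hR hc h1
  exact hne (h.uniq (hp _ (pow_mem hc n) hn) (pow_fix hz n) (hx (pow_mem hc n)))

theorem semi_dvd {R : Subgroup G} (hR : IsPGroup 2 R) (hp : Pure D R) (hx : R ≤ St G x)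
    {S : Set Ω} (h1 : ∀ g ∈ R, ∀ z ∈ S, g • z ∈ S) (h2 : x ∉ S) : Nat.card R ∣ S.ncard :=
  card_dvd_of_semireg h1 fun _ hg z hz e => h.semi hR hp hx hg e fun e' => h2 (e' ▸ hz)

theorem conjS_Qx (g : G) (M : Subgroup G) (x : Ω) :
    conjS g (Qx D M x) = Qx D (conjS g M) (g • x) := by
  rw [Qx, conjS_pCoreIn, conjS_inf, h.conjS_LL, conjS_St, Qx]

theorem ncard_Dx_conj (g : G) (M : Subgroup G) (x : Ω) :
    (Dx D (conjS g M) (g • x)).ncard = (Dx D M x).ncard := by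
  symm
  exact Set.ncard_congr (fun a _ => g * a * g⁻¹) (fun a ha => ⟨⟨h.conj a ha.1.1 g,
    conj_smul ha.1.2⟩, conj_mem_conjS ha.2⟩) (fun a b _ _ e => by simpa using e) fun b hb =>
      ⟨g⁻¹ * b * g, ⟨⟨h.conj' hb.1.1 g, by rw [mul_smul, mul_smul, hb.1.2, inv_smul_smul]⟩,
        mem_conjS.mp hb.2⟩, by group⟩

theorem sr_of (hp : Pure D (LL D M)) (l : Lr D M x) (hc : Od (LL D M) ≤ Cen (LL D M))
    (ht : t ∈ D) (htM : t ∈ M) (hxy : t • x = y) (hne : x ≠ y) : Sr D M x y t := by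
  have l' := h.lr_of l le_rfl (LL_le M)
  obtain ⟨T, b⟩ := h.exists_bend hp l'.rk l'.pt l'.ne
  have htL := mem_LL ht htM
  have hy : y ∈ Pt D Ω (LL D M) := hxy ▸ h.Pt_smul' l'.pt htL
  obtain ⟨S, hS⟩ := H5.exists_isSylowOf 2 T
  have hT : T ≤ S ⊔ Od (LL D M) := H5.le_of_forall_sylow fun r _ _ => by
    by_cases e : r = 2
    · subst e; exact ⟨S, hS, le_sup_left⟩
    · obtain ⟨R, hR⟩ := H5.exists_isSylowOf r T
      exact ⟨R, hR, fun g hg => mem_sup_right (b.odd_mem (hR.le hg)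
        (odd_orderOf_of_mem (odd_of_isPGroup e hR.isPGroup) hg))⟩
  have hSL : S ≤ LL D M ⊓ St G x := hS.le.trans b.le
  have hTS : T ≤ Nor S := hT.trans (sup_le le_normalizer
    (hc.trans ((centralizer_anti (hSL.trans inf_le_left)).trans (centralizer_le_normalizer _))))
  have hSQ : S ≤ Qx D M x := le_pCoreIn hSL (fun g hg => by
    obtain ⟨n, hn, e⟩ := hS.frattini (b.nor hg)
    simpa using mul_mem (hTS hn) e) hS.isPGroup
  have hOE : Od (LL D M) ≤ Ez D M x y :=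
    le_inf (piCoreOf_le _ _) (le_inf (h.Od_le_St l'.rk l'.pt) (h.Od_le_St l'.rk hy))
  have hE := h.odd_two hp hne
  obtain ⟨a, ha, c, hc', e1, e2⟩ := h.rk_at l'.rk l'.pt
  have hin : ∀ a ∈ Dx D (LL D M) x, a ∈ Qx D M x := fun a ha => hSQ (hS.le_of_le_normalizer'
    (pgroup_zp (h.sq ha.1.1)) (zpowers_le.mpr (b.inv_mem a ⟨ha.2, ha.1.2⟩ (h.sq ha.1.1)))
    (zpowers_le.mpr (hTS (b.inv_mem a ⟨ha.2, ha.1.2⟩ (h.sq ha.1.1)))) (mem_zpowers a))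
  have a1 : A1 (LL D M) (LL D M ⊓ St G x) (Qx D M x) (Ez D M x y) t :=
    { le := inf_le_left
      t_mem := htL
      t_nmem := fun e => hne (e.2.symm.trans hxy)
      t_sq := h.sq ht
      D_eq := by rw [conjS_inf, conjS_St, conjS_eq_of_mem htL, hxy, ← inf_inf_distrib_left]
      sd := ⟨le_antisymm (sup_le (Qx_le M x) (inf_le_inf_left _ inf_le_left))
          ((b.eq_sup ((h.del_iff hp).mpr hy) hne.symm).le.trans (sup_le (hT.trans
            (sup_le_sup hSQ hOE)) le_sup_right)),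
        eq_bot_iff.mpr fun g hg => eq_one_of_two_odd (Qx_two M x) hg.1 (odd_orderOf_of_mem hE hg.2),
        fun g hg => nor_Qx (le_normalizer hg.1) hg.2.1⟩
      even := even_of_inv (hin a ha) (h.inv a ha.1.1).1 (h.sq ha.1.1)
      odd := hE
      trans := fun g hg hgx => by
        obtain ⟨q, hq, e⟩ := b.tr y (g • x) ((h.del_iff hp).mpr hy)
          ((h.del_iff hp).mpr (h.Pt_smul' l'.pt hg)) hne.symm fun e => hgx ⟨hg, e⟩
        refine ⟨q, b.le hq, t⁻¹ * q⁻¹ * g, ⟨(LL D M).mul_mem (mul_mem (inv_mem htL)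
          ((LL D M).inv_mem (b.le hq).1)) hg, ?_⟩, by group⟩
        change (t⁻¹ * q⁻¹ * g) • x = x
        rw [mul_smul, mul_smul, ← e, inv_smul_smul, ← hxy, inv_smul_smul] }
  have a3 : A3 (Qx D M x) := ⟨a, hin a ha, c, hin c hc', (h.inv a ha.1.1).1, (h.inv c hc'.1.1).1,
    e1, h.sq ha.1.1, h.sq hc'.1.1⟩
  exact ⟨h, l, hp, ht, htM, hxy, hne, a1, a3, suzuki G _ _ _ _ _ a1 a3⟩

theorem core_cen (hs : Star D Ω) (l : Lr D M x) : Od (LL D M) ≤ Cen (LL D M) := by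
  rw [le_centralizer_iff, LL_le_iff]
  intro a ha haM
  obtain ⟨z, hz⟩ := h.ex ha
  have l' := h.lr_at l ⟨a, ha, haM, hz⟩
  obtain ⟨y, hy, hne⟩ := h.exists_ne l'.pt l'.ne
  exact le_cen1_iff.mp ((le_inf (h.Od_le_St l.rk.LL (Pt_LL' l'.pt)) (le_inf
    (h.Od_le_St l.rk.LL (Pt_LL' hy)) (h.Od_le_St l.rk.LL (Pt_LL' (h.Pt_smul' hy haM))))).trans
      (hs a ha z y hz hne))

end PD

namespace Sr
variable {M : Subgroup G} {x y : Ω} {t : G} (s : Sr D M x y t)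
include s

theorem tL : t ∈ LL D M := mem_LL s.tD s.tM

theorem pty : y ∈ Pt D Ω M := s.txy ▸ s.pd.Pt_smul' s.lr.pt s.tM

theorem tyx : t • y = x := s.pd.swap s.tD s.txy

theorem pureQ : Pure D (Qx D M x) := s.pure.mono ((Qx_le M x).trans inf_le_left)

theorem mem_A {a : G} : a ∈ Az D M x ↔ a = 1 ∨ a ∈ Dx D M x := by
  rw [s.bd.mem0]
  refine ⟨fun ⟨h1, h2⟩ => or_iff_not_imp_left.mpr fun e =>
    ⟨⟨s.pureQ a h1 ⟨e, h2⟩, Qx_le_St M x h1⟩, Qx_le_M M x h1⟩, ?_⟩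
  rintro (rfl | ha)
  · exact ⟨one_mem _, mul_one _⟩
  · exact ⟨s.bd.toA1.inv_mem_Q ⟨mem_LL ha.1.1 ha.2, ha.1.2⟩ (s.pd.sq ha.1.1), s.pd.sq ha.1.1⟩

theorem mem_A_of {a : G} (h1 : a ∈ D) (h2 : a • x = x) (h3 : a ∈ M) : a ∈ Az D M x :=
  s.mem_A.mpr (Or.inr ⟨⟨h1, h2⟩, h3⟩)

theorem A_D {a : G} (ha : a ∈ Az D M x) (h1 : a ≠ 1) : a ∈ D :=
  ((s.mem_A.mp ha).resolve_left h1).1.1

theorem card_A : Nat.card (Az D M x) = (Dx D M x).ncard + 1 := by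
  rw [← ncard_ne_one]
  congr 2
  exact Set.ext fun a => ⟨fun ha => (s.mem_A.mp ha.1).resolve_left ha.2,
    fun ha => ⟨s.mem_A.mpr (Or.inr ha), (s.pd.inv a ha.1.1).1⟩⟩

theorem semi {c : G} (hc : c ∈ Qx D M x) {z : Ω} (hz : c • z = z) (hne : z ≠ x) : c = 1 :=
  s.pd.semi (Qx_two M x) s.pureQ (Qx_le_St M x) hc hz hne

theorem smul_inj {c c' : G} (hc : c ∈ Qx D M x) (hc' : c' ∈ Qx D M x) {z : Ω} (hne : z ≠ x)
    (e : c • z = c' • z) : c = c' :=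
  (inv_mul_eq_one.mp (s.semi (mul_mem (inv_mem hc') hc)
    (by rw [mul_smul, e, inv_smul_smul]) hne)).symm

theorem tr {z : Ω} (hz : z ∈ Pt D Ω M) (hne : z ≠ x) : ∃ c ∈ Qx D M x, c • y = z := by
  obtain ⟨g, hg, rfl⟩ := s.pd.Pt_trans s.lr.pt hz
  obtain ⟨c, hc, k, hk, rfl⟩ := s.bd.toA1.canon_left hg fun e => hne e.2
  exact ⟨c, hc, by rw [mul_smul, mul_smul, show k • x = x from hk.2, s.txy]⟩

theorem smul_ne {c : G} (hc : c • x = x) {z : Ω} (hne : z ≠ x) : c • z ≠ x := fun e =>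
  hne (MulAction.injective c (e.trans hc.symm))

theorem card_Pt : (Pt D Ω M).ncard = Nat.card (Qx D M x) + 1 := by
  have h1 := card_of_trans (Y := Qx D M x) (x := y) (S := Pt D Ω M \ {x})
    (fun g hg => ⟨s.pd.Pt_smul' s.pty (Qx_le_M M x hg), s.smul_ne (Qx_le_St M x hg) s.ne.symm⟩)
    fun z hz => s.tr hz.1 hz.2
  rw [show Qx D M x ⊓ St G y = ⊥ from eq_bot_iff.mpr fun g hg => s.semi hg.1 hg.2 s.ne.symm,
    card_bot, mul_one] at h1
  rw [h1, Set.ncard_sdiff_singleton_add_one s.lr.pt]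

theorem mem_K {k : G} : k ∈ Kg (Ez D M x y) t ↔ k ∈ KK D t x ∧ k ∈ M := by
  rw [s.bd.memK]
  refine ⟨fun hk => ⟨s.pd.mem_K s.tD hk.1.2.1 (s.bd.toA1.odd_D hk.1) hk.2, LL_le M hk.1.1⟩,
    fun ⟨h1, h2⟩ => ⟨⟨?_, h1.1, s.pd.K_y s.tD s.txy h1⟩, s.pd.K_inv s.tD h1⟩⟩
  have := mul_mem (mem_LL h1.2 (mul_mem h2 s.tM)) s.tL
  rwa [mul_assoc, s.pd.sq s.tD, mul_one] at this

theorem K_x {k : G} (hk : k ∈ Kg (Ez D M x y) t) : k • x = x := (s.bd.K_le hk).2.1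

theorem K_y {k : G} (hk : k ∈ Kg (Ez D M x y) t) : k • y = y := (s.bd.K_le hk).2.2

theorem K_L : Kg (Ez D M x y) t ≤ LL D M := s.bd.K_le.trans inf_le_left

theorem K_M : Kg (Ez D M x y) t ≤ M := s.K_L.trans (LL_le M)

theorem K_odd : Odd (Nat.card (Kg (Ez D M x y) t)) := odd_of_le s.bd.odd s.bd.K_le

theorem exists_A : ∃ a ∈ Az D M x, a ≠ 1 :=
  let ⟨a, h1, h2, h3⟩ := s.lr.pt
  ⟨a, s.mem_A_of h1 h3 h2, (s.pd.inv a h1).1⟩

theorem conj_t {c : G} (hn : c ∈ Nor (LL D M)) (hx : c • x = x) (hy : c • y = y) :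
    ∃ j ∈ Kg (Ez D M x y) t, j * t * j⁻¹ = c * t * c⁻¹ := by
  have h1 : (c * t * c⁻¹) • x = y := by
    rw [mul_smul, mul_smul, inv_smul_eq_iff.mpr hx.symm, s.txy, hy]
  have hk : c * t * c⁻¹ * t ∈ Kg (Ez D M x y) t := s.mem_K.mpr ⟨s.pd.mem_K_of_swap s.tD s.txy
    (s.pd.conj t s.tD c) h1, LL_le M (mul_mem (conj_mem hn s.tL) s.tL)⟩
  obtain ⟨j, h2, -, e⟩ := s.bd.toA1.exists_sqrt_K (s.bd.memK.mp hk)
  exact ⟨j, s.bd.memK.mpr h2, by
    rw [s.bd.toA1.K_conj_t h2, e, mul_assoc, s.pd.sq s.tD, mul_one]⟩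

theorem nor_K {c : G} (hn : c ∈ Nor (LL D M)) (hx : c • x = x) (hy : c • y = y) :
    c ∈ Nor (Kg (Ez D M x y) t) := by
  obtain ⟨j, hj, e⟩ := s.conj_t hn hx hy
  have h1 : j⁻¹ * c ∈ Nor (Kg (Ez D M x y) t) := mem_nor_closure fun k hk => ⟨conj_mem
    (mem_nor_inf (mul_mem (le_normalizer (inv_mem (s.K_L hj))) hn) (mem_nor_inf
      (t_mem_nor_St (by rw [mul_smul, hx, inv_smul_eq_iff, s.K_x hj]))
      (t_mem_nor_St (by rw [mul_smul, hy, inv_smul_eq_iff, s.K_y hj])))) hk.1, by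
    have e1 : (j⁻¹ * c) * t * (j⁻¹ * c)⁻¹ = t := by
      calc _ = j⁻¹ * (c * t * c⁻¹) * j := by group
        _ = t := by rw [← e]; group
    generalize j⁻¹ * c = g at e1
    calc t * (g * k * g⁻¹) * t = (g * t * g⁻¹) * (g * k * g⁻¹) * (g * t * g⁻¹) := by rw [e1]
      _ = g * (t * k * t) * g⁻¹ := by group
      _ = _ := by rw [hk.2]; group⟩
  simpa using mul_mem (le_normalizer hj) h1

theorem cen_t {c : G} (hn : c ∈ Nor (LL D M)) (hx : c • x = x) (hy : c • y = y)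
    (hc : c ∈ Cen (Az D M x)) : c * t = t * c := by
  obtain ⟨j, hj, e⟩ := s.conj_t hn hx hy
  obtain ⟨a, ha⟩ := s.bd.toA1.exists_dist
  have haA : a ∈ Az D M x := s.bd.mem0.mpr ⟨ha.1, ha.2.2.1⟩
  have h1 := s.bd.dist_cen ha (g := j⁻¹ * c) (mul_mem (inv_mem (s.bd.E_nor (s.bd.K_le hj)))
    (nor_Qx hn hx)) (by
      calc j⁻¹ * c * t = j⁻¹ * (c * t * c⁻¹) * c := by group
        _ = t * (j⁻¹ * c) := by rw [← e]; group)
  rw [mul_assoc, cen_iff.mp hc a haA, ← mul_assoc, ← mul_assoc, mul_left_inj] at h1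
  rw [inv_eq_one.mp (s.bd.K_fpf ha.1 ha.2.1 (inv_mem hj) h1), one_mul, inv_one, mul_one] at e
  exact mul_inv_eq_iff_eq_mul.mp e.symm

theorem cen_K {c k : G} (hn : c ∈ Nor (LL D M)) (hx : c • x = x) (hy : c • y = y)
    (hc : c ∈ Cen (Az D M x)) (hk : k ∈ Kg (Ez D M x y) t) : c * k = k * c := by
  obtain ⟨a, ha, ha1⟩ := s.exists_A
  refine mul_inv_eq_iff_eq_mul.mp (s.bd.K_inj ha ha1 (conj_mem (s.nor_K hn hx hy) hk) hk ?_)
  have e1 := cen_iff.mp hc a ha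
  have e2 := cen_iff.mp hc _ (conj_mem (s.bd.E_nor0 (s.bd.K_le hk)) ha)
  calc c * k * c⁻¹ * a * (c * k * c⁻¹)⁻¹ = c * k * c⁻¹ * (a * c) * k⁻¹ * c⁻¹ := by group
    _ = c * (k * a * k⁻¹) * c⁻¹ := by rw [← e1]; group
    _ = k * a * k⁻¹ := by rw [e2]; group

theorem L_le {Y : Subgroup G} (hQ : Qx D M x ≤ Y) (ht : t ∈ Y) : LL D M ≤ Y :=
  LL_le_iff.mpr fun a h1 h2 => s.bd.toA1.inv_mem_of_gen hQ ht (mem_LL h1 h2) (s.pd.sq h1)

theorem mem_Q {g : G} (hL : g ∈ LL D M) (hx : g • x = x) {R : Subgroup G} (hR : IsPGroup 2 R)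
    (hg : g ∈ R) : g ∈ Qx D M x :=
  s.bd.toA1.two_le_Q (zpowers_le.mpr ⟨hL, hx⟩) (hR.to_le (zpowers_le.mpr hg)) (mem_zpowers g)

theorem Q_mono {N : Subgroup G} (h : N ≤ M) : Qx D N x ≤ Qx D M x := fun _ hg =>
  s.mem_Q (LL_mono h (Qx_le N x hg).1) (Qx_le_St N x hg) (Qx_two N x) hg

theorem A_mono {N : Subgroup G} {y' : Ω} {t' : G} (s' : Sr D N x y' t') (h : Az D M x ≤ N) :
    Az D M x ≤ Az D N x := fun a ha => by
  rcases s.mem_A.mp ha with rfl | e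
  exacts [one_mem _, s'.mem_A_of e.1.1 e.1.2 (h ha)]

theorem A_comm {a b : G} (ha : a ∈ Az D M x) (hb : b ∈ Az D M x) : a * b = b * a :=
  s.bd.cen0 a ha b (Az_le M x hb)

theorem Q_cen : Qx D M x ≤ Cen (Az D M x) := fun b hb =>
  cen_iff.mpr fun a ha => (s.bd.cen0 a ha b hb).symm

theorem fix_of_cen {g : G} (hn : g ∈ Nor (Qx D M x)) (hy : g • y = y) {c : G} (hc : c ∈ Qx D M x)
    (e : g • c • y = c • y) : c * g = g * c := by
  have := s.smul_inj (conj_mem hn hc) hc s.ne.symm (by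
    rw [mul_smul, mul_smul, inv_smul_eq_iff.mpr hy.symm, e])
  exact (mul_inv_eq_iff_eq_mul.mp this).symm

theorem cases : Nat.card (Qx D M x) = Nat.card (Az D M x) ∨
    Nat.card (Qx D M x) = Nat.card (Az D M x) ^ 2 ∨
      Nat.card (Qx D M x) = Nat.card (Az D M x) ^ 3 := by
  obtain ⟨a, ha⟩ := s.bd.toA1.exists_dist
  rcases s.bd.tri ha with h | h | h
  exacts [Or.inl (by rw [Az, h.1]), Or.inr (Or.inl h.1), Or.inr (Or.inr h.1)]

theorem pow_lt {i j : ℕ} (h : i < j) : Nat.card (Az D M x) ^ i < Nat.card (Az D M x) ^ j :=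
  Nat.pow_lt_pow_right (lt_of_lt_of_le (by norm_num) s.bd.four_le) h

theorem pow_ne {i j : ℕ} (h : i ≠ j) : Nat.card (Az D M x) ^ i ≠ Nat.card (Az D M x) ^ j :=
  fun e => h (Nat.pow_right_injective (le_trans (by norm_num) s.bd.four_le) e)

/-- with the same `A` and `t` the cases (b) and (a), (c) do not mix -/
theorem sq_iff {N : Subgroup G} (s' : Sr D N x y t) (e : Az D N x = Az D M x)
    (h : Nat.card (Qx D M x) = Nat.card (Az D M x) ^ 2) :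
    Nat.card (Qx D N x) = Nat.card (Az D M x) ^ 2 := by
  obtain ⟨a, ha⟩ := s'.bd.toA1.exists_dist
  have haA : a ∈ Az D M x := e ▸ s'.bd.mem0.mpr ⟨ha.1, ha.2.2.1⟩
  have key : orderOf (a * t) ≠ 3 := fun h3 => by
    have e1 : t * a * t = a⁻¹ * t * a := by
      have e2 := pow_orderOf_eq_one (a * t)
      rw [h3] at e2
      rw [inv_eq_self_of_sq ha.2.2.1]
      calc t * a * t = (a * a) * t * a * t * ((a * a) * (t * t)) := by
            rw [ha.2.2.1, s.pd.sq s.tD]; group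
        _ = a * (a * t) ^ 3 * (t⁻¹ * a * (t * t)) := by simp only [pow_succ]; group
        _ = a * t * a := by rw [e2, s.pd.sq s.tD, s.pd.inv_eq s.tD]; group
    rcases s.bd.tri ⟨Az_le M x haA, ha.2.1, ha.2.2.1, a, Az_le M x haA, e1⟩ with h1 | h1 | h1
    · refine s.pow_ne (show 1 ≠ 2 by decide) ?_
      rw [← h, pow_one, Az, h1.1]
    · rw [h1.2.2.1] at h3; exact absurd h3 (by decide)
    · exact s.pow_ne (show 3 ≠ 2 by decide) (h1.1.symm.trans h)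
  rcases s'.bd.tri ha with h1 | h1 | h1
  exacts [(key h1.2).elim, e ▸ h1.1, (key h1.2.2.1).elim]

end Sr

/-- the minimal counterexample with (**) and all `D`-ranks at least two -/
structure Sc (D : Set G) (Ω : Type*) [MulAction G Ω] : Prop extends Mc D Ω where
  star : Star D Ω
  rkW : ∀ v, Wv Ω v → RkD D (Cen1 v)

namespace Sc
variable (h : Sc D Ω)
include h

theorem sr {M : Subgroup G} (hM : M ≠ ⊤) {x y : Ω} (l : Lr D M x) {t : G} (ht : t ∈ D)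
    (htM : t ∈ M) (hxy : t • x = y) (hne : x ≠ y) : Sr D M x y t :=
  h.sr_of (h.ih M x hM l) l (h.core_cen h.star l) ht htM hxy hne

theorem sr_sub {M N : Subgroup G} (hN : N ≠ ⊤) {x y : Ω} {t : G} (s : Sr D M x y t)
    (hA : Az D M x ≤ N) (ht : t ∈ N) : Sr D N x y t := by
  obtain ⟨a, ha, b, hb, e⟩ := h.rk_at s.lr.rk s.lr.pt
  have h1 := hA (s.mem_A.mpr (Or.inr ha))
  exact h.sr hN ⟨⟨a, ha.1.1, b, hb.1.1, h1, hA (s.mem_A.mpr (Or.inr hb)), e⟩,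
    ⟨a, ha.1.1, h1, ha.1.2⟩, fun e => s.ne ((e ht).symm.trans s.txy)⟩ s.tD ht s.txy s.ne

theorem exists_sr {M : Subgroup G} (hM : M ≠ ⊤) {x y : Ω} (l : Lr D M x) (hy : y ∈ Pt D Ω M)
    (hne : x ≠ y) : ∃ t, Sr D M x y t :=
  let ⟨t, h1, h2, h3⟩ := h.Pt_swap l.pt hy hne
  ⟨t, h.sr hM l h2 h1 h3 hne⟩

theorem sr_W {w : G} (hw : Wv Ω w) {x y : Ω} (hx : w • x = x) (hy : w • y = y) (hne : x ≠ y) :
    ∃ t, Sr D (Cen1 w) x y t :=
  h.exists_sr (h.cen1_ne_top hw.1.1) (h.lr_W hw (h.rkW w hw) hx) ((h.pt_cen1 hw.1.2).mpr hy) hne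

theorem sr_W' {w : G} (hw : Wv Ω w) {x : Ω} (hx : w • x = x) :
    ∃ (y : Ω) (t : G), w • y = y ∧ Sr D (Cen1 w) x y t :=
  let ⟨y, h1, h2⟩ := hw.ex x
  let ⟨t, s⟩ := h.sr_W hw hx h2 h1.symm
  ⟨y, t, h2, s⟩

theorem W_of_not {r : G} (hr : Inv r) (hD : r ∉ D) : Wv Ω r := by
  obtain ⟨y, hy⟩ := h.exists_move hr.1
  obtain ⟨u, hu, h1, h2⟩ := h.exists_T hr.2 hy
  have := h.W_mul (h.W_of_T hr hD hu hy h1 h2) hu (Mc.cen_mul (c1_iff.mpr h2.symm) rfl)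
  rwa [mul_assoc, h.sq hu, mul_one] at this

/-- `L = ⟨A, t⟩` in the cases (a), (b) -/
theorem L_le {M Y : Subgroup G} (hM : M ≠ ⊤) {x y : Ω} {t : G} (s : Sr D M x y t)
    (he : Nat.card (Qx D M x) ≠ Nat.card (Az D M x) ^ 3) (hA : Az D M x ≤ Y) (ht : t ∈ Y) :
    LL D M ≤ Y := by
  refine s.L_le ?_ ht
  rcases s.cases with e | e | e
  · exact (eq_of_le_card (Az_le M x) e.le).ge.trans hA
  · have s' := h.sr_sub (N := M ⊓ Y) (fun e => hM (top_le_iff.mp (e ▸ inf_le_left))) s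
      (le_inf ((Az_le M x).trans (Qx_le_M M x)) hA) ⟨s.tM, ht⟩
    have e1 : Az D (M ⊓ Y) x = Az D M x := le_antisymm
      (s'.A_mono s ((Az_le _ x).trans ((Qx_le_M _ x).trans inf_le_left)))
      (s.A_mono s' (le_inf ((Az_le M x).trans (Qx_le_M M x)) hA))
    rw [← eq_of_le_card (s.Q_mono inf_le_left) (e.trans (s.sq_iff s' e1 e).symm).le]
    exact (Qx_le_M _ x).trans inf_le_right
  · exact (he e).elim

omit h in
theorem Pt_W (h : Mc D Ω) {w : G} (hw : w * w = 1) : Pt D Ω (Cen1 w) = Fx Ω w :=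
  Set.ext fun _ => h.pt_cen1 hw

theorem conj_vu' {v u : G} (hv : Wv Ω v) (hu : u ∈ D) (huv : u ∈ Cen1 v) {x : Ω} (hx : u • x = x) :
    ∃ g : G, g • x = x ∧ g * v * g⁻¹ = v * u := by
  obtain ⟨g, e⟩ := h.conj_v hv (h.rkW v hv) hu huv
  have hvx : v • x = x := h.cen_fix hu hx (c1_iff.mp huv).symm
  have e1 : v • g • x = g • x := by
    rw [← e]; exact conj_smul (by rw [mul_smul, hx, hvx])
  obtain ⟨c, hc, e2⟩ := h.Pt_trans ((h.pt_cen1 hv.1.2).mpr hvx) ((h.pt_cen1 hv.1.2).mpr e1)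
  refine ⟨g⁻¹ * c, by rw [mul_smul, e2, inv_smul_smul], ?_⟩
  calc g⁻¹ * c * v * (g⁻¹ * c)⁻¹ = g⁻¹ * (c * v * c⁻¹) * g := by group
    _ = v * u := by rw [c1_iff'.mp (LL_le _ hc)]; nth_rewrite 1 [← e]; group

theorem ncard_Dx_W {v u : G} (hv : Wv Ω v) (hu : u ∈ D) (huv : u ∈ Cen1 v) {x y : Ω}
    (hx : v • x = x) (hy : (v * u) • y = y) :
    (Dx D (Cen1 (v * u)) y).ncard = (Dx D (Cen1 v) x).ncard := by
  obtain ⟨g, e⟩ := h.conj_v hv (h.rkW v hv) hu huv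
  have := h.ncard_Dx_conj g (Cen1 (v * u)) y
  rw [conjS_cen1, e] at this
  rw [← this]
  refine h.ncard_Dx ((h.pt_cen1 hv.1.2).mpr ?_) ((h.pt_cen1 hv.1.2).mpr hx)
  rw [← e]; exact conj_smul hy

theorem ncard_J {w : G} (hw : Wv Ω w) {x δ : Ω} (hx : w • x = x) (hδ : w • δ ≠ δ) :
    (Dx D ⊤ x).ncard = (Dx D (Cen1 w) x).ncard * (Tx D (Cen1 w) δ (w • δ)).ncard := by
  obtain ⟨u, hu, h1, h2⟩ := h.exists_T hw.1.2 hδ
  have huw : u ∈ Cen1 w := c1_iff.mpr h2.symm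
  have hv := h.W_mul hw hu huw
  have hvδ : (w * u) • δ = δ := by rw [mul_smul, h1, hw.1.smul_smul]
  set X := Od (⊤ ⊓ (St G δ ⊓ St G (w • δ))) with hX
  have nX : ∀ g : G, g ∈ Nor (St G δ ⊓ St G (w • δ)) → g ∈ Nor X := fun g hg =>
    nor_le_nor_piCoreOf _ _ (mem_nor_inf (le_normalizer (mem_top g)) hg)
  have n1 := nX u (mem_nor_two h1 (h.swap hu h1))
  have n2 := nX w (mem_nor_two rfl (hw.1.smul_smul δ))
  have key : ∀ Y : Subgroup G, u ∈ Y → Nat.card ↥(X ⊓ Y) =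
      {k | k ∈ KK D u δ ∧ k ∈ Y}.ncard * Nat.card ↥(X ⊓ Y ⊓ Cen1 u) := fun Y hY => by
    rw [card_inverted (odd_of_le (odd_Od _) inf_le_left) (h.sq hu)
      (mem_nor_inf n1 (le_normalizer hY))]
    congr 2
    exact Set.ext fun k => ⟨fun hk => ⟨h.mem_K hu (piCoreOf_le _ _ hk.1.1).2.1
      (odd_orderOf_of_mem (odd_Od _) hk.1.1) hk.2, hk.1.2⟩, fun hk =>
        ⟨⟨h.K_mem_Od (mem_top u) hu h1 hδ.symm hk.1 (mem_top k), hk.2⟩, h.K_inv hu hk.1⟩⟩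
  have b := brauer_wielandt (odd_Od _) hw.1 (h.inv u hu) (fun e => h.not_mem_W hw (e ▸ hu)) h2 n2 n1
  have e1 := key ⊤ (mem_top u)
  have e2 := key (Cen1 w) huw
  have e3 := key (Cen1 (w * u)) (Mc.cen_mul huw rfl)
  rw [h.ncard_K' hu h1 (mem_top u) hδ.symm (h.all δ), inf_top_eq] at e1
  rw [h.ncard_K hu h1 huw] at e2
  rw [h.ncard_K' hu h1 (Mc.cen_mul huw rfl) hδ.symm ((h.pt_cen1 hv.1.2).mpr hvδ),
    show X ⊓ Cen1 (w * u) ⊓ Cen1 u = X ⊓ Cen1 w ⊓ Cen1 u from le_antisymm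
      (fun g hg => ⟨⟨hg.1.1, by
        have := Mc.cen_mul hg.1.2 (c1_iff.mp hg.2).symm
        rwa [mul_assoc, h.sq hu, mul_one] at this⟩, hg.2⟩)
      fun g hg => ⟨⟨hg.1.1, Mc.cen_mul hg.1.2 (c1_iff.mp hg.2).symm⟩, hg.2⟩] at e3
  have e4 := h.ncard_Dx_W hw hu huw hx hvδ
  rw [h.ncard_Dx (h.all x) (h.all δ), ← e4]
  change _ = _ * _ * Nat.card ↥(X ⊓ Cen1 (w * u)) at b
  rw [← hX, e1, e2, e3] at b
  have p1 : 0 < Nat.card ↥(X ⊓ Cen1 u) := Nat.card_pos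
  have p2 : 0 < Nat.card ↥(X ⊓ Cen1 w ⊓ Cen1 u) := Nat.card_pos
  refine Nat.eq_of_mul_eq_mul_right (Nat.mul_pos p1 (Nat.pow_pos (n := 2) p2)) ?_
  rw [← mul_assoc]
  refine b.trans ?_
  unfold Dx Tx
  ring

/-- the basic count -/
theorem count {w : G} (hw : Wv Ω w) {x y : Ω} {t : G} (s : Sr D (Cen1 w) x y t) :
    ∃ m j r : ℕ, Nat.card (Az D (Cen1 w) x) = m + 1 ∧ (Dx D ⊤ x).ncard = m * j ∧
      j ≤ Nat.card (Qx D (Cen1 w) x) + 1 ∧ r * j = (Nat.card (Qx D (Cen1 w) x) + 1) * m ∧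
      Nat.card Ω = Nat.card (Qx D (Cen1 w) x) * (1 + r) + 1 ∧
      ∀ δ : Ω, w • δ ≠ δ → (Tx D (Cen1 w) δ (w • δ)).ncard = j := by
  have hx : w • x = x := (h.pt_cen1 hw.1.2).mp s.lr.pt
  obtain ⟨δ, hδ⟩ := h.exists_move hw.1.1
  set m := (Dx D (Cen1 w) x).ncard with hm
  set N := Nat.card (Qx D (Cen1 w) x) with hN
  set j := (Tx D (Cen1 w) δ (w • δ)).ncard with hj
  have hP : (Fx Ω w).ncard = N + 1 := by rw [← Pt_W h.toMc hw.1.2, s.card_Pt]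
  have m0 : 0 < m := by have := s.bd.four_le.trans s.card_A.le; omega
  have : Nonempty Ω := ⟨x⟩
  have hJ : ∀ δ : Ω, w • δ ≠ δ → (Tx D (Cen1 w) δ (w • δ)).ncard = j := fun δ' h' =>
    Nat.eq_of_mul_eq_mul_left m0 ((h.ncard_J hw hx h').symm.trans (h.ncard_J hw hx hδ))
  choose! fx hfx using fun a (ha : a ∈ D) => h.ex ha
  have c1 : {u | u ∈ D ∧ u ∈ Cen1 w}.ncard = (N + 1) * m := by
    rw [← hP]
    refine ncard_fib fx (fun u hu => h.cen_fix hu.1 (hfx u hu.1) (c1_iff.mp hu.2).symm) fun z hz => ?_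
    rw [hm, h.ncard_Dx s.lr.pt ((h.pt_cen1 hw.1.2).mpr hz)]
    congr 1
    exact Set.ext fun u => ⟨fun hu => ⟨⟨hu.1.1, hu.2 ▸ hfx u hu.1.1⟩, hu.1.2⟩,
      fun hu => ⟨⟨hu.1.1, hu.2⟩, h.uniq hu.1.1 (hfx u hu.1.1) hu.1.2⟩⟩
  have c2 := ncard_double (S := {u | u ∈ D ∧ u ∈ Cen1 w}) (T := (Fx Ω w)ᶜ)
    (fun u z => u • z = w • z) (a := N) (b := j) (fun u hu => by
      obtain ⟨g, e⟩ := h.conj_v hw (h.rkW w hw) hu.1 hu.2
      have e1 := ncard_Fx_conj (Ω := Ω) (w * u) g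
      have e2 : w • fx u = fx u := h.cen_fix hu.1 (hfx u hu.1) (c1_iff.mp hu.2).symm
      rw [e, hP, ← Set.ncard_sdiff_singleton_add_one (show fx u ∈ Fx Ω (w * u) by
        rw [mem_Fx, mul_smul, hfx u hu.1, e2])] at e1
      rw [Nat.add_right_cancel e1]
      congr 1
      refine Set.ext fun z => ⟨fun hz => ⟨?_, fun e => hz.1 (e ▸ e2)⟩, fun hz => ?_⟩
      · rw [mem_Fx, mul_smul, hz.2, hw.1.smul_smul]
      · have e3 : u • z = w • z := by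
          have := congrArg (w • ·) (mem_Fx.mp hz.1)
          simpa only [mul_smul, hw.1.smul_smul] using this
        exact ⟨fun e => hz.2 (h.uniq hu.1 (e3.trans e) (hfx u hu.1)), e3⟩) fun z hz => by
      rw [← hJ z hz]
      congr 1
      exact Set.ext fun u => ⟨fun hu => ⟨⟨hu.1.1, hu.2⟩, hu.1.2⟩, fun hu => ⟨⟨hu.1.1, hu.2⟩, hu.1.2⟩⟩
  have c3 := Set.ncard_add_ncard_compl (Fx Ω w)
  have c4 := h.ncard_J hw hx hδ
  have hjo : Odd j := (Nat.odd_mul.mp (c4 ▸ h.odd_m x)).2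
  obtain ⟨k, hk⟩ := IsPGroup.iff_card.mp (Qx_two (D := D) (Cen1 w) x)
  have N0 : 0 < N := Nat.card_pos
  obtain ⟨r, hr⟩ : N ∣ (Fx Ω w)ᶜ.ncard := (show N.Coprime j by
    rw [hN, hk]; exact Nat.Coprime.pow_left k (Nat.coprime_two_left.mpr hjo)).dvd_of_dvd_mul_right
      (c2 ▸ Dvd.intro_left _ rfl)
  refine ⟨m, j, r, s.card_A, c4, ?_, ?_, by rw [← c3, hP, hr]; ring, hJ⟩
  · rw [← hP]
    refine Set.ncard_le_ncard_of_injOn fx
      (fun u hu => h.cen_fix hu.1.1 (hfx u hu.1.1) (c1_iff.mp hu.2).symm) fun u hu u' hu' e => ?_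
    have hz : w • fx u = fx u := h.cen_fix hu.1.1 (hfx u hu.1.1) (c1_iff.mp hu.2).symm
    obtain ⟨y', t', -, s'⟩ := h.sr_W' hw hz
    exact h.Tx_eq hδ.symm hu.1.1 hu'.1.1 hu.1.2 hu'.1.2 (s'.A_comm (s'.mem_A_of hu.1.1
      (hfx u hu.1.1) hu.2) (s'.mem_A_of hu'.1.1 (e ▸ hfx u' hu'.1.1) hu'.2))
  · rw [c1, hr] at c2
    exact Nat.eq_of_mul_eq_mul_left N0 (by linarith)

end Sc

end SF
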