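import Cfsg.Agent.SF.G

/-! The centralizer of an involution fixing two points does not involve `PSU(3, q)`. -/

set_option autoImplicit false
set_option linter.unusedSectionVars false

namespace SF

open Cfsg Subgroup FT H4 BS
open scoped commutatorElement

universe u

section Num

theorem num_mono {M n m m' N N' : ℕ} (h0 : 0 < m) (h1 : 0 < N) (h2 : m ≤ m') (h3 : N ≤ N')
    (e : M * n = M * (N + 1) + N * (N + 1) * m ^ 2)
    (e' : M * n = M * (N' + 1) + N' * (N' + 1) * m' ^ 2) : m = m' ∧ N = N' := by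
  have a1 : M * (N + 1) ≤ M * (N' + 1) := by gcongr
  have a2 : N * (N + 1) * m ^ 2 ≤ N' * (N' + 1) * m ^ 2 := by gcongr
  have a3 : N' * (N' + 1) * m ^ 2 ≤ N' * (N' + 1) * m' ^ 2 := by gcongr
  have b1 : N' * (N' + 1) * m ^ 2 = N' * (N' + 1) * m' ^ 2 := by omega
  have b2 : N * (N + 1) * m ^ 2 = N' * (N' + 1) * m ^ 2 := by omega
  have c1 := Nat.eq_of_mul_eq_mul_left (by positivity [lt_of_lt_of_le h1 h3]) b1
  have c2 := Nat.eq_of_mul_eq_mul_right (by positivity) b2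
  exact ⟨Nat.pow_left_injective two_ne_zero c1, by nlinarith⟩

theorem num_big {M n m m' N' : ℕ} (h0 : 3 ≤ m) (h2 : (m + 1) ^ 2 ≤ m' + 1) (h3 : m' + 1 ≤ N')
    (h4 : M ≤ m * ((m + 1) ^ 3 + 1))
    (e : M * n = M * ((m + 1) ^ 3 + 1) + (m + 1) ^ 3 * ((m + 1) ^ 3 + 1) * m ^ 2)
    (e' : M * n = M * (N' + 1) + N' * (N' + 1) * m' ^ 2) : False := by
  have a1 : m * (m + 2) ≤ m' := by nlinarith
  have a2 : (m + 1) ^ 2 ≤ N' := h2.trans h3
  have a3 : (m + 1) ^ 2 * ((m + 1) ^ 2 + 1) * (m * (m + 2)) ^ 2 ≤ N' * (N' + 1) * m' ^ 2 := by gcongr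
  have a4 : M * ((m + 1) ^ 2 + 1) ≤ M * (N' + 1) := by gcongr
  have a5 : M * ((m + 1) ^ 3 + 1) = M * ((m + 1) ^ 2 + 1) + M * (m * (m + 1) ^ 2) := by ring
  have a6 : M * (m * (m + 1) ^ 2) ≤ m * ((m + 1) ^ 3 + 1) * (m * (m + 1) ^ 2) := by gcongr
  have a7 : (m + 1) ^ 2 * ((m + 1) ^ 2 + 1) * (m * (m + 2)) ^ 2 =
      m * ((m + 1) ^ 3 + 1) * (m * (m + 1) ^ 2) + (m + 1) ^ 3 * ((m + 1) ^ 3 + 1) * m ^ 2 +
        m ^ 2 * (m + 1) ^ 3 * ((m + 1) ^ 2 + 2 * (m + 1) + 1) := by ring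
  have a8 : 0 < m ^ 2 * (m + 1) ^ 3 * ((m + 1) ^ 2 + 2 * (m + 1) + 1) := by positivity
  omega

theorem num_five {m j r : ℕ} (h0 : 3 ≤ m) (e : r * j = ((m + 1) ^ 3 + 1) * m)
    (hd : (m + 1) ^ 5 ∣ (m + 1) ^ 3 * (1 + r)) : 1 + r ≤ (m + 1) ^ 2 ∧ j ≤ m ^ 2 + m + 1 := by
  obtain ⟨b, hb⟩ : (m + 1) ^ 2 ∣ 1 + r :=
    Nat.dvd_of_mul_dvd_mul_left (show 0 < (m + 1) ^ 3 by positivity) (by rwa [← pow_add])
  have b0 : 1 ≤ b := Nat.pos_of_ne_zero (by rintro rfl; omega)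
  have d : (m + 1) ^ 2 ∣ j + m := by
    have : (m + 1) ^ 2 * (b * j) = (m + 1) ^ 2 * ((m + 1) * m) + (j + m) := by
      rw [← mul_assoc, ← hb, add_mul, e]; ring
    exact (Nat.dvd_add_right (Dvd.intro _ rfl)).mp (this ▸ Dvd.intro _ rfl)
  have d1 := Nat.le_of_dvd (by omega) d
  have r1 : (m + 1) ^ 2 ≤ 1 + r := by rw [hb]; exact Nat.le_mul_of_pos_right _ b0
  have e1 : ((m + 1) ^ 3 + 1) * m = (m * (m + 2)) * (m ^ 2 + m + 1) := by ring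
  constructor
  · have : r * (m ^ 2 + m + 1) ≤ (m * (m + 2)) * (m ^ 2 + m + 1) := by
      rw [← e1, ← e]; exact Nat.mul_le_mul_left r (by nlinarith)
    have := Nat.le_of_mul_le_mul_right this (by positivity)
    nlinarith
  · have : (m * (m + 2)) * j ≤ (m * (m + 2)) * (m ^ 2 + m + 1) := by
      rw [← e1, ← e]; exact Nat.mul_le_mul_right j (by nlinarith)
    exact Nat.le_of_mul_le_mul_left this (by positivity)

theorem num_sq {m m' q U ρ T : ℕ} (c5 : m + 1 = q) (q4 : 4 ≤ q) (c6 : m' + 1 = q ^ 2)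
    (hU : U * q = q ^ 3 * q ^ 2) (c3 : U ≤ m * ρ + q ^ 2) (c4 : m' * ρ ≤ T) : q ^ 5 < T := by
  subst c5
  have d1 : U = (m + 1) ^ 4 := Nat.eq_of_mul_eq_mul_right (show 0 < m + 1 by omega) (by
    rw [hU]; ring)
  have d2 : m' = m * (m + 2) := by nlinarith
  have d3 : m * ((m + 1) ^ 2 * (m + 2)) ≤ m * ρ := by rw [d1] at c3; nlinarith
  have d4 := Nat.le_of_mul_le_mul_left d3 (by omega)
  have d5 : m * (m + 2) * ((m + 1) ^ 2 * (m + 2)) ≤ m' * ρ := by rw [d2]; gcongr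
  have d6 : (m + 1) ^ 3 < m * (m + 2) * (m + 2) := by nlinarith
  calc (m + 1) ^ 5 = (m + 1) ^ 2 * (m + 1) ^ 3 := by ring
    _ < (m + 1) ^ 2 * (m * (m + 2) * (m + 2)) := by gcongr
    _ = m * (m + 2) * ((m + 1) ^ 2 * (m + 2)) := by ring
    _ ≤ T := d5.trans c4

end Num

section Gen
variable {G : Type u} [Group G] [Finite G]

theorem exists_cen_mod {A Q B : Subgroup G} (hA : A ≤ Q) (hne : A ≠ Q) (hQ : IsPGroup 2 Q)
    (hB : IsPGroup 2 B) (h1 : B ≤ Nor Q) (h2 : Q ≤ Nor A) (h3 : B ≤ Nor A) :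
    ∃ z ∈ Q, z ∉ A ∧ ∀ b ∈ B, z⁻¹ * (b * z * b⁻¹) ∈ A := by
  obtain ⟨X, _, _, f, hf, hk⟩ := H5.exists_hom_ker_eq (le_refl (Nor A))
  obtain ⟨k, e⟩ := IsPGroup.iff_card.mp (H5.isPGroup_im (f := f) hQ)
  have h4 := ncard_ne_one (H5.im f Q)
  obtain ⟨_, ⟨⟨z, hz, rfl⟩, z1⟩, z2⟩ := exists_cen_pgroup (H5.isPGroup_im (f := f) hB)
    (S := {a | a ∈ H5.im f Q ∧ a ≠ 1}) (fun g hg z hz =>
      ⟨conj_mem (H5.im_le_normalizer h1 hg) hz.1, conj_ne_one hz.2⟩) fun hd => by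
        rcases k with _ | k
        · exact hne (le_antisymm hA ((H5.im_eq_bot_iff hk h2).mp (card_eq_one.mp e)))
        · rw [e, pow_succ] at h4; omega
  refine ⟨z, hz, fun e => z1 ((H5.map_eq_one_iff_of_ker hk).mpr e), fun b hb => ?_⟩
  refine (H5.map_eq_one_iff_of_ker hk (x := z⁻¹ * (⟨b, h3 hb⟩ * z * ⟨b, h3 hb⟩⁻¹))).mp ?_
  rw [map_mul, map_mul, map_mul, z2 _ (H5.mem_im_of_mem _ hb), map_inv, map_inv]; group

theorem exists_ppow {Y : Subgroup G} {g : G} (hg : g ∉ Y) :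
    ∃ w ∈ zpowers g, w ∉ Y ∧ ∃ p k : ℕ, p.Prime ∧ p ∣ orderOf g ∧ w ^ p ^ k = 1 := by
  by_contra hc
  push Not at hc
  refine hg (H5.le_of_forall_sylow (K := zpowers g) (fun r hr hd => ?_) (mem_zpowers g))
  obtain ⟨P, hP⟩ := H5.exists_isSylowOf r (zpowers g)
  refine ⟨P, hP, fun w hw => by_contra fun e => ?_⟩
  obtain ⟨k, hk⟩ := exists_pow_pow_of_mem hP.isPGroup hw
  exact hc w (hP.le hw) e r k hr.out (by rwa [Nat.card_zpowers] at hd) hk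

theorem pow_dvd_of_lt {P : Subgroup G} (hP : IsPGroup 2 P) {q : ℕ} (hq : ∃ k, q = 2 ^ k)
    (h : q ≤ Nat.card P) : q ∣ Nat.card P := by
  obtain ⟨k, rfl⟩ := hq
  obtain ⟨j, hj⟩ := IsPGroup.iff_card.mp hP
  rw [hj] at h ⊢
  exact pow_dvd_pow 2 ((Nat.pow_le_pow_iff_right (by norm_num)).mp h)

theorem nor_cen1 {g w : G} (h : g * w = w * g) : g ∈ Nor (Cen1 w) :=
  le_normalizer (c1_iff.mpr h)

theorem nor_zp {g w : G} (h : g * w = w * g) : g ∈ Nor (zpowers w) :=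
  centralizer_le_normalizer _ ((BS.cen_zpowers w).ge (c1_iff.mpr h))

end Gen

variable {G : Type u} [Group G] [Finite G] {Ω : Type*} [MulAction G Ω] [Finite Ω] {D : Set G}

theorem Sr.A_pow {M : Subgroup G} {x : Ω} (i : ℕ) :
    ∃ k, Nat.card (Az D M x) ^ i = 2 ^ k :=
  let ⟨k, hk⟩ := IsPGroup.iff_card.mp ((Qx_two (D := D) M x).to_le (Az_le M x))
  ⟨k * i, by rw [hk, pow_mul]⟩

theorem Sr.A_le_M (M : Subgroup G) (x : Ω) : Az D M x ≤ M := (Az_le M x).trans (Qx_le_M M x)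

theorem Sr.A_le_St (M : Subgroup G) (x : Ω) : Az D M x ≤ St G x := (Az_le M x).trans (Qx_le_St M x)

namespace Sc
variable (h : Sc D Ω) {w v : G} {x y y' : Ω} {t t' : G}
include h

theorem fix_of_sr (hw : Wv Ω w) (s : Sr D (Cen1 w) x y t) : w • x = x ∧ w • y = y :=
  ⟨(h.pt_cen1 hw.1.2).mp s.lr.pt, (h.pt_cen1 hw.1.2).mp s.pty⟩

theorem cnt (hw : Wv Ω w) (s : Sr D (Cen1 w) x y t) : ∃ m, Nat.card (Az D (Cen1 w) x) = m + 1 ∧
    (Dx D ⊤ x).ncard ≤ m * (Nat.card (Qx D (Cen1 w) x) + 1) ∧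
    (Dx D ⊤ x).ncard * Nat.card Ω = (Dx D ⊤ x).ncard * (Nat.card (Qx D (Cen1 w) x) + 1) +
      Nat.card (Qx D (Cen1 w) x) * (Nat.card (Qx D (Cen1 w) x) + 1) * m ^ 2 := by
  obtain ⟨m, j, r, h1, h2, h3, h4, h5, -⟩ := h.count hw s
  refine ⟨m, h1, h2 ▸ Nat.mul_le_mul_left m h3, ?_⟩
  rw [h5, h2]
  generalize Nat.card (Qx D (Cen1 w) x) = N at *
  calc m * j * (N * (1 + r) + 1) = m * j * (N + 1) + m * N * (r * j) := by ring
    _ = _ := by rw [h4]; ring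

theorem eq_of_le (hw : Wv Ω w) (s : Sr D (Cen1 w) x y t) (hv : Wv Ω v) (s' : Sr D (Cen1 v) x y' t')
    (h1 : Nat.card (Az D (Cen1 w) x) ≤ Nat.card (Az D (Cen1 v) x))
    (h2 : Nat.card (Qx D (Cen1 w) x) ≤ Nat.card (Qx D (Cen1 v) x)) :
    Nat.card (Az D (Cen1 w) x) = Nat.card (Az D (Cen1 v) x) ∧
      Nat.card (Qx D (Cen1 w) x) = Nat.card (Qx D (Cen1 v) x) := by
  obtain ⟨m, a1, -, a3⟩ := h.cnt hw s
  obtain ⟨m', b1, -, b3⟩ := h.cnt hv s'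
  have := s.bd.four_le.trans a1.le
  obtain ⟨e1, e2⟩ := num_mono (by omega) Nat.card_pos (by omega) h2 a3 b3
  exact ⟨by omega, e2⟩

theorem Q_eq_of_A (hw : Wv Ω w) (s : Sr D (Cen1 w) x y t) (hv : Wv Ω v)
    (s' : Sr D (Cen1 v) x y' t') (h1 : Nat.card (Az D (Cen1 w) x) = Nat.card (Az D (Cen1 v) x)) :
    Nat.card (Qx D (Cen1 w) x) = Nat.card (Qx D (Cen1 v) x) :=
  (le_total _ _).elim (fun e => (h.eq_of_le hw s hv s' h1.le e).2)
    fun e => (h.eq_of_le hv s' hw s h1.ge e).2.symm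

theorem A_mul (hw : Wv Ω w) (s : Sr D (Cen1 w) x y t) {a : G} (ha : a ∈ Az D (Cen1 w) x)
    (s' : Sr D (Cen1 (w * a)) x y' t') : Az D (Cen1 (w * a)) x = Az D (Cen1 w) x := by
  by_cases h1 : a = 1
  · rw [h1, mul_one]
  refine (eq_of_le_card (s.A_mono s' fun b hb => Mc.cen_mul (Sr.A_le_M _ x hb) (s.A_comm ha hb)) ?_).symm
  have hx := (h.fix_of_sr hw s).1
  rw [s.card_A, s'.card_A, h.ncard_Dx_W hw (s.A_D ha h1) (Sr.A_le_M _ x ha) hx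
    (by rw [mul_smul, Sr.A_le_St _ x ha, hx])]

theorem W_mul' (hw : Wv Ω w) (s : Sr D (Cen1 w) x y t) {a : G} (ha : a ∈ Az D (Cen1 w) x) :
    Wv Ω (w * a) ∧ (w * a) • x = x := by
  refine ⟨?_, by rw [mul_smul, Sr.A_le_St _ x ha, (h.fix_of_sr hw s).1]⟩
  by_cases h1 : a = 1
  · rwa [h1, mul_one]
  exact h.W_mul hw (s.A_D ha h1) (Sr.A_le_M _ x ha)

/-- an involution centralizing `L_v` has the same fixed points as `v` -/
theorem same (hv : Wv Ω v) (s : Sr D (Cen1 v) x y t) {r : G} (hr : Inv r)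
    (hL : LL D (Cen1 v) ≤ Cen1 r) : Wv Ω r ∧ Sr D (Cen1 r) x y t ∧
      Az D (Cen1 r) x = Az D (Cen1 v) x ∧ Qx D (Cen1 r) x = Qx D (Cen1 v) x ∧
        LL D (Cen1 r) = LL D (Cen1 v) := by
  have hQ : Qx D (Cen1 v) x ≤ Cen1 r := (Qx_le _ x).trans (inf_le_left.trans hL)
  have s' := h.sr_sub (h.cen1_ne_top hr.1) s ((Az_le _ x).trans hQ) (hL s.tL)
  have hW : Wv Ω r := ⟨hr, x, y, s.ne, (h.pt_cen1 hr.2).mp s'.lr.pt, (h.pt_cen1 hr.2).mp s'.pty⟩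
  have h1 : LL D (Cen1 v) ≤ LL D (Cen1 r) := (LL_LL _).ge.trans (LL_mono hL)
  have h2 : Qx D (Cen1 v) x ≤ Qx D (Cen1 r) x := fun g hg =>
    s'.mem_Q (h1 (Qx_le _ x hg).1) (Qx_le_St _ x hg) (Qx_two _ x) hg
  have h3 := s.A_mono s' ((Az_le _ x).trans hQ)
  obtain ⟨e1, e2⟩ := h.eq_of_le hv s hW s' (card_le_of_le h3) (card_le_of_le h2)
  have e3 := (eq_of_le_card h2 e2.ge).symm
  exact ⟨hW, s', (eq_of_le_card h3 e1.ge).symm, e3,
    le_antisymm (s'.L_le (e3.le.trans ((Qx_le _ x).trans inf_le_left)) s.tL) h1⟩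

/-- a four-group centralizing `L_v` forces `D_x ⊆ C(v)` -/
theorem four_lemma (hv : Wv Ω v) (s : Sr D (Cen1 v) x y t) {p : G} (hp : Inv p) (hne : v ≠ p)
    (hc : v * p = p * v) (hL : LL D (Cen1 v) ≤ Cen1 p) {a : G} (ha : a ∈ D) (hax : a • x = x) :
    a ∈ Az D (Cen1 v) x := by
  obtain ⟨m, j, r, h1, h2, -, -, -, h6⟩ := h.count hv s
  obtain ⟨δ, hδ⟩ := h.exists_move hv.1.1
  have key : ∀ r : G, Inv r → LL D (Cen1 v) ≤ Cen1 r → r • δ ≠ δ ∧ LL D (Cen1 r) ≤ Cen1 v :=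
    fun r hr e => by
      obtain ⟨-, -, -, -, e1⟩ := h.same hv s hr e
      refine ⟨fun e2 => hδ ((h.pt_cen1 hv.1.2).mp ?_), e1.le.trans (LL_le _)⟩
      rw [← Pt_LL, ← e1, Pt_LL]
      exact (h.pt_cen1 hr.2).mpr e2
  obtain ⟨k1, k2⟩ := key p hp hL
  obtain ⟨k3, -⟩ := key (v * p) (hv.1.mul hp hne hc) fun g hg =>
    Mc.cen_mul (LL_le _ hg) (c1_iff.mp (hL hg)).symm
  obtain ⟨u', hu', e1, e2⟩ := h.exists_T hp.2 k1
  have hu'v := k2 (mem_LL hu' (c1_iff.mpr e2.symm))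
  obtain ⟨z, hz⟩ := h.ex hu'
  obtain ⟨y', t', -, s'⟩ := h.sr_W' hv (h.cen_fix hu' hz (c1_iff.mp hu'v).symm)
  have k4 : ∀ u ∈ Tx D (Cen1 v) δ (v • δ), u ∈ Az D (Cen1 v) z := fun u hu => by
    have e3 := c1_iff.mp (hL (mem_LL hu.1.1 hu.2))
    have e4 : (u * u') • δ = (v * p) • δ := by
      rw [mul_smul, e1, ← mul_smul, e3, mul_smul, hu.1.2, ← mul_smul, hc]
    have e5 : (u * u') * (v * p) = (v * p) * (u * u') :=
      c1_iff.mp (Mc.cen_mul (mul_mem hu.2 hu'v) (c1_iff.mp (mul_mem (hL (mem_LL hu.1.1 hu.2))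
        (c1_iff.mpr e2.symm))).symm)
    have he : ¬ Odd (orderOf (u * u')) := fun ho => k3 (e4.symm.trans (mem_of_sq_mem (N := St G δ) ho
      (show (u * u' * (u * u')) • δ = δ by
        rw [mul_smul, e4, ← mul_smul, e5, mul_smul, e4, (hv.1.mul hp hne hc).smul_smul])))
    obtain ⟨z', hz'⟩ := h.ex hu.1.1
    obtain rfl : z' = z := by_contra fun e => he (h.odd_mul hu.1.1 hu' hz' hz e)
    exact s'.mem_A_of hu.1.1 hz' hu.2
  have k5 : j ≤ 1 := by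
    rw [← h6 δ hδ]
    exact (Set.ncard_le_one (Set.toFinite _)).mpr fun a ha b hb =>
      h.Tx_eq hδ.symm ha.1.1 hb.1.1 ha.1.2 hb.1.2 (s'.A_comm (k4 a ha) (k4 b hb))
  have e : Dx D (Cen1 v) x = Dx D ⊤ x := Set.eq_of_subset_of_ncard_le
    (fun a ha => ⟨ha.1, trivial⟩) (by
      have := s.card_A
      rw [h2, show (Dx D (Cen1 v) x).ncard = m by omega]
      simpa using Nat.mul_le_mul_left m k5)
  exact s.mem_A.mpr (Or.inr (e ▸ ⟨⟨ha, hax⟩, trivial⟩))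

/-- an involution acting on `A` -/
theorem sq_A {M : Subgroup G} (s : Sr D M x y t) {p : G} (hp : p ∈ Nor M) (hx : p • x = x)
    (h2 : ∀ a ∈ Az D M x, p * p * a = a * (p * p)) (ht : p * t = t * p) :
    Az D M x ≤ Cen1 p ∨ (Nat.card (Az D M x) = Nat.card ↥(Az D M x ⊓ Cen1 p) ^ 2 ∧
      ∀ u ∈ Az D M x ⊓ Cen1 p, ∃ a ∈ Az D M x, a * (p * a * p⁻¹) = u) := by
  refine or_iff_not_imp_left.mpr fun h0 => sq_lemma s.bd.sq0
    (nor_Q0 (nor_Qx (h.nor_le_nor_LL M hp) hx)) h2 h0 fun a ha b hb a1 b1 => ?_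
  obtain ⟨k, k1, k2, k3⟩ := h.exists_K (M := M ⊓ Cen1 p) s.tD s.txy ⟨s.tM, c1_iff.mpr ht.symm⟩ s.ne
    ⟨Sr.A_le_M M x ha.1, ha.2⟩ (s.A_D ha.1 a1) (Sr.A_le_St M x ha.1)
    ⟨Sr.A_le_M M x hb.1, hb.2⟩ (s.A_D hb.1 b1) (Sr.A_le_St M x hb.1)
  exact ⟨k, nor_Q0 (nor_Qx (h.nor_LL k1.1) k2.1), c1_iff.mp k1.2, k3⟩

end Sc

/-- the case (c) -/
structure F3 (D : Set G) (w : G) (x y : Ω) (t w0 : G) : Prop where
  hw : Wv Ω w
  s : Sr D (Cen1 w) x y t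
  e3 : Nat.card (Qx D (Cen1 w) x) = Nat.card (Az D (Cen1 w) x) ^ 3
  na : ¬ Ab (Qx D (Cen1 w) x)
  we : WE (Qx D (Cen1 w) x) (Ez D (Cen1 w) x y) w0
  pp : ∃ p k : ℕ, p.Prime ∧ p ≠ 2 ∧ w0 ^ p ^ k = 1

theorem exists_F3 {w : G} {x y : Ω} {t : G} (hw : Wv Ω w) (s : Sr D (Cen1 w) x y t)
    (e3 : Nat.card (Qx D (Cen1 w) x) = Nat.card (Az D (Cen1 w) x) ^ 3) : ∃ w0, F3 D w x y t w0 := by
  obtain ⟨a, ha⟩ := s.bd.toA1.exists_dist
  rcases s.bd.tri ha with h | h | ⟨-, h1, -, g, h2⟩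
  · refine (s.pow_ne (show 1 ≠ 3 by decide) ?_).elim
    rw [← e3, pow_one, Az, h.1]
  · exact (s.pow_ne (show 2 ≠ 3 by decide) (h.1.symm.trans e3)).elim
  obtain ⟨w0, m1, m2, p, k, m3, m4, m5⟩ := exists_ppow h2.2.2
  exact ⟨w0, hw, s, e3, h1, ⟨zpowers_le.mpr h2.1 m1, zpowers_le.mpr h2.2.1 m1, m2⟩, p, k, m3,
    fun e => Nat.not_even_iff_odd.mpr (s.bd.toA1.odd_D h2.1) (even_iff_two_dvd.mpr (e ▸ m4)), m5⟩

namespace F3
variable {w : G} {x y : Ω} {t w0 : G} (f : F3 D w x y t w0)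
include f

theorem odd : Odd (orderOf w0) := f.s.bd.toA1.odd_D f.we.1

theorem ne : w0 ≠ 1 := fun e => f.we.2.2 (e ▸ one_mem _)

theorem cw : w0 * w = w * w0 := c1_iff.mp (LL_le _ f.we.1.1)

theorem A_le : Az D (Cen1 w) x ≤ Cen1 w0 := le_cen1_iff.mpr f.we.2.1

theorem K_le : Kg (Ez D (Cen1 w) x y) t ≤ Cen1 w0 := fun _ hk =>
  c1_iff.mpr (f.s.bd.W_K f.we.1 f.we.2.1 hk).symm

theorem cenW : Qx D (Cen1 w) x ⊓ Cen1 w0 = Az D (Cen1 w) x := f.s.bd.cen_W f.e3 f.na f.we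

variable (h : Sc D Ω)
include h

theorem fix {z : Ω} (h1 : w • z = z) (h2 : w0 • z = z) (hne : z ≠ x) :
    ∃ a ∈ Az D (Cen1 w) x, a • y = z := by
  obtain ⟨c, hc, rfl⟩ := f.s.tr ((h.pt_cen1 f.hw.1.2).mpr h1) hne
  exact ⟨c, f.cenW ▸ ⟨hc, c1_iff.mpr (f.s.fix_of_cen (f.s.bd.E_nor f.we.1) f.we.1.2.2 hc h2)⟩, rfl⟩

theorem mem_A {R : Subgroup G} (hR : IsPGroup 2 R) (hp : Pure D R) (hx : R ≤ St G x)
    (hA : Az D (Cen1 w) x ≤ R) {g : G} (hg : g ∈ R) (h1 : g * w = w * g) (h2 : g * w0 = w0 * g) :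
    g ∈ Az D (Cen1 w) x := by
  obtain ⟨a, ha, e⟩ := f.fix h (z := g • y)
    (by rw [← mul_smul, ← h1, mul_smul, (h.fix_of_sr f.hw f.s).2])
    (by rw [← mul_smul, ← h2, mul_smul, show w0 • y = y from f.we.1.2.2])
    (f.s.smul_ne (hx hg) f.s.ne.symm)
  rwa [← inv_mul_eq_one.mp (h.semi hR hp hx (mul_mem (inv_mem (hA ha)) hg)
    (by rw [mul_smul, ← e, inv_smul_smul]) f.s.ne.symm)]

theorem Q_le {R : Subgroup G} (hR : IsPGroup 2 R) (hp : Pure D R) (hx : R ≤ St G x)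
    (hA : Az D (Cen1 w) x ≤ R) (hc : R ≤ Cen1 w) (hn : w0 ∈ Nor R) : R ≤ Qx D (Cen1 w) x := by
  have h1 := zpowers_le.mpr hn
  rw [← H5.commutator_sup_centralizer h1 (H5.coprime_card_of_isPGroup hR (fun e =>
    Nat.not_even_iff_odd.mpr f.odd (even_iff_two_dvd.mpr (by rwa [Nat.card_zpowers] at e)))).symm
    (Or.inl (solv_zpowers w0))]
  refine sup_le (fun g hg => ?_) fun g hg => Az_le _ x (f.mem_A h hR hp hx hA hg.1
    (c1_iff.mp (hc hg.1)) (cen_iff.mp hg.2 w0 (mem_zpowers w0)))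
  have h2 := le_normalizer_iff_commutator_le_left.mp h1 hg
  exact f.s.mem_Q ((commutator_mono le_rfl (zpowers_le.mpr f.we.1.1)).trans
    (le_normalizer_iff_commutator_le_right.mp fun g hg => h.nor_LL (hc hg)) hg) (hx h2) hR h2

theorem Q_mul {a : G} (ha : a ∈ Az D (Cen1 w) x) :
    Qx D (Cen1 (w * a)) x = Qx D (Cen1 w) x := by
  obtain ⟨hv, hx⟩ := h.W_mul' f.hw f.s ha
  obtain ⟨y', t', -, s'⟩ := h.sr_W' hv hx
  have e := h.A_mul f.hw f.s ha s'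
  refine eq_of_le_card (f.Q_le h (Qx_two _ x) s'.pureQ (Qx_le_St _ x) (e.ge.trans (Az_le _ x))
    (fun g hg => ?_) (nor_Qx (h.nor_LL (Mc.cen_mul (c1_iff.mpr f.cw) (c1_iff.mp (f.A_le ha))))
      f.we.1.2.1)) (h.Q_eq_of_A f.hw f.s hv s' (by rw [e])).le
  have := Mc.cen_mul (Qx_le_M _ x hg) (cen_iff.mp (s'.Q_cen hg) a (e.ge ha)).symm
  rwa [mul_assoc, f.s.bd.sq0 a ha, mul_one] at this

theorem nor_of {g a : G} (hx : g • x = x) (ha : a ∈ Az D (Cen1 w) x) (e : g * w * g⁻¹ = w * a) :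
    g ∈ Nor (Qx D (Cen1 w) x) := by
  rw [mem_normalizer_iff_conjS, h.conjS_Qx, conjS_cen1, e, hx, f.Q_mul h ha]

omit h in
theorem cenQ {B : Subgroup G} (hB : IsPGroup 2 B) (h0 : B ≤ Cen1 w0)
    (hK : Kg (Ez D (Cen1 w) x y) t ≤ Nor B) (hn : B ≤ Nor (Qx D (Cen1 w) x))
    (hA : B ≤ Cen (Az D (Cen1 w) x)) : B ≤ Cen (Qx D (Cen1 w) x) := by
  have b := f.s.bd
  have hne : Az D (Cen1 w) x ≠ Qx D (Cen1 w) x := fun e => f.na (e ▸ fun _ h1 _ h2 => f.s.A_comm h1 h2)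
  have nw : w0 ∈ Nor B := H4.le_normalizer_of_le_centralizer le_rfl (le_cen1_iff.mp h0)
  choose F hF using exists_cenMod b.cen0
  let B1 : Subgroup G := Qx D (Cen1 w) x ⊓ ⨅ c ∈ B, F c
  have m1 : ∀ z, z ∈ B1 ↔ z ∈ Qx D (Cen1 w) x ∧ ∀ c ∈ B, z⁻¹ * (c * z * c⁻¹) ∈ Az D (Cen1 w) x :=
    fun z => by
      simp only [B1, mem_inf, mem_iInf, hF]
      exact ⟨fun e => ⟨e.1, fun c hc => (e.2 c hc).2⟩, fun e => ⟨e.1, fun c hc => ⟨e.1, e.2 c hc⟩⟩⟩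
  have n1 : ∀ g ∈ Ez D (Cen1 w) x y, g ∈ Nor B → g ∈ Nor B1 := fun g hg hn =>
    H5.mem_normalizer_of_forall fun z hz => (m1 _).mpr ⟨conj_mem (b.E_nor hg) ((m1 z).mp hz).1,
      fun c hc => H5.mem_of_eq (conj_mem (b.E_nor0 hg)
        (((m1 z).mp hz).2 _ (conj_mem (inv_mem hn) hc))) (by group)⟩
  obtain ⟨z, z1, z2, z3⟩ := exists_cen_mod (Az_le _ x) hne (Qx_two _ x) hB hn
    (H4.le_normalizer_of_le_centralizer f.s.Q_cen) (H4.le_normalizer_of_le_centralizer hA)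
  have e1 := (b.irr f.e3 f.na f.we (B := B1) (fun a ha => (m1 a).mpr ⟨Az_le _ x ha, fun c hc => by
    rw [cen_iff.mp (hA hc) a ha]; simpa using one_mem _⟩) inf_le_left
    (fun k hk => n1 k (b.K_le hk) (hK hk)) (n1 w0 f.we.1 nw)).resolve_left
      fun e => z2 (e.le ((m1 z).mpr ⟨z1, z3⟩))
  rw [le_centralizer_iff]
  refine (((b.irr f.e3 f.na f.we (B := Qx D (Cen1 w) x ⊓ Cen B)
    (le_inf (Az_le _ x) (le_centralizer_iff.mp hA)) inf_le_left (H4.le_normalizer_inf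
      (b.K_le.trans b.E_nor) (H4.le_normalizer_centralizer hK)) (mem_nor_inf (b.E_nor f.we.1)
      (H4.normalizer_le_normalizer_centralizer _ nw))).resolve_left fun e => z2 ?_).ge).trans
        inf_le_right
  refine b.mod_W f.e3 f.na f.we z1 (e.le ⟨(Qx D (Cen1 w) x).mul_mem (inv_mem z1) (conj_mem (b.E_nor f.we.1) z1),
    cen_iff.mpr fun c hc => ?_⟩)
  have e2 := z3 c hc
  have e3 := cen_iff.mp f.we.2.1 _ e2
  have e4 := c1_iff.mp (h0 hc)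
  have e5 := b.cen0 _ e2 _ (mul_mem (inv_mem z1) (conj_mem (b.E_nor f.we.1) z1))
  generalize ha : z⁻¹ * (c * z * c⁻¹) = a at e3 e5
  have e6 : c * z = z * a * c := by rw [← ha]; group
  calc z⁻¹ * (w0 * z * w0⁻¹) * c = a⁻¹ * (a * (z⁻¹ * (w0 * z * w0⁻¹))) * c := by group
    _ = a⁻¹ * z⁻¹ * w0 * z * (w0⁻¹ * (a * w0)) * (w0⁻¹ * (c * w0)) * w0⁻¹ := by rw [e5]; group
    _ = a⁻¹ * z⁻¹ * w0 * (z * a * c) * w0⁻¹ := by rw [← e3, e4]; group
    _ = a⁻¹ * z⁻¹ * (w0 * c) * z * w0⁻¹ := by rw [← e6]; group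
    _ = c * (z⁻¹ * (w0 * z * w0⁻¹)) := by rw [← e4, ← ha]; group

theorem star : Sr D (Cen1 w0) x y t :=
  h.sr_sub (h.cen1_ne_top f.ne) f.s f.A_le (c1_iff.mpr (f.s.bd.W_t f.we.1 f.we.2.1).symm)

theorem A_le_star : Az D (Cen1 w) x ≤ Az D (Cen1 w0) x := f.s.A_mono (f.star h) f.A_le

theorem cen_star : Qx D (Cen1 w0) x ⊓ Cen1 w = Az D (Cen1 w) x :=
  le_antisymm (fun _ hg => f.mem_A h (Qx_two _ x) (f.star h).pureQ (Qx_le_St _ x)
    ((f.A_le_star h).trans (Az_le _ x)) hg.1 (c1_iff.mp hg.2) (c1_iff.mp (Qx_le_M _ x hg.1)))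
    (le_inf ((f.A_le_star h).trans (Az_le _ x)) (Sr.A_le_M _ x))

theorem w_nor : w ∈ Nor (Qx D (Cen1 w0) x) :=
  nor_Qx (h.nor_LL (c1_iff.mpr f.cw.symm)) (h.fix_of_sr f.hw f.s).1

theorem K_nor : Kg (Ez D (Cen1 w) x y) t ≤ Nor (Qx D (Cen1 w0) x) := fun _ hk =>
  nor_Qx (h.nor_LL (f.K_le hk)) (f.s.K_x hk)

theorem no_big {v : G} (hv : Wv Ω v) {y' : Ω} {t' : G} (s' : Sr D (Cen1 v) x y' t') :
    Nat.card (Az D (Cen1 v) x) < Nat.card (Az D (Cen1 w) x) ^ 2 := by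
  by_contra hc
  obtain ⟨m, a1, a2, a3⟩ := h.cnt f.hw f.s
  obtain ⟨m', b1, -, b3⟩ := h.cnt hv s'
  have := f.s.bd.four_le.trans a1.le
  rw [f.e3, a1] at a2 a3
  exact num_big (by omega) (by rw [← a1, ← b1]; exact not_lt.mp hc)
    (b1 ▸ card_le_of_le (Az_le _ x)) a2 a3 b3

theorem five {R : Subgroup G} (hR : IsPGroup 2 R) (hp : Pure D R) (hx : R ≤ St G x)
    (hc : Nat.card (Az D (Cen1 w) x) ^ 5 ≤ Nat.card R) :
    Nat.card R ≤ Nat.card (Az D (Cen1 w) x) ^ 5 ∧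
      (Dx D ⊤ x).ncard + Nat.card (Az D (Cen1 w) x) < Nat.card (Az D (Cen1 w) x) ^ 3 := by
  obtain ⟨m, j, r, h1, h2, -, h4, h5, -⟩ := h.count f.hw f.s
  have e := h.semi_dvd hR hp hx (S := {x}ᶜ) (fun g hg z hz => f.s.smul_ne (hx hg) hz) (by simp)
  have e1 := Set.ncard_add_ncard_compl ({x} : Set Ω)
  rw [Set.ncard_singleton, h5, add_comm, Nat.add_right_cancel_iff] at e1
  rw [e1, f.e3] at e
  have e2 := (pow_dvd_of_lt hR (Sr.A_pow 5) hc).trans e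
  have := f.s.bd.four_le.trans h1.le
  rw [f.e3] at h4
  rw [h1] at *
  obtain ⟨n1, n2⟩ := num_five (by omega) h4 e2
  refine ⟨(Nat.le_of_dvd (by positivity) e).trans ((Nat.mul_le_mul_left _ n1).trans (by
    rw [← pow_add])), ?_⟩
  rw [h2]
  nlinarith [Nat.mul_le_mul_left m n2]

theorem star_eq : Az D (Cen1 w0) x = Az D (Cen1 w) x := by
  by_contra hne
  have s' := f.star h
  have hx := (h.fix_of_sr f.hw f.s).1
  have e0 : Az D (Cen1 w0) x ⊓ Cen1 w = Az D (Cen1 w) x := le_antisymm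
    ((inf_le_inf_right _ (Az_le _ x)).trans (f.cen_star h).le) (le_inf (f.A_le_star h) (Sr.A_le_M _ x))
  obtain ⟨e1, -⟩ := (h.sq_A s' (nor_cen1 f.cw.symm) hx (fun a _ => by rw [f.hw.1.2, one_mul, mul_one])
    (c1_iff.mp f.s.tM).symm).resolve_left fun e => hne (by rw [← e0, inf_eq_left.mpr e])
  rw [e0] at e1
  set A := Az D (Cen1 w) x with hA
  set B := Az D (Cen1 w0) x with hB
  set Q := Qx D (Cen1 w) x with hQ
  have hB2 : IsPGroup 2 B := (Qx_two _ x).to_le (Az_le _ x)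
  have hBQ : B ≤ Cen Q := f.cenQ hB2 (Sr.A_le_M _ x) (fun k hk => nor_Q0 (f.K_nor h hk))
    (fun b hb => by
      have e2 := conj_mem (nor_Q0 (f.w_nor h)) hb
      refine f.nor_of h (Sr.A_le_St _ x hb) (a := w * b * w⁻¹ * b) (e0.le ⟨mul_mem e2 hb,
        c1_iff.mpr ?_⟩) ?_
      · rw [s'.A_comm e2 hb, f.hw.1.inv]
        calc b * (w * b * w) * w = b * w * b * (w * w) := by group
          _ = (w * w) * b * w * b := by rw [f.hw.1.2]; group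
          _ = w * (w * b * w⁻¹ * b) := by rw [f.hw.1.inv]; group
          _ = w * (b * (w * b * w)) := by rw [s'.A_comm e2 hb, f.hw.1.inv]
      · rw [← mul_assoc, ← mul_assoc, ← mul_assoc, f.hw.1.2, one_mul, f.hw.1.inv,
          inv_eq_self_of_sq (s'.bd.sq0 b hb)])
    (fun b hb => cen_iff.mpr fun a ha => s'.A_comm hb (f.A_le_star h ha))
  have hBn : B ≤ Nor Q := H4.le_normalizer_of_le_centralizer hBQ
  have hU := H5.card_sup_mul_card_inf hBn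
  rw [show Q ⊓ B = A from le_antisymm ((inf_le_inf_left _ (Sr.A_le_M _ x)).trans f.cenW.le)
    (le_inf (Az_le _ x) (f.A_le_star h)), f.e3, e1] at hU
  obtain ⟨T, hT, hUT⟩ := H5.exists_isSylowOf_ge (K := St G x ⊓ Cen B)
    ((Qx_two _ x).to_sup_of_normal_left' hB2 hBn) (sup_le
      (le_inf (Qx_le_St _ x) (le_centralizer_iff.mp hBQ))
      (le_inf (Sr.A_le_St _ x) ((Az_le _ x).trans s'.Q_cen)))
  have hp : Pure D T := fun r hr hi => by_contra fun e => by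
    have hv := h.W_of_not hi e
    obtain ⟨y', t', -, s''⟩ := h.sr_W' hv (hT.le hr).1
    exact (f.no_big h hv s'').not_ge (e1 ▸ card_le_of_le
      (s'.A_mono s'' (le_cen1_iff.mpr (hT.le hr).2)))
  obtain ⟨a0, ha0, ha1⟩ := f.s.exists_A
  have key : ∀ a ∈ B, a ≠ 1 → ∀ S : Set G, a ∈ S →
      {z | z ∈ {z | z ∈ T ∧ z * z ∈ S} ∧ z * z = a}.ncard = {z | z ∈ T ∧ z * z = a0}.ncard := by
    intro a ha h1 S hS
    obtain ⟨k, hk, e⟩ := s'.bd.K_tr (f.A_le_star h ha0) ha ha1 h1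
    obtain ⟨n, hn, e2⟩ := hT.frattini (mem_nor_inf (t_mem_nor_St (s'.K_x hk))
      (H4.normalizer_le_normalizer_centralizer _ (s'.bd.E_nor0 (s'.bd.K_le hk))))
    have e3 : n⁻¹ * k * a0 * (n⁻¹ * k)⁻¹ = a := by
      calc _ = n⁻¹ * (k * a0 * k⁻¹ * n) := by group
        _ = a := by rw [e, ← cen_iff.mp hn.2 a ha]; group
    generalize n⁻¹ * k = g at e2 e3
    symm
    exact Set.ncard_congr (fun z _ => g * z * g⁻¹) (fun z hz =>
      have : g * z * g⁻¹ * (g * z * g⁻¹) = a := by rw [← e3, ← hz.2]; group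
      ⟨⟨conj_mem e2 hz.1, this ▸ hS⟩, this⟩) (fun a b _ _ e => by simpa using e) fun z hz =>
        ⟨g⁻¹ * z * g, ⟨by simpa using conj_mem (inv_mem e2) hz.1.1, by
          calc _ = g⁻¹ * (z * z) * g := by group
            _ = a0 := by rw [hz.2, ← e3]; group⟩, by group⟩
  have c1 := ncard_fib (S := {z | z ∈ T ∧ z * z ∈ {a | a ∈ A ∧ a ≠ 1}}) (fun z => z * z)
    (fun z hz => hz.2) fun a ha => key a (f.A_le_star h ha.1) ha.2 _ ha
  have c2 := ncard_fib (S := {z | z ∈ T ∧ z * z ∈ {a | a ∈ B ∧ a ≠ 1}}) (fun z => z * z)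
    (fun z hz => hz.2) fun a ha => key a ha.1 ha.2 _ ha
  have c3 : Nat.card ↥(Q ⊔ B) ≤ {z | z ∈ T ∧ z * z ∈ {a | a ∈ A ∧ a ≠ 1}}.ncard + Nat.card B := by
    refine le_trans (Set.ncard_le_ncard (s := (Q ⊔ B : Subgroup G))
      (t := {z | z ∈ T ∧ z * z ∈ {a | a ∈ A ∧ a ≠ 1}} ∪ B) fun z hz => ?_) (Set.ncard_union_le _ _)
    obtain ⟨c, hc, b, hb, rfl⟩ := (H4.mem_sup_of_le_normalizer_left hBn).mp hz
    have e2 : c * b * (c * b) = c * c := by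
      rw [mul_assoc, ← mul_assoc b, cen_iff.mp (hBQ hb) c hc, mul_assoc, s'.bd.sq0 b hb, mul_one]
    by_cases e3 : c * c = 1
    · exact Or.inr (mul_mem (f.A_le_star h (f.s.bd.mem0.mpr ⟨hc, e3⟩)) hb)
    · exact Or.inl ⟨hUT hz, e2 ▸ ⟨f.s.bd.sq_mem f.na c hc, e3⟩⟩
  have c4 : {z | z ∈ T ∧ z * z ∈ {a | a ∈ B ∧ a ≠ 1}}.ncard ≤ Nat.card T :=
    Set.ncard_le_ncard (s := {z | z ∈ T ∧ z * z ∈ {a | a ∈ B ∧ a ≠ 1}}) (t := T) fun z hz => hz.1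
  have c5 := ncard_ne_one A
  have c6 := ncard_ne_one B
  have q4 : 4 ≤ Nat.card A := f.s.bd.four_le
  have c7 : Nat.card A ^ 5 < Nat.card T := by
    rw [c1, e1] at c3
    rw [c2] at c4
    rw [e1] at c6
    exact num_sq c5 q4 c6 hU c3 c4
  exact c7.not_ge (f.five h hT.isPGroup hp (hT.le.trans inf_le_left) c7.le).1

theorem star3 : Nat.card (Qx D (Cen1 w0) x) = Nat.card (Az D (Cen1 w0) x) ^ 3 := by
  have s' := f.star h
  have e0 := f.star_eq h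
  rcases s'.cases with e | e | e
  · exfalso
    obtain ⟨a, ha, ha1⟩ := f.s.exists_A
    obtain ⟨hv, hx⟩ := h.W_mul' f.hw f.s ha
    obtain ⟨p, k, hp, hp2, hk⟩ := f.pp
    have := Fact.mk hp
    obtain ⟨y', t', -, s1⟩ := h.sr_W' hv hx
    have hc : w0 ∈ Cen1 (w * a) := Mc.cen_mul (c1_iff.mpr f.cw) (c1_iff.mp (f.A_le ha))
    obtain ⟨δ, d1, d2⟩ := exists_fix_elt hk (S := Pt D Ω (Cen1 (w * a)) \ {x})
      (fun z hz => ⟨h.Pt_smul' hz.1 hc, f.s.smul_ne f.we.1.2.1 hz.2⟩) fun hd => by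
        have e1 := s1.card_Pt
        rw [← Set.ncard_sdiff_singleton_add_one s1.lr.pt, Nat.add_right_cancel_iff] at e1
        obtain ⟨n, hn⟩ := IsPGroup.iff_card.mp (Qx_two (D := D) (Cen1 (w * a)) x)
        rw [e1, hn] at hd
        exact hp2 ((Nat.prime_dvd_prime_iff_eq hp Nat.prime_two).mp (hp.dvd_of_dvd_pow hd))
    have d3 := (h.pt_cen1 hv.1.2).mp d1.1
    obtain ⟨t1, s2⟩ := h.sr_W hv hx d3 (Ne.symm d1.2)
    have e2 := s2.cen_t (h.nor_LL hc) f.we.1.2.1 d2 (h.A_mul f.hw f.s ha s2 ▸ f.we.2.1)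
    obtain ⟨c, hc', e3⟩ := s'.tr (s2.txy ▸ h.Pt_smul' s'.lr.pt (c1_iff.mpr e2.symm)) d1.2
    rw [← eq_of_le_card (Az_le _ x) e.le, e0] at hc'
    have e4 : w • δ = δ := by
      rw [← e3, ← mul_smul, ← c1_iff.mp (Sr.A_le_M _ x hc'), mul_smul, (h.fix_of_sr f.hw f.s).2]
    rw [← c1_iff.mp (Sr.A_le_M _ x ha), mul_smul, e4] at d3
    exact d1.2 (h.uniq (f.s.A_D ha ha1) d3 (Sr.A_le_St _ x ha))
  · exact (s'.pow_ne (show 3 ≠ 2 by decide) (by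
      rw [← s'.sq_iff f.s e0.symm e, f.e3, e0])).elim
  · exact e

theorem star_na : ¬ Ab (Qx D (Cen1 w0) x) := by
  have s' := f.star h
  obtain ⟨a, ha⟩ := s'.bd.toA1.exists_dist
  rcases s'.bd.tri ha with e | e | e
  · exact (s'.pow_ne (show 1 ≠ 3 by decide) (by rw [← f.star3 h, pow_one, Az, e.1])).elim
  exacts [e.2.1, e.2.1]

theorem star_cen : Qx D (Cen1 w0) x ≤ Cen (Qx D (Cen1 w) x) := by
  have s' := f.star h
  have e0 := f.star_eq h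
  have w2 : w * w ∈ Cen (Qx D (Cen1 w0) x) := by rw [f.hw.1.2]; exact one_mem _
  obtain ⟨B, hB, -, -⟩ := s'.bd.inv_lemma (f.star3 h) (f.star_na h) (f.w_nor h) w2
    ((f.cen_star h).trans e0.symm)
  have hBQ : B ≤ Qx D (Cen1 w0) x := fun z hz => ((hB z).mp hz).1
  have h1 : B ≤ Cen (Qx D (Cen1 w) x) := f.cenQ ((Qx_two _ x).to_le hBQ)
    (hBQ.trans (Qx_le_M _ x)) (fun k hk => H5.mem_normalizer_of_forall fun z hz => (hB _).mpr
      ⟨conj_mem (f.K_nor h hk) (hBQ hz), H5.mem_of_eq (conj_mem (nor_Q0 (f.K_nor h hk))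
        ((hB z).mp hz).2) (by
          have := c1_iff.mp (f.s.K_M hk)
          calc _ = k * z⁻¹ * k⁻¹ * (k * w) * z * (k * w)⁻¹ := by group
            _ = _ := by rw [this]; group)⟩)
    (fun z hz => by
      have e1 := ((hB _).mp (inv_mem hz)).2
      refine f.nor_of h (Qx_le_St _ x (hBQ hz)) (e0.le e1) ?_
      rw [← c1_iff.mp (Sr.A_le_M _ x (e0.le e1))]; group)
    (e0 ▸ hBQ.trans s'.Q_cen)
  refine f.cenQ (Qx_two _ x) (Qx_le_M _ x) (f.K_nor h) (fun z hz => ?_) (e0 ▸ s'.Q_cen)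
  have hx := Qx_le_St _ x hz
  have e1 : z * w * z⁻¹ * w ∈ B := by
    have m1 : z * w * z⁻¹ * w ∈ Qx D (Cen1 w0) x := by
      have := mul_mem hz (conj_mem (f.w_nor h) (inv_mem hz))
      rwa [f.hw.1.inv, ← mul_assoc, ← mul_assoc] at this
    refine (hB _).mpr ⟨m1, H5.mem_of_eq (inv_mem (s'.bd.sq_mem (f.star_na h) _ m1)) ?_⟩
    simp only [mul_inv_rev, inv_inv, f.hw.1.inv, mul_assoc]
    rw [f.hw.1.2, mul_one]
  have hz0 := c1_iff.mp (Qx_le_M _ x hz)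
  refine (Subgroup.inv_mem_iff _).mp (mem_normalizer_of_conjS_le (f.Q_le h
    ((Qx_two _ x).map _) (fun r hr hi => ?_) (fun g hg => ?_) (fun a ha => mem_conjS.mpr ?_)
    (fun g hg => ?_) (H5.mem_normalizer_of_forall fun g hg => mem_conjS.mpr ?_)))
  · have := h.conj' (f.s.pureQ _ (mem_conjS.mp hr) (by simpa using hi.conj z)) z
    simpa [mul_assoc] using this
  · have := mul_mem (mul_mem ((St G x).inv_mem hx) (Qx_le_St _ x (mem_conjS.mp hg))) hx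
    simpa [mul_assoc] using this
  · rw [inv_inv, cen_iff.mp (s'.Q_cen hz) a (e0.ge ha), mul_inv_cancel_right]; exact Az_le _ x ha
  · have m1 := mem_conjS.mp hg
    have := Mc.cen_mul (le_cen1_iff.mpr (h1 e1) m1) (c1_iff.mp (Qx_le_M _ x m1)).symm
    rw [mul_assoc, f.hw.1.2, mul_one, inv_inv] at this
    have := conj_comm (c1_iff.mp this) z⁻¹
    exact c1_iff.mpr (by simpa [mul_assoc] using this)
  · refine H5.mem_of_eq (conj_mem (f.s.bd.E_nor f.we.1) (mem_conjS.mp hg)) ?_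
    rw [inv_inv]
    calc _ = (w0 * z) * g * (w0 * z)⁻¹ := by group
      _ = _ := by rw [← hz0]; group

theorem no_four {p : G} (hp : Inv p) (hne : w ≠ p) (hc : w * p = p * w)
    (hL : LL D (Cen1 w) ≤ Cen1 p) : False := by
  have s' := f.star h
  have e0 := f.star_eq h
  have key : ∀ r : G, Inv r → LL D (Cen1 w) ≤ Cen1 r →
      r ∈ Nor (Qx D (Cen1 w0) x) ∧ Qx D (Cen1 w0) x ⊓ Cen1 r = Az D (Cen1 w0) x := fun r hr e => by
    obtain ⟨m1, m2, m3, m4, m5⟩ := h.same f.hw f.s hr e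
    have f' : F3 D r x y t w0 := ⟨m1, m2, by rw [m3, m4, f.e3], m4 ▸ f.na,
      by rw [Ez, m4, m5]; exact f.we, f.pp⟩
    exact ⟨f'.w_nor h, (f'.cen_star h).trans (m3.trans e0.symm)⟩
  obtain ⟨k1, k2⟩ := key p hp hL
  obtain ⟨-, k3⟩ := key (w * p) (f.hw.1.mul hp hne hc) fun g hg =>
    Mc.cen_mul (LL_le _ hg) (c1_iff.mp (hL hg)).symm
  exact s'.bd.inv_two (f.star3 h) (f.star_na h) (f.w_nor h) (by rw [f.hw.1.2]; exact one_mem _)
    ((f.cen_star h).trans e0.symm) k1 (le_cen1_iff.mp (k2.ge.trans inf_le_right))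
    (fun z _ => by rw [hc]) (Or.inl ⟨by rw [hp.2]; exact one_mem _, k2, k3⟩)

theorem cen_cases {p : G} (hp : p * p = 1) (hc : p * w = w * p) (hx : p • x = x) (hy : p • y = y)
    (hA : p ∈ Cen (Az D (Cen1 w) x)) (h1 : p ≠ 1) (h2 : p ≠ w) :
    Qx D (Cen1 w) x ⊓ Cen1 p = Az D (Cen1 w) x := by
  have hn := h.nor_LL (D := D) (c1_iff.mpr hc)
  have ht := f.s.cen_t hn hx hy hA
  rcases f.s.bd.card_cases f.e3 (B := Qx D (Cen1 w) x ⊓ Cen1 p)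
    (le_inf (Az_le _ x) (le_cen1_iff.mpr hA)) inf_le_left (H4.le_normalizer_inf
      (f.s.bd.K_le.trans f.s.bd.E_nor) fun k hk => nor_cen1 (f.s.cen_K hn hx hy hA hk).symm)
    with e | e | e
  · exact e
  · exfalso
    have hR : IsPGroup 2 ↥(zpowers w ⊔ zpowers p) := (pgroup_zp f.hw.1.2).to_sup_of_normal_left'
      (pgroup_zp hp) (zp_le_nor (nor_zp hc))
    have eR : Cen (zpowers w ⊔ zpowers p) = Cen1 w ⊓ Cen1 p := by
      rw [← BS.cen_zpowers, ← BS.cen_zpowers]; exact H4.centralizer_sup _ _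
    have s' := h.sr_sub (N := Cen1 w ⊓ Cen1 p)
      (fun e => h.cen1_ne_top h1 (top_le_iff.mp (e ▸ inf_le_right))) f.s
      (le_inf (Sr.A_le_M _ x) (le_cen1_iff.mpr hA)) ⟨f.s.tM, c1_iff.mpr ht.symm⟩
    have e1 : Az D (Cen1 w) x = Az D (Cen1 w ⊓ Cen1 p) x := le_antisymm
      (f.s.A_mono s' (le_inf (Sr.A_le_M _ x) (le_cen1_iff.mpr hA)))
      (s'.A_mono f.s ((Sr.A_le_M _ x).trans inf_le_left))
    have e2 : Qx D (Cen1 w ⊓ Cen1 p) x = Qx D (Cen1 w) x ⊓ Cen1 p := le_antisymm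
      (le_inf (f.s.Q_mono inf_le_left) ((Qx_le_M _ x).trans inf_le_right)) fun b hb => by
        obtain ⟨c, hc', e3⟩ := s'.tr (z := b • y) (by
          rw [← eR, h.pt_cen hR, sup_le_iff, zpowers_le, zpowers_le, mem_St, mem_St, ← mul_smul,
            ← mul_smul, ← c1_iff.mp hb.2, ← c1_iff.mp (Qx_le_M _ x hb.1), mul_smul, mul_smul, hy,
            (h.fix_of_sr f.hw f.s).2]
          exact ⟨rfl, rfl⟩) (f.s.smul_ne (Qx_le_St _ x hb.1) f.s.ne.symm)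
        rwa [← f.s.smul_inj (f.s.Q_mono inf_le_left hc') hb.1 f.s.ne.symm e3]
    exact f.s.pow_ne (show 3 ≠ 2 by decide) (by
      rw [← f.e3, s'.sq_iff f.s e1 (by rw [e2, e, ← e1]), ← e1])
  · exact (f.no_four h ⟨h1, hp⟩ h2.symm hc.symm
      (f.s.L_le (e.ge.trans inf_le_right) (c1_iff.mpr ht.symm))).elim

theorem false : False := by
  have s' := f.star h
  have e0 := f.star_eq h
  have hc := f.star_cen h
  have b := f.s.bd
  have q4 : 4 ≤ Nat.card (Az D (Cen1 w) x) := b.four_le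
  set A := Az D (Cen1 w) x with hA
  set Q := Qx D (Cen1 w) x with hQ
  set R := Qx D (Cen1 w0) x with hR
  have hn : R ≤ Nor Q := H4.le_normalizer_of_le_centralizer hc
  have hQR : Q ⊓ R = A := le_antisymm ((inf_le_inf_left _ (Qx_le_M _ x)).trans f.cenW.le)
    (le_inf (Az_le _ x) (e0.ge.trans (Az_le _ x)))
  have c1 : Nat.card ↥(Q ⊔ R) = Nat.card A ^ 5 := by
    have := H5.card_sup_mul_card_inf hn
    rw [hQR, f.e3, f.star3 h, e0] at this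
    exact Nat.eq_of_mul_eq_mul_right Nat.card_pos (by rw [this]; ring)
  have h2 : IsPGroup 2 ↥(Q ⊔ R) := (Qx_two _ x).to_sup_of_normal_left' (Qx_two _ x) hn
  have hx : Q ⊔ R ≤ St G x := sup_le (Qx_le_St _ x) (Qx_le_St _ x)
  have hCA : Q ⊔ R ≤ Cen A := sup_le f.s.Q_cen (e0 ▸ s'.Q_cen)
  have mY := fun g => H4.mem_sup_of_le_normalizer_left hn (x := g)
  have sqR : ∀ z ∈ R, z * z ∈ A := fun z hz => e0.le (s'.bd.sq_mem (f.star_na h) z hz)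
  have sqY : ∀ g ∈ Q ⊔ R, g * g ∈ A := fun g hg => by
    obtain ⟨c, h3, z, h4, rfl⟩ := (mY g).mp hg
    refine H5.mem_of_eq (mul_mem (b.sq_mem f.na c h3) (sqR z h4)) ?_
    have e := cen_iff.mp (hc h4) c h3
    calc c * c * (z * z) = c * (c * z) * z := by group
      _ = c * (z * c) * z := by rw [e]
      _ = _ := by group
  have cmY : ∀ g ∈ Q ⊔ R, ∀ k ∈ Q ⊔ R, g⁻¹ * (k * g * k⁻¹) ∈ A := fun g hg k hk => by
    refine H5.mem_of_eq (mul_mem (mul_mem (sqY _ (inv_mem hg)) (sqY _ (mul_mem hg hk)))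
      (sqY _ (inv_mem hk))) (by group)
  by_cases hp : Pure D (Q ⊔ R)
  · have h3 := (f.five h h2 hp hx c1.ge).2
    choose! ρ hρ using b.sq_surj f.na le_rfl (b.K_le.trans b.E_nor)
      fun e => f.na fun _ m1 _ m2 => f.s.A_comm (e m1) (e m2)
    have c2 := Set.ncard_le_ncard_of_injOn (s := (R : Set G) \ A) (t := Dx D ⊤ x)
      (fun z => ρ (z * z) * z) (fun z hz => by
        obtain ⟨m1, m2⟩ := hρ _ (sqR z hz.1)
        have m3 := mul_mem (mem_sup_left m1 : _ ∈ Q ⊔ R) (mem_sup_right hz.1)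
        refine ⟨⟨hp _ m3 ⟨fun e => hz.2 (hQR.le ⟨?_, hz.1⟩), ?_⟩, hx m3⟩, trivial⟩
        · rw [← inv_eq_of_mul_eq_one_right e]; exact Q.inv_mem m1
        · rw [mul_assoc, ← mul_assoc z, cen_iff.mp (hc hz.1) _ m1, mul_assoc, ← mul_assoc, m2,
            b.sq0 _ (sqR z hz.1)]) fun z hz z' hz' e => by
        have m1 := (hρ _ (sqR z hz.1)).1
        have m2 := (hρ _ (sqR z' hz'.1)).1
        have m3 : z' * z⁻¹ ∈ A := hQR.le ⟨H5.mem_of_eq (mul_mem (inv_mem m2) m1) (by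
          rw [inv_mul_eq_iff_eq_mul, ← mul_assoc]; exact eq_mul_inv_of_mul_eq e),
          R.mul_mem hz'.1 (R.inv_mem hz.1)⟩
        have m4 : z' * z' = z * z := by
          have e1 := cen_iff.mp (hCA (mem_sup_right hz.1)) _ m3
          calc z' * z' = z' * z⁻¹ * (z * (z' * z⁻¹)) * z := by group
            _ = (z' * z⁻¹ * (z' * z⁻¹)) * (z * z) := by rw [e1]; group
            _ = z * z := by rw [b.sq0 _ m3, one_mul]
        simp only [m4] at e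
        exact mul_left_cancel e
    have c3 := Set.ncard_sdiff_add_ncard_of_subset (s := (A : Set G)) (t := R)
      (hQR.ge.trans inf_le_right)
    change _ + Nat.card A = Nat.card R at c3
    rw [f.star3 h, e0] at c3
    rw [← hA] at h3
    omega
  simp only [Pure, not_forall] at hp
  obtain ⟨v, hvY, hi, hD⟩ := hp
  have hv := h.W_of_not hi hD
  have hAv : A ≤ Cen1 v := le_cen1_iff.mpr (hCA hvY)
  obtain ⟨δ, hδ, hvδ⟩ := hv.ex x
  set Y := (Q ⊔ R) ⊓ Cen1 v with hY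
  have c2 : Nat.card A ^ 4 ≤ Nat.card Y := by
    have e1 := card_eq_ncard_mul (Q ⊔ R) (Cen1 v) (fun g => v⁻¹ * (g * v * g⁻¹)) fun g _ g' _ => by
      rw [mul_right_inj, c1_iff]
      constructor
      · intro e
        calc _ = g⁻¹ * (g' * v * g'⁻¹) * g' := by group
          _ = _ := by rw [← e]; group
      · intro e
        calc _ = g * (v * (g⁻¹ * g')) * g'⁻¹ := by group
          _ = _ := by rw [← e]; group
    have e2 : ((fun g => v⁻¹ * (g * v * g⁻¹)) '' (Q ⊔ R : Subgroup G)).ncard ≤ Nat.card A :=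
      Set.ncard_le_ncard (s := (fun g => v⁻¹ * (g * v * g⁻¹)) '' (Q ⊔ R : Subgroup G)) (t := A)
        (by rintro _ ⟨g, hg, rfl⟩; exact cmY v hvY g hg)
    rw [c1] at e1
    exact Nat.le_of_mul_le_mul_left (by
      rw [← pow_succ', e1]; exact Nat.mul_le_mul_right _ e2) (show 0 < Nat.card A by omega)
  set P := Y ⊓ St G δ with hP
  have c3 := card_orb Y δ
  have P2 : IsPGroup 2 P := h2.to_le (inf_le_left.trans inf_le_left)
  have Psq : ∀ p ∈ P, p * p = 1 := fun p hp =>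
    f.s.semi (Az_le _ x (sqY p hp.1.1)) (mul_mem hp.2 hp.2) hδ
  obtain ⟨t', m1, m2, m3, m4⟩ := h.exists_T_cen ((h.pt_cen1 hi.2).mpr (hx hvY))
    ((h.pt_cen1 hi.2).mpr hvδ) hδ.symm P2 (fun p hp => le_normalizer hp.1.2)
    fun p hp => Or.inl ⟨hx hp.1.1, hp.2⟩
  have sv := h.sr (h.cen1_ne_top hi.1) (h.lr_W hv (h.rkW v hv) (hx hvY)) m1 m2 m3 hδ.symm
  have hAA := f.s.A_mono sv hAv
  have lt2 := f.no_big h hv sv
  have orb : ∀ B : Subgroup G, (∀ g ∈ Y, ∃ c ∈ B, c • δ = g • δ) →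
      Nat.card A ^ 4 ≤ Nat.card B * Nat.card P := fun B hB => by
    refine c2.trans (c3.le.trans (Nat.mul_le_mul_right _ ((Set.ncard_le_ncard
      (t := (fun g : G => g • δ) '' B) ?_).trans (Set.ncard_image_le (s := (B : Set G))))))
    rintro _ ⟨g, hg, rfl⟩; exact hB g hg
  have orbQ : ∀ g ∈ Y, ∃ c ∈ Qx D (Cen1 v) x, c • δ = g • δ := fun g hg =>
    sv.tr (h.Pt_smul' sv.pty hg.2) (sv.smul_ne (hx hg.1) hδ)
  have ex : 2 < Nat.card P → ∃ p ∈ P, p ≠ 1 ∧ p ≠ v := fun e => by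
    obtain ⟨a, m1, c, m2, m3, m4, m5⟩ := exists_two_ne e
    by_cases e1 : a = v
    · exact ⟨c, m2, m4, fun e2 => m5 (e1.trans e2.symm)⟩
    · exact ⟨a, m1, m3, e1⟩
  by_cases hq : Az D (Cen1 v) x = A
  · have e3 := h.Q_eq_of_A hv sv f.hw f.s (by rw [hq])
    rw [f.e3, ← hA, ← hq] at e3
    obtain ⟨v0, f'⟩ := exists_F3 hv sv e3
    have k1 : ∀ p ∈ P, p ≠ 1 → p ≠ v → Qx D (Cen1 v) x ⊓ Cen1 p = Az D (Cen1 v) x :=
      fun p hp => f'.cen_cases h (Psq p hp) (c1_iff.mp hp.1.2) (hx hp.1.1) hp.2 (hq ▸ hCA hp.1.1)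
    have k2 : ∀ p ∈ P, p ∈ Nor (Qx D (Cen1 v) x) := fun p hp => nor_Qx (h.nor_LL hp.1.2) (hx hp.1.1)
    have k3 : ∀ p ∈ P, p * p ∈ Cen (Qx D (Cen1 v) x) := fun p hp => by
      rw [Psq p hp]; exact one_mem _
    have o1 := orb _ orbQ
    rw [e3, hq, pow_succ] at o1
    obtain ⟨p, hp, p1, p2⟩ := ex (lt_of_lt_of_le (by omega)
      (Nat.le_of_mul_le_mul_left o1 (by positivity)))
    obtain ⟨B, hB, cB, -⟩ := sv.bd.inv_lemma e3 f'.na (k2 p hp) (k3 p hp) (k1 p hp p1 p2)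
    have o2 := orb B fun g hg => by
      obtain ⟨c, m5, m6⟩ := orbQ g hg
      refine ⟨c, (hB c).mpr ⟨m5, ?_⟩, m6⟩
      have a1 := hq.ge (cmY g hg.1 p hp.1.1)
      have a2 : (c⁻¹ * g) • δ = δ := by rw [mul_smul, ← m6, inv_smul_smul]
      have a3 : c⁻¹ * g ∈ Cen (Az D (Cen1 v) x) := mul_mem (inv_mem (sv.Q_cen m5)) (hq ▸ hCA hg.1)
      have a4 := cen_iff.mp a3 _ a1
      have a5 := sv.semi (mul_mem (inv_mem (Az_le _ x a1))
        (mul_mem (inv_mem m5) (conj_mem (k2 p hp) m5))) (z := δ) (by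
          rw [show (g⁻¹ * (p * g * p⁻¹))⁻¹ * (c⁻¹ * (p * c * p⁻¹)) =
            (c⁻¹ * g) * p * (c⁻¹ * g)⁻¹ * p⁻¹ by
              calc _ = (g⁻¹ * (p * g * p⁻¹))⁻¹ * ((c⁻¹ * g) * (g⁻¹ * (p * g * p⁻¹))) * p *
                    (c⁻¹ * g)⁻¹ * p⁻¹ := by group
                _ = _ := by rw [a4]; group]
          exact mul_mem (cmem (show _ ∈ St G δ from a2) hp.2) (inv_mem hp.2)) hδ
      rwa [← inv_mul_eq_one.mp a5]
    rw [cB, show Q0 (Qx D (Cen1 v) x) = A from hq] at o2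
    have o3 : 4 < Nat.card P := by
      have : Nat.card A ^ 2 * Nat.card A ^ 2 ≤ Nat.card A ^ 2 * Nat.card P := by rwa [← pow_add]
      have := Nat.le_of_mul_le_mul_left this (by positivity)
      nlinarith
    have n1 : p ∈ Nor (zpowers v) := nor_zp (c1_iff.mp hp.1.2)
    have n2 : p * p ∈ zpowers v := by rw [Psq p hp]; exact one_mem _
    obtain ⟨g, hg, g1⟩ := exists_not_mem (N := zpowers v ⊔ zpowers p) (U := P)
      (lt_of_le_of_lt (card_sup_zp_le n1 n2) (by rw [hi.card_zpowers]; exact o3))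
    have g2 := fun e => g1 ((mem_sup_zp n1 n2).mpr e)
    have pg := comm_of_sq Psq hp hg
    exact sv.bd.inv_two e3 f'.na (k2 p hp) (k3 p hp) (k1 p hp p1 p2) (k2 g hg)
      (show g ∈ Cen (Az D (Cen1 v) x) from hq ▸ hCA hg.1.1)
      (fun z _ => by rw [pg]) (Or.inl ⟨k3 g hg, k1 g hg (fun e => g2 (Or.inl (e ▸ one_mem _)))
        fun e => g2 (Or.inl (e ▸ mem_zpowers v)), k1 _ (mul_mem hp hg)
          (fun e => g2 (Or.inr (by rw [← pg, e]; exact one_mem _)))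
          fun e => g2 (Or.inr (by rw [← pg, e]; exact mem_zpowers v))⟩)
  · have lt1 : Nat.card A < Nat.card (Az D (Cen1 v) x) :=
      lt_of_not_ge fun e => hq (eq_of_le_card hAA e).symm
    have lt3 : Nat.card (Qx D (Cen1 v) x) < Nat.card A ^ 3 := lt_of_not_ge fun e =>
      lt1.ne (h.eq_of_le f.hw f.s hv sv lt1.le (f.e3.le.trans e)).1
    have o1 := orb _ orbQ
    obtain ⟨p, hp, p1, p2⟩ := ex (lt_of_not_ge fun e => by
      have : Nat.card (Qx D (Cen1 v) x) * Nat.card P ≤ Nat.card A ^ 3 * 2 := by gcongr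
      nlinarith [pow_succ (Nat.card A) 3, pow_pos (show 0 < Nat.card A by omega) 3])
    have k1 := (h.sq_A sv (nor_cen1 (c1_iff.mp hp.1.2)) (hx hp.1.1)
      (fun a _ => by rw [Psq p hp, one_mul, mul_one]) (m4 p hp)).resolve_right fun e =>
        lt2.not_ge (e.1 ▸ Nat.pow_le_pow_left (card_le_of_le
          (le_inf hAA (le_cen1_iff.mpr (hCA hp.1.1)))) 2)
    have k2 := fun a => h.four_lemma hv sv ⟨p1, Psq p hp⟩ p2.symm (c1_iff.mp hp.1.2).symm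
      (h.L_le (h.cen1_ne_top hi.1) sv (fun e => lt3.not_ge (e ▸ Nat.pow_le_pow_left lt1.le 3)) k1
        (c1_iff.mpr (m4 p hp).symm)) (a := a)
    have k3 : St G x ≤ Nor (Az D (Cen1 v) x) := fun g hg => H5.mem_normalizer_of_forall fun a ha => by
      rcases sv.mem_A.mp ha with rfl | e
      · simpa using one_mem _
      · refine k2 _ (h.conj a e.1.1 g) ?_
        have := conj_smul (g := g) e.1.2
        rwa [show g • x = x from hg] at this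
    have k4 : Az D (Cen1 v) x ⊓ Cen1 w = A := le_antisymm (fun a ha => by
      rcases sv.mem_A.mp ha.1 with rfl | e
      exacts [one_mem _, f.s.mem_A_of e.1.1 e.1.2 ha.2]) (le_inf hAA (Sr.A_le_M _ x))
    refine lt2.ne (((sq_lemma (A := Az D (Cen1 v) x) sv.bd.sq0 (k3 (h.fix_of_sr f.hw f.s).1)
      (fun a _ => by rw [f.hw.1.2, one_mul, mul_one]) (fun e => hq (by rw [← k4, inf_eq_left.mpr e]))
      fun a ha c hc' a1 c1 => ?_).1).trans (by rw [k4]))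
    obtain ⟨k, hk, e⟩ := b.K_tr (k4.le ha) (k4.le hc') a1 c1
    exact ⟨k, k3 (f.s.K_x hk), c1_iff.mp (f.s.K_M hk), e⟩

end F3

theorem Sc.not_three (h : Sc D Ω) {w : G} {x y : Ω} {t : G} (hw : Wv Ω w)
    (s : Sr D (Cen1 w) x y t) :
    Nat.card (Qx D (Cen1 w) x) ≠ Nat.card (Az D (Cen1 w) x) ^ 3 := fun e =>
  let ⟨_, f⟩ := exists_F3 hw s e
  f.false h

end SF
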