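import Cfsg.Agent.SF.H
import Cfsg.Agent.H9.Loc1

/-! The elements of `D` fixing a point commute. -/

set_option autoImplicit false
set_option linter.unusedSectionVars false

namespace SF

open Cfsg Subgroup FT H4 BS
open scoped commutatorElement

universe u

section Num

theorem num_one {m j r : ℕ} (h0 : 3 ≤ m) (h1 : j ≤ m + 1 + 1) (e : r * j = (m + 1 + 1) * m)
    (hd : m + 1 ∣ 1 + r) : j = 1 ∨ r = m := by
  obtain ⟨a, ha⟩ := hd
  have e1 : (m + 1) * (a * j) + 1 = (m + 1) * (m + 1) + j := by nlinarith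
  have e2 : j % (m + 1) = 1 := by
    have := congrArg (· % (m + 1)) e1
    simp only [Nat.mul_add_mod] at this
    rw [← this]; exact Nat.mod_eq_of_lt (by omega)
  have e3 := Nat.div_add_mod j (m + 1)
  rcases Nat.lt_or_ge (j / (m + 1)) 1 with c | c
  · left; rw [Nat.lt_one_iff.mp c] at e3; omega
  · right
    have : j = m + 1 + 1 := by nlinarith
    rw [this, mul_comm] at e
    exact Nat.eq_of_mul_eq_mul_left (by omega) e

theorem num_two {m j r : ℕ} (h0 : 3 ≤ m) (ho : Odd m) (h1 : j ≤ (m + 1) ^ 2 + 1)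
    (e : r * j = ((m + 1) ^ 2 + 1) * m) (hd : m + 1 ∣ 1 + r) : j = 1 ∨ r = m := by
  obtain ⟨a, ha⟩ := hd
  have e1 : (m + 1) * (a * j) + 1 = (m + 1) * ((m + 1) * m + 1) + j := by nlinarith
  have e2 : j % (m + 1) = 1 := by
    have := congrArg (· % (m + 1)) e1
    simp only [Nat.mul_add_mod] at this
    rw [← this]; exact Nat.mod_eq_of_lt (by omega)
  have e3 := Nat.div_add_mod j (m + 1)
  rw [e2] at e3
  generalize j / (m + 1) = b at e3
  subst e3
  rcases Nat.eq_zero_or_pos b with rfl | b0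
  · left; rfl
  right
  have e4 : a * ((m + 1) * b + 1) = (m + 1) * m + 1 + b :=
    Nat.eq_of_mul_eq_mul_left (show 0 < m + 1 by omega) (by nlinarith)
  have b1 : b ≤ m + 1 := by nlinarith
  have a0 : 0 < a := Nat.pos_of_ne_zero fun c => by rw [c] at ha; omega
  have a1 : a ≤ m + 1 := by nlinarith
  have e5 : ((m : ℤ) + 1) * (m - a * b) = a - b - 1 := by
    have : (a : ℤ) * ((m + 1) * b + 1) = (m + 1) * m + 1 + b := by exact_mod_cast e4
    linarith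
  have e6 : (m : ℤ) - a * b = 0 ∨ (m : ℤ) - a * b = -1 := by
    have : (m : ℤ) - a * b < 1 := by by_contra c; nlinarith
    have : -2 < (m : ℤ) - a * b := by by_contra c; nlinarith
    omega
  rcases e6 with c | c
  · rw [c] at e5
    obtain rfl : a = b + 1 := by omega
    obtain rfl : m = b * (b + 1) := by push_cast at c; nlinarith
    exact absurd (Nat.even_mul_succ_self b) (Nat.not_even_iff_odd.mpr ho)
  · rw [c] at e5
    obtain rfl : a = 1 := by omega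
    omega

end Num

section Gen
variable {G : Type*} [Group G] [Finite G]

theorem dvd_ncard_of_orb {Ω : Type*} [MulAction G Ω] [Finite Ω] {X : Subgroup G} {d : ℕ}
    {S : Set Ω} (h : ∀ g ∈ X, ∀ z ∈ S, g • z ∈ S)
    (hd : ∀ z ∈ S, d ∣ ((fun g : G => g • z) '' X).ncard) : d ∣ S.ncard := by
  induction hn : S.ncard using Nat.strong_induction_on generalizing S with
  | _ n ih =>
  rcases S.eq_empty_or_nonempty with rfl | ⟨z, hz⟩
  · rw [← hn]; simp
  have h1 : (fun g : G => g • z) '' X ⊆ S := by rintro _ ⟨g, hg, rfl⟩; exact h g hg z hz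
  have h2 := Set.ncard_sdiff_add_ncard_of_subset h1
  have h3 : 0 < ((fun g : G => g • z) '' X).ncard :=
    (Set.ncard_pos (Set.toFinite _)).mpr ⟨z, 1, X.one_mem, one_smul _ _⟩
  rw [← hn, ← h2]
  refine dvd_add (ih _ (by omega) (S := S \ (fun g : G => g • z) '' X)
    (fun g hg y hy => ⟨h g hg y hy.1, ?_⟩) (fun y hy => hd y hy.1) rfl) (hd z hz)
  rintro ⟨k, hk, e⟩
  exact hy.2 ⟨g⁻¹ * k, X.mul_mem (X.inv_mem hg) hk, by
    simp only at e ⊢; rw [mul_smul, e, inv_smul_smul]⟩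

/-- the elements normalizing `A` and the coset `w A` -/
def modS (A : Subgroup G) (w : G) : Subgroup G where
  carrier := {g | g ∈ Nor A ∧ w⁻¹ * (g * w * g⁻¹) ∈ A}
  one_mem' := ⟨one_mem _, by simpa using A.one_mem⟩
  mul_mem' := by
    rintro g k ⟨g1, g2⟩ ⟨k1, k2⟩
    exact ⟨mul_mem g1 k1, H5.mem_of_eq (mul_mem g2 (conj_mem g1 k2)) (by group)⟩
  inv_mem' := by
    rintro g ⟨g1, g2⟩
    exact ⟨inv_mem g1, H5.mem_of_eq (conj_mem (inv_mem g1) (inv_mem g2)) (by group)⟩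

theorem mem_modS {A : Subgroup G} {w g : G} :
    g ∈ modS A w ↔ g ∈ Nor A ∧ w⁻¹ * (g * w * g⁻¹) ∈ A := Iff.rfl

theorem mem_modS_of {A : Subgroup G} {w g : G} (h1 : g ∈ Nor A) (h2 : g * w = w * g) :
    g ∈ modS A w := ⟨h1, by rw [h2]; simpa using A.one_mem⟩

theorem conj_eq_iff {v g g' : G} :
    v⁻¹ * (g * v * g⁻¹) = v⁻¹ * (g' * v * g'⁻¹) ↔ g⁻¹ * g' ∈ Cen1 v := by
  rw [mul_right_inj, c1_iff]
  constructor
  · intro e
    calc _ = g⁻¹ * (g' * v * g'⁻¹) * g' := by group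
      _ = _ := by rw [← e]; group
  · intro e
    calc _ = g * (v * (g⁻¹ * g')) * g'⁻¹ := by group
      _ = _ := by rw [← e]; group

theorem card_modS {A Y : Subgroup G} {w : G} (hY : Y ≤ modS A w)
    (hs : ∀ a ∈ A, ∃ g ∈ Y, g * w * g⁻¹ = w * a) :
    Nat.card Y = Nat.card A * Nat.card ↥(Y ⊓ Cen1 w) := by
  rw [card_eq_ncard_mul Y (Cen1 w) (fun g => w⁻¹ * (g * w * g⁻¹)) fun g _ g' _ => conj_eq_iff,
    show (fun g => w⁻¹ * (g * w * g⁻¹)) '' Y = A from Set.ext fun a => ⟨by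
      rintro ⟨g, hg, rfl⟩; exact (hY hg).2, fun ha => by
        obtain ⟨g, hg, e⟩ := hs a ha
        exact ⟨g, hg, by simp only [e, inv_mul_cancel_left]⟩⟩]
  rfl

theorem exists_inverted_in {H : Subgroup G} {a : G} (ha : a ∈ H) (h2 : a * a = 1)
    (h : a ∉ pCoreIn 2 H) : ∃ u ∈ H, (orderOf u).Prime ∧ Odd (orderOf u) ∧ a * u * a⁻¹ = u⁻¹ := by
  obtain ⟨u, h3, h4, h5⟩ := H9.exists_inverted_of_not_mem_pCore (a := (⟨a, ha⟩ : H))
    (Subtype.ext h2) fun e => h ⟨_, e, rfl⟩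
  rw [← orderOf_coe] at h3 h4
  exact ⟨u, u.2, h3, h4, congrArg Subtype.val h5⟩

theorem exists_central {T : Subgroup G} (hT : IsPGroup 2 T) (h0 : T ≠ ⊥) :
    ∃ z ∈ T, z * z = 1 ∧ z ≠ 1 ∧ T ≤ Cen1 z := by
  obtain ⟨z, hz, h1, h2, hc⟩ := H7.exists_fixed_order_p hT hT le_normalizer h0
  exact ⟨z, hz, by rw [← sq, h2], h1, fun x hx => c1_iff.mpr (hc x (mem_sup_left hx))⟩

theorem card_eq_relIndex {P Y : Subgroup G} (h : P ≤ Y) :
    Nat.card Y = P.relIndex Y * Nat.card P := by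
  rw [relIndex, ← Nat.card_congr (subgroupOfEquivOfLe h).toEquiv, index_mul_card]

/-- the 2-part of the order of `Y` divides a bound for the 2-subgroups -/
theorem two_part {Y R : Subgroup G} (hR : IsPGroup 2 R)
    (h : ∀ P : Subgroup G, IsPGroup 2 P → P ≤ Y → Nat.card P ≤ Nat.card R) {d o k : ℕ}
    (hd : d = 2 ^ k) (e : d * Nat.card R ∣ o * Nat.card Y) : d ∣ o := by
  obtain ⟨P, hP⟩ := H5.exists_isSylowOf 2 Y
  have h1 := pow_dvd_of_lt hR (IsPGroup.iff_card.mp hP.isPGroup) (h P hP.isPGroup hP.le)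
  have h2 := card_eq_relIndex hP.le
  have h3 := (Nat.mul_dvd_mul_left d h1).trans e
  rw [h2, ← mul_assoc] at h3
  refine Nat.Coprime.dvd_of_dvd_mul_right ?_ (Nat.dvd_of_mul_dvd_mul_right Nat.card_pos h3)
  rw [hd]
  exact ((Nat.Prime.coprime_iff_not_dvd Nat.prime_two).mpr hP.not_dvd).pow_left k

end Gen

variable {G : Type u} [Group G] [Finite G] {Ω : Type*} [MulAction G Ω] [Finite Ω] {D : Set G}

theorem ncard_compl (x : Ω) : ({x}ᶜ : Set Ω).ncard + 1 = Nat.card Ω := by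
  rw [← Set.ncard_add_ncard_compl {x}, Set.ncard_singleton, add_comm]

theorem smul_mem_compl {x : Ω} : ∀ g ∈ St G x, ∀ z ∈ ({x}ᶜ : Set Ω), g • z ∈ ({x}ᶜ : Set Ω) :=
  fun g hg z hz e => hz (MulAction.injective g (e.trans (show g • x = x from hg).symm))

namespace Sc
variable (h : Sc D Ω) {w : G} {x y : Ω} {t : G}
include h

theorem nor_A (hw : Wv Ω w) (s : Sr D (Cen1 w) x y t) {g a : G} (hx : g • x = x)
    (ha : a ∈ Az D (Cen1 w) x) (e : g * w * g⁻¹ = w * a) : g ∈ Nor (Az D (Cen1 w) x) := by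
  obtain ⟨m1, m2⟩ := h.W_mul' hw s ha
  obtain ⟨y', t', -, s'⟩ := h.sr_W' m1 m2
  refine H5.mem_normalizer_of_forall fun b hb => ?_
  rcases s.mem_A.mp hb with rfl | e1
  · simpa using one_mem _
  rw [← h.A_mul hw s ha s']
  refine s'.mem_A_of (h.conj b e1.1.1 g) (by simpa only [hx] using conj_smul (g := g) e1.1.2) ?_
  rw [← e, ← conjS_cen1]
  exact conj_mem_conjS e1.2

theorem conj_wa (hw : Wv Ω w) (s : Sr D (Cen1 w) x y t) {a : G} (ha : a ∈ Az D (Cen1 w) x) :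
    ∃ g ∈ St G x ⊓ modS (Az D (Cen1 w) x) w, g * w * g⁻¹ = w * a := by
  by_cases h1 : a = 1
  · exact ⟨1, one_mem _, by simp [h1]⟩
  obtain ⟨g, m1, m2⟩ := h.conj_vu' hw (s.A_D ha h1) (Sr.A_le_M _ x ha) (Sr.A_le_St _ x ha)
  exact ⟨g, ⟨m1, h.nor_A hw s m1 ha m2, by rwa [m2, inv_mul_cancel_left]⟩, m2⟩

theorem card_X (hw : Wv Ω w) (s : Sr D (Cen1 w) x y t) :
    Nat.card ↥(St G x ⊓ modS (Az D (Cen1 w) x) w) =
      Nat.card (Az D (Cen1 w) x) * Nat.card ↥(St G x ⊓ Cen1 w) := by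
  rw [card_modS inf_le_right fun a ha => h.conj_wa hw s ha]
  congr 2
  exact congrArg _ (le_antisymm (inf_le_inf_right _ inf_le_left) fun g hg =>
    ⟨⟨hg.1, mem_modS_of (nor_Q0 (nor_Qx (h.nor_LL hg.2) hg.1)) (c1_iff.mp hg.2)⟩, hg.2⟩)

theorem card_cen (hw : Wv Ω w) (s : Sr D (Cen1 w) x y t) :
    Nat.card ↥(St G x ⊓ Cen1 w) =
      Nat.card (Qx D (Cen1 w) x) * Nat.card ↥(St G x ⊓ St G y ⊓ Cen1 w) := by
  have e := card_of_trans (Y := St G x ⊓ Cen1 w) (x := y) (S := Pt D Ω (Cen1 w) \ {x})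
    (fun g hg => ⟨h.Pt_smul' s.pty hg.2, s.smul_ne hg.1 s.ne.symm⟩) fun z hz =>
      let ⟨c, h1, h2⟩ := s.tr hz.1 hz.2
      ⟨c, ⟨Qx_le_St _ x h1, Qx_le_M _ x h1⟩, h2⟩
  have e1 := Set.ncard_sdiff_singleton_add_one s.lr.pt
  rw [s.card_Pt] at e1
  rw [e, Nat.add_right_cancel e1, inf_right_comm]

/-- if the degree is a power of 2 plus one -/
theorem fam_of_pow (x : Ω) {k : ℕ} (e : Nat.card Ω = 2 ^ k + 1) : Fam D Ω := by
  have h1 : ∀ a ∈ D, a • x = x → a ∈ pCoreIn 2 (St G x) := fun a ha hx => by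
    by_contra hc
    obtain ⟨u, m1, m2, m3, m4⟩ := exists_inverted_in hx (h.sq ha) hc
    have := Fact.mk m2
    obtain ⟨z, hz, m5⟩ := exists_fix_elt (p := orderOf u) (g := u) (k := 1) (S := {x}ᶜ)
      (by rw [pow_one, pow_orderOf_eq_one]) (smul_mem_compl u m1) fun hd => by
        rw [Nat.add_right_cancel ((ncard_compl x).trans e)] at hd
        rw [(Nat.prime_dvd_prime_iff_eq m2 Nat.prime_two).mp (m2.dvd_of_dvd_pow hd)] at m3
        exact absurd m3 (by decide)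
    have m6 := c1_iff.mp (h.star a ha x z hx hz ⟨m1, m5, show u • a • z = a • z by
      have := conj_smul (g := a) (show u⁻¹ • z = z from inv_mem (show u ∈ St G z from m5))
      rwa [← m4, h.inv_eq ha, show a * (a * u * a) * a = (a * a) * u * (a * a) by group, h.sq ha,
        one_mul, mul_one] at this⟩)
    rw [← m6, mul_inv_cancel_right] at m4
    refine m2.one_lt.ne' (orderOf_eq_one_iff.mpr (mem_bot.mp (mem_of_sq_mem m3 ?_)))
    nth_rewrite 1 [m4]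
    exact inv_mul_cancel u
  obtain ⟨u, hu, m⟩ := exists_cen_pgroup (isPGroup_pCoreIn 2 (St G x)) (S := Dx D ⊤ x)
    (fun g hg a ha => ⟨⟨h.conj a ha.1.1 g, by
      simpa only [show g • x = x from pCoreIn_le _ _ hg] using conj_smul (g := g) ha.1.2⟩, trivial⟩)
    (h.odd_m x).not_two_dvd_nat
  exact h.fam_of_cen hu.1.1 hu.1.2 fun a ha hx => m a (h1 a ha hx)

theorem fam_of_one (s : Sr D (Cen1 w) x y t)
    (e : (Dx D ⊤ x).ncard + 1 ≤ Nat.card (Az D (Cen1 w) x)) : Fam D Ω := by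
  have e1 : Dx D (Cen1 w) x = Dx D ⊤ x := Set.eq_of_subset_of_ncard_le
    (fun a ha => ⟨ha.1, trivial⟩) (by have := s.card_A; omega)
  have k : ∀ a ∈ D, a • x = x → a ∈ Az D (Cen1 w) x := fun a ha hx =>
    s.mem_A.mpr (Or.inr (e1 ▸ ⟨⟨ha, hx⟩, trivial⟩))
  obtain ⟨u, hu, -, hx⟩ := s.lr.pt
  exact h.fam_of_cen hu hx fun a ha hx' => s.A_comm (k a ha hx') (k u hu hx)

theorem fam {w0 : G} (h0 : Wv Ω w0) : Fam D Ω := by
  obtain ⟨R, ⟨hR, x, y, hne, hxy⟩, hmax⟩ := Set.exists_max_image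
    {R : Subgroup G | IsPGroup 2 R ∧ ∃ x y : Ω, x ≠ y ∧ R ≤ St G x ⊓ St G y} (fun R => Nat.card R)
    (Set.toFinite _) ⟨⊥, IsPGroup.of_bot, let ⟨x, y, e, _⟩ := h0.2; ⟨x, y, e, bot_le⟩⟩
  obtain ⟨w, m1, m2, m3, m4⟩ := exists_central hR fun e => by
    obtain ⟨x, y, e1, e2⟩ := h0.2
    have := hmax _ ⟨pgroup_zp h0.1.2, x, y, e1, zpowers_le.mpr e2⟩
    rw [e, h0.1.card_zpowers, card_bot] at this
    omega
  have hw : Wv Ω w := ⟨⟨m3, m2⟩, x, y, hne, hxy m1⟩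
  obtain ⟨t, s⟩ := h.sr_W hw (hxy m1).1 (hxy m1).2 hne
  obtain ⟨m, j, r, c1, c2, c3, c4, c5, -⟩ := h.count hw s
  obtain ⟨a, ha⟩ := IsPGroup.iff_card.mp ((Qx_two (D := D) (Cen1 w) x).to_le (Az_le _ x))
  obtain ⟨b, hb⟩ := IsPGroup.iff_card.mp (Qx_two (D := D) (Cen1 w) x)
  have d1 : Nat.card (Az D (Cen1 w) x) * Nat.card (Qx D (Cen1 w) x) ∣ ({x}ᶜ : Set Ω).ncard := by
    refine dvd_ncard_of_orb (X := St G x) smul_mem_compl fun z hz => two_part (Y := St G x ⊓ St G z) hR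
      (fun P hP e => hmax P ⟨hP, x, z, Ne.symm hz, e⟩) (k := a + b) (by rw [ha, hb, pow_add]) ?_
    rw [← card_orb]
    refine Dvd.dvd.trans ?_ (card_dvd_of_le (H := St G x ⊓ modS (Az D (Cen1 w) x) w) inf_le_left)
    rw [h.card_X hw s, h.card_cen hw s, mul_assoc]
    exact Nat.mul_dvd_mul_left _ (Nat.mul_dvd_mul_left _ (card_dvd_of_le (le_inf hxy m4)))
  rw [Nat.add_right_cancel ((ncard_compl x).trans c5), mul_comm, c1] at d1
  have d2 := Nat.dvd_of_mul_dvd_mul_left Nat.card_pos d1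
  have q4 : 3 ≤ m := by have := s.bd.four_le.trans c1.le; omega
  have key : j = 1 ∨ r = m := by
    rcases s.cases with e | e | e
    · rw [e, c1] at c3 c4; exact num_one q4 c3 c4 d2
    · rw [e, c1] at c3 c4
      exact num_two q4 (Nat.Odd.of_mul_left (c2 ▸ h.odd_m x)) c3 c4 d2
    · exact absurd e (h.not_three hw s)
  rcases key with rfl | rfl
  · exact h.fam_of_one s (by omega)
  · exact h.fam_of_pow x (k := b + a) (by rw [c5, add_comm 1, ← c1, ha, hb, pow_add])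

end Sc

end SF
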