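import Cfsg.Agent.SF.I

/-! An involution fixing two points centralizes `A_x`. -/

set_option autoImplicit false
set_option linter.unusedSectionVars false

namespace SF

open Cfsg Subgroup FT H4 BS
open scoped commutatorElement

universe u

section Gen
variable {G : Type*} [Group G] [Finite G]

theorem comm_le_sup {A E H : Subgroup G} (hn : E ≤ Nor A)
    (hm : ∀ g ∈ H, ∃ a ∈ A, ∃ e ∈ E, g = a * e) : ⁅H, H⁆ ≤ A ⊔ ⁅E, E⁆ := by
  refine commutator_le.mpr fun g hg g' hg' => ?_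
  obtain ⟨a, ha, e, he, rfl⟩ := hm g hg
  obtain ⟨a', ha', e', he', rfl⟩ := hm g' hg'
  have m1 := mul_mem (mul_mem he he') (inv_mem he)
  refine H5.mem_of_eq (mul_mem (mem_sup_left (mul_mem (mul_mem (mul_mem ha (conj_mem (hn he) ha'))
    (conj_mem (hn m1) (inv_mem ha))) (conj_mem (hn (mul_mem m1 (inv_mem he'))) (inv_mem ha'))))
    (mem_sup_right (commutator_mem_commutator he he'))) ?_
  simp only [commutatorElement_def]; group

/-- the centralizer of an abelian group transitive on `A^#` -/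
theorem cen_le_of_tr {A F : Subgroup G} (hF : Ab F)
    (tr : ∀ a ∈ A, ∀ b ∈ A, a ≠ 1 → b ≠ 1 → ∃ k ∈ F, k * a * k⁻¹ = b) {g : G} (hn : g ∈ Nor A)
    (hg : g ∈ Cen F) : ∃ k ∈ F, k⁻¹ * g ∈ Cen A := by
  rcases A.bot_or_exists_ne_one with rfl | ⟨a, ha, a1⟩
  · exact ⟨1, one_mem _, cen_iff.mpr fun b hb => by rw [mem_bot.mp hb, one_mul, mul_one]⟩
  obtain ⟨k, hk, e⟩ := tr a ha _ (conj_mem hn ha) a1 fun e => a1 (by simpa using e)
  refine ⟨k, hk, cen_iff.mpr fun b hb => ?_⟩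
  by_cases b1 : b = 1
  · rw [b1, one_mul, mul_one]
  obtain ⟨l, hl, rfl⟩ := tr a ha b hb a1 b1
  have e1 : l ∈ Cen1 (k⁻¹ * g) := c1_iff.mpr (by
    rw [← mul_assoc, hF l hl _ (inv_mem hk), mul_assoc, ← cen_iff.mp hg l hl, mul_assoc])
  have e2 : a ∈ Cen1 (k⁻¹ * g) := c1_iff.mpr (by
    calc a * (k⁻¹ * g) = k⁻¹ * (k * a * k⁻¹) * g := by group
      _ = _ := by rw [e]; group)
  exact (c1_iff.mp (cmem e1 e2)).symm

end Gen

variable {G : Type u} [Group G] [Finite G] {Ω : Type*} [MulAction G Ω] [Finite Ω] {D : Set G}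

theorem Fam.card_Ax (f : Fam D Ω) (x : Ω) : (Dx D ⊤ x).ncard + 1 = Nat.card (Ax D x) := by
  have := f.ncard_D x ⊤
  rwa [inf_top_eq] at this

theorem Fam.Az_eq (f : Fam D Ω) {M : Subgroup G} {x y : Ω} {t : G} (s : Sr D M x y t) :
    Az D M x = Ax D x ⊓ M := by
  ext a
  rw [s.mem_A, mem_inf, f.mem_Ax]
  exact ⟨fun e => e.elim (fun e => ⟨Or.inl e, e ▸ one_mem _⟩) fun e => ⟨Or.inr e.1, e.2⟩,
    fun e => e.1.imp id fun e1 => ⟨e1, e.2⟩⟩

theorem Fam.ab (f : Fam D Ω) (x : Ω) : Ab (Ax D x) := fun _ ha _ hb => f.Ax_comm ha hb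

theorem Fam.exists_K' (f : Fam D Ω) {M : Subgroup G} {t : G} {x y : Ω} (ht : t ∈ D)
    (hxy : t • x = y) (htM : t ∈ M) (hne : x ≠ y) {a b : G} (ha : a ∈ Ax D x ⊓ M)
    (hb : b ∈ Ax D x ⊓ M) (a1 : a ≠ 1) (b1 : b ≠ 1) :
    ∃ k ∈ M, k ∈ KK D t x ∧ k * a * k⁻¹ = b :=
  f.exists_K ht hxy htM hne ha.2 (f.mem_D ha.1 a1) (Ax_le x ha.1) hb.2 (f.mem_D hb.1 b1)
    (Ax_le x hb.1)

namespace Sc
variable (h : Sc D Ω) (f : Fam D Ω) {w : G} {x y : Ω} {t : G}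
include h f

theorem not_regular (hw : Wv Ω w) (s : Sr D (Cen1 w) x y t)
    (hc : Nat.card Ω = Nat.card (Ax D x) + 1) : False := by
  have reg : ∀ z, z ≠ x → ∃ a ∈ Ax D x, a • y = z := fun z hz => by
    have e1 := card_orb (Ax D x) y
    rw [show Ax D x ⊓ St G y = ⊥ from eq_bot_iff.mpr fun a ha => f.eq_one ha.1 ha.2 s.ne, card_bot,
      mul_one, ← Nat.add_right_cancel ((ncard_compl x).trans hc)] at e1
    have e2 : (fun g : G => g • y) '' (Ax D x) = {x}ᶜ := Set.eq_of_subset_of_ncard_le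
      (by rintro _ ⟨a, ha, rfl⟩; exact s.smul_ne (Ax_le x ha) s.ne.symm) e1.le
    exact e2.ge hz
  set E := ⊤ ⊓ (St G x ⊓ St G y) with hE
  have cE : ∀ g ∈ E, g ∈ Cen (Ax D x) → g = 1 := fun g hg hc => h.faith g fun z => by
    by_cases hz : z = x
    · rw [hz]; exact hg.2.1
    obtain ⟨a, ha, rfl⟩ := reg z hz
    rw [← mul_smul, cen_iff.mp hc a ha, mul_smul, show g • y = y from hg.2.2]
  have hO : Od E ≤ E := piCoreOf_le _ _
  have nE : E ≤ Nor (Ax D x) := fun g hg => h.St_le_nor x hg.2.1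
  have tE : t ∈ Nor E := by rw [hE, top_inf_eq]; exact mem_nor_two s.txy s.tyx
  obtain ⟨a0, ha0, a1⟩ := s.exists_A
  rw [f.Az_eq s] at ha0
  have k0 : Ax D x ≠ ⊥ := fun e => a1 (mem_bot.mp (e ▸ ha0.1))
  have k1 := H5.coprime_card_of_isPGroup (f.Ax_two x) (odd_Od E).not_two_dvd_nat
  have k2 : Od E ⊓ Cen (Ax D x) = ⊥ := eq_bot_iff.mpr fun g hg => cE g (hO hg.1) hg.2
  have k3 := fun a ha b hb => f.exists_K' (M := ⊤) s.tD s.txy trivial s.ne (a := a) (b := b)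
    ⟨ha, trivial⟩ ⟨hb, trivial⟩
  have k4 := fun k hk => h.K_mem_Od (M := ⊤) trivial s.tD s.txy s.ne (k := k) hk trivial
  have k5 : ∀ a ∈ Ax D x, ∀ b ∈ Ax D x, a ≠ 1 → b ≠ 1 → ∃ d ∈ Od E, d * a * d⁻¹ = b :=
    fun a ha b hb a1 b1 => let ⟨k, _, m1, m2⟩ := k3 a ha b hb a1 b1; ⟨k, k4 k m1, m2⟩
  obtain ⟨-, cyc⟩ := appI_fitting (ab_iff.mp (f.ab x)) k0 (odd_Od E) (hO.trans nE) k1.symm k2 k5
  have k6 : ∀ k ∈ KK D t x, k ∈ fittingIn (Od E) := fun k hk =>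
    appI_inverted (ab_iff.mp (f.ab x)) k0 (odd_Od E) (hO.trans nE) k1.symm k2 k5
      (nor_le_nor_piCoreOf _ _ tE) (h.sq s.tD) (fun d hd e => by
        obtain ⟨z, hz⟩ := h.ex s.tD
        obtain ⟨a, ha, rfl⟩ := reg z fun e => s.ne (by rw [← s.txy, ← e, hz])
        refine ⟨a, ha, fun e1 => s.ne (by rw [← s.tyx, ← one_smul G y, ← e1, hz, e1, one_smul]), ?_⟩
        have e1 := h.cen_fix s.tD hz e
        have e2 := f.eq_one (mul_mem (inv_mem ha) (conj_mem (nE (hO hd)) ha)) (y := y) (by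
          rw [mul_smul, mul_smul, mul_smul, show d⁻¹ • y = y from (St G y).inv_mem (hO hd).2.2, e1,
            inv_smul_smul]) s.ne
        rw [inv_mul_eq_one, eq_mul_inv_iff_mul_eq] at e2
        exact e2) (k4 k hk) (h.K_inv s.tD hk)
  set F := fittingIn (Od E)
  have nF : E ≤ Nor F := (le_nor_piCoreOf _ _).trans (normalizer_le_normalizer_fittingIn _)
  have FO : F ≤ Od E := fittingIn_le _
  have k7 : ⁅E, E⁆ ≤ F := fun g hg => by
    have gE := H5.commutator_le_left_of_le_normalizer le_normalizer hg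
    obtain ⟨k, hk, e⟩ := cen_le_of_tr (A := Ax D x) (ab_iff.mpr (FT.comm_of_cyclic cyc))
      (fun a ha b hb a1 b1 => let ⟨k, _, m1, m2⟩ := k3 a ha b hb a1 b1; ⟨k, k6 k m1, m2⟩)
      (nE gE) (der1_cent_cyclic cyc nF hg)
    rwa [← inv_mul_eq_one.mp (cE _ (mul_mem (inv_mem (hO (FO hk))) gE) e)]
  have k8 := comm_le_sup (H := St G x) nE fun g hg => by
    obtain ⟨a, ha, e⟩ := reg _ (s.smul_ne hg s.ne.symm)
    exact ⟨a, ha, a⁻¹ * g, ⟨trivial, (St G x).mul_mem (inv_mem (Ax_le x ha)) hg, show _ • y = y by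
      rw [mul_smul, ← e, inv_smul_smul]⟩, by group⟩
  have k9 := mem_of_sup_odd (odd_of_le (odd_Od E) FO) (FO.trans (hO.trans nE))
    ((k8.trans (sup_le_sup_left k7 _)) (h.mem_comm hw.1.2 (h.fix_of_sr hw s).1)) (k := 1)
    (by rw [pow_one, sq, hw.1.2]; exact one_mem _)
  exact h.not_mem_W hw (f.mem_D k9 hw.1.1)

/-- type I -/
theorem A_le_cen (hw : Wv Ω w) (hx : w • x = x) : Ax D x ≤ Cen1 w := by
  by_contra h0
  obtain ⟨y, t, -, s⟩ := h.sr_W' hw hx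
  have e := (sq_lemma f.Ax_sq (h.St_le_nor x hx) (fun a _ => by rw [hw.1.2, one_mul, mul_one]) h0
    fun a ha b hb a1 b1 =>
      let ⟨k, m1, m2, m3⟩ := f.exists_K' s.tD s.txy s.tM s.ne ha hb a1 b1
      ⟨k, h.St_le_nor x m2.1, c1_iff.mp m1, m3⟩).1
  obtain ⟨m, j, r, c1, c2, -, c4, c5, -⟩ := h.count hw s
  have q4 : 3 ≤ m := by have := s.bd.four_le.trans c1.le; omega
  rw [← f.Az_eq s, c1] at e
  obtain rfl : j = m + 2 := by
    have := f.card_Ax x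
    rw [e, c2] at this
    exact Nat.eq_of_mul_eq_mul_left (show 0 < m by omega) (by nlinarith)
  rcases s.cases with e1 | e1 | e1
  · rw [e1, c1, mul_comm] at c4
    rw [e1, c1, Nat.eq_of_mul_eq_mul_left (by omega) c4] at c5
    exact h.not_regular f hw s (by rw [c5, e]; ring)
  · rw [e1, c1] at c4
    have : m + 2 ∣ 4 := (Nat.dvd_add_right (Dvd.intro_left r rfl)).mp
      ⟨m * m + 2, by rw [c4]; ring⟩
    have := Nat.le_of_dvd (by decide) this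
    omega
  · exact h.not_three hw s e1

end Sc

end SF
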