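import Cfsg.Agent.SF.J

/-! The geometry of lines. -/

set_option autoImplicit false
set_option linter.unusedSectionVars false

namespace SF

open Cfsg Subgroup FT H4 BS
open scoped commutatorElement

universe u

variable {G : Type u} [Group G] [Finite G] {Ω : Type*} [MulAction G Ω] [Finite Ω] {D : Set G}

abbrev Lw (D : Set G) (w : G) : Subgroup G := LL D (Cen1 w)

noncomputable abbrev Qw (D : Set G) (w : G) (x : Ω) : Subgroup G := Qx D (Cen1 w) x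

abbrev Kw (D : Set G) (w : G) (x y : Ω) (t : G) : Subgroup G := Kg (Ez D (Cen1 w) x y) t

/-- `C(A_x)` -/
abbrev Cz (D : Set G) (x : Ω) : Subgroup G := Cen (Ax D x)

theorem conj_fix {g c : G} {z : Ω} (h : c • g⁻¹ • z = g⁻¹ • z) : (g * c * g⁻¹) • z = z := by
  simpa using conj_smul (g := g) h

theorem inv_fix {g : G} {z : Ω} (h : g • z = z) : g⁻¹ • z = z := inv_smul_eq_iff.mpr h.symm

theorem comm_fix {g c : G} {z : Ω} (e : g * c = c * g) (h : c • z = z) : c • g • z = g • z := by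
  rw [← mul_smul, ← e, mul_smul, h]

theorem PD.nor_C0 (h : PD D Ω) (x : Ω) : St G x ≤ Nor (Cz D x) := fun _ hg =>
  mem_nor_cen (h.St_le_nor x hg)

theorem Mc.C0_le (h : Mc D Ω) (x : Ω) : Cz D x ≤ St G x := fun g hg =>
  let ⟨a, ha, _, hx⟩ := h.all x
  h.cen_fix ha hx (cen_iff.mp hg a (mem_Ax_of ha hx))

/-- the standing configuration -/
structure Ty (D : Set G) (w : G) (x y : Ω) (t : G) : Prop where
  h : Sc D Ω
  hw : Wv Ω w
  s : Sr D (Cen1 w) x y t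

theorem Sc.ty (h : Sc D Ω) {w : G} (hw : Wv Ω w) {x y : Ω} (hx : w • x = x) (hy : w • y = y)
    (hne : x ≠ y) : ∃ t, Ty D w x y t :=
  let ⟨t, s⟩ := h.sr_W hw hx hy hne
  ⟨t, h, hw, s⟩

theorem Sc.ty' (h : Sc D Ω) {w : G} (hw : Wv Ω w) {x : Ω} (hx : w • x = x) :
    ∃ y t, Ty D w x y t :=
  let ⟨y, t, _, s⟩ := h.sr_W' hw hx
  ⟨y, t, h, hw, s⟩

namespace Ty
variable {w : G} {x y : Ω} {t : G} (T : Ty D w x y t)
include T

theorem f : Fam D Ω := T.h.fam T.hw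

theorem wx : w • x = x := (T.h.fix_of_sr T.hw T.s).1

theorem wy : w • y = y := (T.h.fix_of_sr T.hw T.s).2

theorem w2 : w * w = 1 := T.hw.1.2

theorem W_cen {v : G} (hv : Wv Ω v) {z : Ω} (hz : v • z = z) : v ∈ Cz D z :=
  le_cen1_iff.mp (T.h.A_le_cen T.f hv hz)

theorem wC : w ∈ Cz D x := T.W_cen T.hw T.wx

theorem inv_C {v : G} (hv : v * v = 1) (hx : v • x = x) : v ∈ Cz D x := by
  by_cases h1 : v = 1
  · rw [h1]; exact one_mem _
  by_cases hD : v ∈ D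
  · exact cen_iff.mpr fun a ha => T.f.Ax_comm (mem_Ax_of hD hx) ha
  · exact T.W_cen (T.h.W_of_not ⟨h1, hv⟩ hD) hx

theorem A_cen : Ax D x ≤ Cen1 w := le_cen1_iff.mpr T.wC

theorem A_eq : Az D (Cen1 w) x = Ax D x := by rw [T.f.Az_eq T.s, inf_eq_left.mpr T.A_cen]

theorem A_eq' : Q0 (Qw D w x) = Ax D x := T.A_eq

theorem A_le_Q : Ax D x ≤ Qw D w x := T.A_eq ▸ Az_le _ x

theorem A_le_C0 : Ax D x ≤ Cz D x := fun _ ha => cen_iff.mpr fun _ hb => T.f.Ax_comm ha hb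

theorem Q_le_C0 : Qw D w x ≤ Cz D x := by rw [Cz, ← T.A_eq]; exact T.s.Q_cen

theorem w_not_A : w ∉ Ax D x := fun e => T.h.not_mem_W T.hw (T.f.mem_D e T.hw.1.1)

theorem q4 : 4 ≤ Nat.card (Ax D x) := T.A_eq ▸ T.s.bd.four_le

theorem exists_A : ∃ a ∈ Ax D x, a ≠ 1 := T.A_eq ▸ T.s.exists_A

theorem pt {z : Ω} : z ∈ Pt D Ω (Cen1 w) ↔ w • z = z := T.h.pt_cen1 T.w2

theorem not3 : Nat.card (Qw D w x) ≠ Nat.card (Az D (Cen1 w) x) ^ 3 := T.h.not_three T.hw T.s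

theorem cases : Qw D w x = Ax D x ∨ (Nat.card (Qw D w x) = Nat.card (Ax D x) ^ 2 ∧
    ¬ Ab (Qw D w x) ∧ ∃ m, Nat.card (Ax D x) = 2 ^ (2 * m + 1)) := by
  obtain ⟨a, ha⟩ := T.s.bd.toA1.exists_dist
  rcases T.s.bd.tri ha with e | ⟨e1, e2, -, m, -, e3⟩ | e
  · exact Or.inl (e.1.symm.trans T.A_eq)
  · exact Or.inr (T.A_eq' ▸ ⟨e1, e2, m, e3⟩)
  · exact (T.not3 e.1).elim

theorem L_le {Y : Subgroup G} (hA : Ax D x ≤ Y) (ht : t ∈ Y) : Lw D w ≤ Y :=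
  T.h.L_le (T.h.cen1_ne_top T.hw.1.1) T.s T.not3 (T.A_eq ▸ hA) ht

theorem A_le_L {z : Ω} (hz : w • z = z) : Ax D z ≤ Lw D w := fun a ha => by
  rcases T.f.mem_Ax.mp ha with rfl | e
  exacts [one_mem _, mem_LL e.1 (T.h.A_le_cen T.f T.hw hz ha)]

theorem L_eq : Lw D w = Ax D x ⊔ Ax D y := by
  refine le_antisymm ?_ (sup_le (T.A_le_L T.wx) (T.A_le_L T.wy))
  obtain ⟨a, ha, -, hx⟩ := T.h.all x
  obtain ⟨b, hb, -, hy⟩ := T.h.all y
  obtain ⟨u, m1, m2, m3, -⟩ := T.h.exists_swap (M := Ax D x ⊔ Ax D y)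
    (mem_sup_left (mem_Ax_of ha hx)) (mem_sup_right (mem_Ax_of hb hy)) ha hb hx hy T.s.ne
  exact Ty.L_le ⟨T.h, T.hw, T.h.sr (T.h.cen1_ne_top T.hw.1.1) T.s.lr m2
    (LL_le _ (sup_le (T.A_le_L T.wx) (T.A_le_L T.wy) m1)) m3 T.s.ne⟩ le_sup_left m1

theorem nor_L {g : G} (hx : g • x = x) (hy : g • y = y) : g ∈ Nor (Lw D w) := by
  rw [T.L_eq]; exact mem_nor_sup (T.h.St_le_nor x hx) (T.h.St_le_nor y hy)

theorem nor_Q {g : G} (hx : g • x = x) (hy : g • y = y) : g ∈ Nor (Qw D w x) :=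
  nor_Qx (T.nor_L hx hy) hx

theorem nor_K {g : G} (hx : g • x = x) (hy : g • y = y) : g ∈ Nor (Kw D w x y t) :=
  T.s.nor_K (T.nor_L hx hy) hx hy

theorem C_t {c : G} (hc : c ∈ Cz D x) (hy : c • y = y) : c * t = t * c :=
  T.s.cen_t (T.nor_L (T.h.C0_le x hc) hy) (T.h.C0_le x hc) hy (T.A_eq ▸ hc)

theorem C_cen {c : G} (hc : c ∈ Cz D x) (hy : c • y = y) : c ∈ Cen (Lw D w) :=
  le_cen1_iff.mp (T.L_le (le_cen1_iff.mpr hc) (c1_iff.mpr (T.C_t hc hy).symm))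

theorem cen_fix {c : G} (hc : c ∈ Cen (Lw D w)) {z : Ω} (hz : w • z = z) : c • z = z :=
  let ⟨a, ha, m, e⟩ := T.pt.mpr hz
  T.h.cen_fix ha e (cen_iff.mp hc a (mem_LL ha m))

theorem nor_line {g : G} (hg : g ∈ Nor (Lw D w)) {z : Ω} (hz : w • z = z) : w • g • z = g • z := by
  rw [← T.pt, ← Pt_LL] at hz ⊢
  exact T.h.Pt_smul hz hg

theorem K_A : Kw D w x y t ≤ Nor (Ax D x) := fun _ hk => T.h.St_le_nor x (T.s.K_x hk)

theorem K_tr {a b : G} (ha : a ∈ Ax D x) (hb : b ∈ Ax D x) (a1 : a ≠ 1) (b1 : b ≠ 1) :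
    ∃ k ∈ Kw D w x y t, k * a * k⁻¹ = b := T.s.bd.K_tr (T.A_eq' ▸ ha) (T.A_eq' ▸ hb) a1 b1

theorem K_fpf {a k : G} (ha : a ∈ Ax D x) (a1 : a ≠ 1) (hk : k ∈ Kw D w x y t)
    (e : k * a = a * k) : k = 1 := T.s.bd.K_fpf (T.A_le_Q ha) a1 hk e

theorem K_ab : Ab (Kw D w x y t) := fun _ ha _ hb => T.s.bd.K_comm ha hb

theorem card_K : Nat.card (Kw D w x y t) + 1 = Nat.card (Ax D x) := T.A_eq' ▸ T.s.bd.card_K

theorem K_w {k : G} (hk : k ∈ Kw D w x y t) : k * w = w * k := c1_iff.mp (T.s.K_M hk)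

theorem E_le : Ez D (Cen1 w) x y ≤ Kw D w x y t := by
  obtain ⟨a, ha⟩ := T.s.bd.toA1.exists_dist
  refine (le_inf le_rfl (inf_le_left.trans (T.s.L_le A1.Q_le_Fg A1.t_mem_Fg))).trans
    (T.s.bd.E_inf_le ha ?_)
  rcases T.s.bd.tri ha with e | ⟨e1, e2, e3, -⟩ | e
  exacts [Or.inl e, Or.inr ⟨e1, e2, e3⟩, (T.not3 e.1).elim]

theorem tr {z : Ω} (hz : w • z = z) (hne : z ≠ x) : ∃ c ∈ Qw D w x, c • y = z :=
  T.s.tr (T.pt.mpr hz) hne

theorem card_line : (Fx Ω w).ncard = Nat.card (Qw D w x) + 1 := by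
  rw [← Sc.Pt_W T.h.toMc T.w2, T.s.card_Pt]

theorem count : Nat.card Ω = Nat.card (Qw D w x) * (1 + (Nat.card (Qw D w x) + 1) *
    Nat.card (Kw D w x y t)) + 1 ∧ ∀ δ : Ω, w • δ ≠ δ → (Tx D (Cen1 w) δ (w • δ)).ncard = 1 := by
  obtain ⟨m, j, r, c1, c2, -, c4, c5, c6⟩ := T.h.count T.hw T.s
  have e1 := T.f.card_Ax x
  have e2 := T.card_K
  have e3 := T.q4
  rw [T.A_eq] at c1
  obtain rfl : j = 1 := Nat.eq_of_mul_eq_mul_left (show 0 < m by omega) (by omega)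
  rw [mul_one] at c4
  exact ⟨by rw [c5, c4, show Nat.card (Kw D w x y t) = m by omega], c6⟩

theorem card_L : Nat.card (Lw D w) =
    (Nat.card (Qw D w x) + 1) * (Nat.card (Qw D w x) * Nat.card (Kw D w x y t)) := by
  have e1 := card_of_trans (Y := Lw D w) (x := x) (S := Fx Ω w)
    (fun g hg => T.nor_line (le_normalizer hg) T.wx) fun z hz => T.h.Pt_trans T.s.lr.pt (T.pt.mpr hz)
  have e2 := card_of_trans (Y := Lw D w ⊓ St G x) (x := y) (S := Fx Ω w \ {x})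
    (fun g hg => ⟨T.nor_line (le_normalizer hg.1) T.wy, T.s.smul_ne hg.2 T.s.ne.symm⟩) fun z hz =>
      let ⟨c, m1, m2⟩ := T.tr hz.1 hz.2
      ⟨c, Qx_le _ x m1, m2⟩
  have e3 := Set.ncard_sdiff_singleton_add_one (show x ∈ Fx Ω w from T.wx)
  rw [T.card_line] at e3
  rw [e1, e2, T.card_line, Nat.add_right_cancel e3, inf_assoc,
    ← le_antisymm T.E_le T.s.bd.K_le]

theorem L_semi {g : G} (hg : g ∈ Lw D w) {δ : Ω} (hδ : w • δ ≠ δ) (e : g • δ = δ) : g = 1 := by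
  obtain ⟨u, hu⟩ := Set.ncard_eq_one.mp (T.count.2 δ hδ)
  have m1 : u ∈ Tx D (Cen1 w) δ (w • δ) := hu ▸ rfl
  have gw := c1_iff.mp (LL_le _ hg)
  have m2 : g * u * g⁻¹ = u := hu.le (show _ ∈ Tx D (Cen1 w) δ (w • δ) from
    ⟨⟨T.h.conj u m1.1.1 g, by
      rw [mul_smul, mul_smul, inv_fix e, m1.1.2, comm_fix gw.symm e]⟩, cmem (LL_le _ hg) m1.2⟩)
  obtain ⟨z, hz⟩ := T.h.ex m1.1.1
  have wz := T.h.cen_fix m1.1.1 hz (c1_iff.mp m1.2).symm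
  obtain ⟨y', t', T'⟩ := T.h.ty' T.hw wz
  have gz := T.h.cen_fix m1.1.1 hz (mul_inv_eq_iff_eq_mul.mp m2)
  obtain ⟨c, hc, e1⟩ := T'.tr (T.nor_line (le_normalizer hg) T'.wy) (T'.s.smul_ne gz T'.s.ne.symm)
  have uA := mem_Ax_of m1.1.1 hz
  have := T'.K_fpf uA (T.h.inv u m1.1.1).1 (k := c⁻¹ * g) (T'.E_le
    ⟨(Lw D w).mul_mem ((Lw D w).inv_mem (Qx_le _ z hc).1) hg, (St G z).mul_mem (inv_mem (Qx_le_St _ z hc)) gz,
      show _ • y' = y' by rw [mul_smul, ← e1, inv_smul_smul]⟩) (by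
        rw [mul_assoc, mul_inv_eq_iff_eq_mul.mp m2, ← mul_assoc, ← mul_assoc,
          cen_iff.mp (inv_mem (T'.Q_le_C0 hc)) u uA])
  rw [inv_mul_eq_one] at this
  exact T'.s.semi (this ▸ hc) e fun e2 => hδ (e2 ▸ wz)

theorem L_out {g : G} (hg : g ∈ Nor (Lw D w)) {δ : Ω} (hδ : w • δ ≠ δ) : w • g • δ ≠ g • δ :=
  fun e => hδ (by simpa using T.nor_line (inv_mem hg) e)

theorem card_out : (Fx Ω w)ᶜ.ncard = Nat.card (Lw D w) := by
  have := Set.ncard_add_ncard_compl (Fx Ω w)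
  rw [T.card_line, T.count.1] at this
  rw [T.card_L]
  nlinarith

theorem L_tr {δ δ' : Ω} (hδ : w • δ ≠ δ) (hδ' : w • δ' ≠ δ') : ∃ l ∈ Lw D w, l • δ = δ' := by
  have e1 := card_orb (Lw D w) δ
  rw [show Lw D w ⊓ St G δ = ⊥ from eq_bot_iff.mpr fun a ha => T.L_semi ha.1 hδ ha.2, card_bot,
    mul_one, ← T.card_out] at e1
  have e2 : (fun g : G => g • δ) '' (Lw D w) = (Fx Ω w)ᶜ := Set.eq_of_subset_of_ncard_le
    (by rintro _ ⟨a, ha, rfl⟩; exact T.L_out (le_normalizer ha) hδ) e1.le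
  exact e2.ge hδ'

theorem C_semi {c : G} (hc : c ∈ Cen (Lw D w)) {δ : Ω} (hδ : w • δ ≠ δ) (e : c • δ = δ) :
    c = 1 := T.h.faith c fun z => by
  by_cases hz : w • z = z
  · exact T.cen_fix hc hz
  obtain ⟨l, hl, rfl⟩ := T.L_tr hδ hz
  exact comm_fix (cen_iff.mp hc l hl).symm e

theorem card_C_dvd : Nat.card ↥(Cz D x ⊓ St G y) ∣ Nat.card (Lw D w) := by
  rw [← T.card_out]
  exact card_dvd_of_semireg (fun g hg z hz => T.L_out (T.nor_L (T.h.C0_le x hg.1) hg.2) hz)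
    fun g hg z hz e => T.C_semi (T.C_cen hg.1 hg.2) hz e

section Fix
variable {g : G} (hx : g • x = x) (hy : g • y = y) (h0 : ∀ a ∈ Ax D x, g * a = a * g → a = 1)
include hx hy h0

theorem fix_line {z : Ω} (hz : w • z = z) (e : g • z = z) : z = x ∨ z = y := by
  refine or_iff_not_imp_left.mpr fun hne => ?_
  obtain ⟨c, hc, rfl⟩ := T.tr hz hne
  have e1 := T.s.fix_of_cen (T.nor_Q hx hy) hy hc e
  by_cases c1 : c = 1
  · rw [c1, one_smul]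
  obtain ⟨n, hn⟩ := exists_inv_pow (Qx_two _ x) hc c1
  exact (hn.1 (h0 _ (T.A_eq' ▸ T.s.bd.mem0.mpr ⟨pow_mem hc n, hn.2⟩)
    (c1_iff.mp (pow_mem (c1_iff.mpr e1) n)).symm)).elim

theorem cen_L_eq : Lw D w ⊓ Cen1 g = Kw D w x y t ⊓ Cen1 g := by
  have ho : Odd (Nat.card ↥(Lw D w ⊓ Cen1 g)) := odd_of_no_inv fun a ha hi => by
    have aD := T.s.pure a ha.1 hi
    obtain ⟨z, hz⟩ := T.h.ex aD
    have ag := c1_iff.mp ha.2
    have k : ∀ z', w • z' = z' → g • z' = z' → a • z' = x ∨ a • z' = y := fun z' m1 m2 =>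
      T.fix_line hx hy h0 (T.nor_line (le_normalizer ha.1) m1) (comm_fix ag m2)
    rcases T.fix_line hx hy h0 (T.h.cen_fix aD hz (c1_iff.mp (LL_le _ ha.1)).symm)
      (T.h.cen_fix aD hz ag.symm) with rfl | rfl
    · rcases k y T.wy hy with e | e
      exacts [T.s.ne (MulAction.injective a (hz.trans e.symm)), T.s.ne (T.h.uniq aD hz e)]
    · rcases k x T.wx hx with e | e
      exacts [T.s.ne (T.h.uniq aD e hz), T.s.ne (MulAction.injective a (e.trans hz.symm))]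
  refine le_antisymm (fun l hl => ⟨T.E_le ⟨hl.1, ?_⟩, hl.2⟩) (inf_le_inf_right _ T.s.K_L)
  have k : ∀ z', w • z' = z' → g • z' = z' → l • z' = x ∨ l • z' = y := fun z' m1 m2 =>
    T.fix_line hx hy h0 (T.nor_line (le_normalizer hl.1) m1) (comm_fix (c1_iff.mp hl.2) m2)
  refine mem_of_sq_mem (N := St G x ⊓ St G y) (odd_orderOf_of_mem ho hl) ?_
  rcases k x T.wx hx with e | e <;> rcases k y T.wy hy with e' | e'
  · exact (T.s.ne (MulAction.injective l (e.trans e'.symm))).elim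
  · exact mul_mem ⟨e, e'⟩ ⟨e, e'⟩
  · exact ⟨show _ • x = x by rw [mul_smul, e, e'], show _ • y = y by rw [mul_smul, e', e]⟩
  · exact (T.s.ne (MulAction.injective l (e.trans e'.symm))).elim

theorem card_fix : Fx Ω g = {x, y} ∨
    (Fx Ω g).ncard = 2 + Nat.card ↥(Kw D w x y t ⊓ Cen1 g) := by
  have e0 : Fx Ω g ∩ Fx Ω w = {x, y} := Set.ext fun z => ⟨fun hz => T.fix_line hx hy h0 hz.2 hz.1,
    by rintro (rfl | rfl); exacts [⟨hx, T.wx⟩, ⟨hy, T.wy⟩]⟩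
  rcases (Fx Ω g \ Fx Ω w).eq_empty_or_nonempty with e | ⟨δ, hδ⟩
  · left
    rw [← e0, Set.inter_eq_left.mpr (Set.sdiff_eq_empty.mp e)]
  right
  have e1 := card_of_trans (Y := Lw D w ⊓ Cen1 g) (x := δ) (S := Fx Ω g \ Fx Ω w)
    (fun l hl => ⟨comm_fix (c1_iff.mp hl.2) hδ.1, T.L_out (le_normalizer hl.1) hδ.2⟩) fun z hz => by
      obtain ⟨l, hl, rfl⟩ := T.L_tr hδ.2 hz.2
      have := T.L_semi (mul_mem (inv_mem hl) (conj_mem (T.nor_L hx hy) hl)) hδ.2 (by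
        rw [mul_smul, mul_smul, mul_smul, inv_fix hδ.1, show g • l • δ = l • δ from hz.1,
          inv_smul_smul])
      rw [inv_mul_eq_one, eq_mul_inv_iff_mul_eq] at this
      exact ⟨l, ⟨hl, c1_iff.mpr this⟩, rfl⟩
  rw [show Lw D w ⊓ Cen1 g ⊓ St G δ = ⊥ from eq_bot_iff.mpr fun a ha => T.L_semi ha.1.1 hδ.2 ha.2,
    card_bot, mul_one, T.cen_L_eq hx hy h0] at e1
  rw [← Set.ncard_inter_add_ncard_sdiff_eq_ncard (Fx Ω g) (Fx Ω w), e0, Set.ncard_pair T.s.ne, e1]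

end Fix

theorem K_fix {k : G} (hk : k ∈ Kw D w x y t) (h1 : k ≠ 1) {z : Ω} (e : k • z = z) :
    z = x ∨ z = y :=
  T.fix_line (T.s.K_x hk) (T.s.K_y hk) (fun a ha e => by_contra fun a1 => h1 (T.K_fpf ha a1 hk e))
    (by_contra fun hz => h1 (T.L_semi (T.s.K_L hk) hz e)) e

/-- `1 + |C_K(g)|` is a power of 2 -/
theorem card_cen_K {g : G} (hx : g • x = x) (hy : g • y = y) :
    ∃ i, 1 + Nat.card ↥(Kw D w x y t ⊓ Cen1 g) = 2 ^ i := by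
  obtain ⟨a, ha, a1⟩ := T.exists_A
  obtain ⟨k, hk, e⟩ := T.K_tr ha (conj_mem (T.h.St_le_nor x hx) ha) a1 fun e => a1 (by simpa using e)
  have e1 : Kw D w x y t ⊓ Cen1 g = Kw D w x y t ⊓ Cen1 (k⁻¹ * g) := by
    ext l
    refine and_congr_right fun hl => ?_
    change l ∈ Cen1 g ↔ l ∈ Cen1 (k⁻¹ * g)
    rw [c1_iff, c1_iff, ← mul_assoc, T.K_ab l hl _ (inv_mem hk), mul_assoc, mul_assoc,
      mul_right_inj]
  have n1 : k⁻¹ * g ∈ Nor (Kw D w x y t) := mul_mem (le_normalizer (inv_mem hk)) (T.nor_K hx hy)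
  have e2 : k⁻¹ * g * a = a * (k⁻¹ * g) := by
    calc k⁻¹ * g * a = k⁻¹ * (g * a * g⁻¹) * g := by group
      _ = _ := by rw [← e]; group
  generalize k⁻¹ * g = u at e1 n1 e2
  obtain ⟨i, hi⟩ := IsPGroup.iff_card.mp ((T.f.Ax_two x).to_le (inf_le_left (b := Cen1 u)))
  refine ⟨i, ?_⟩
  rw [← hi, ← ncard_ne_one (Ax D x ⊓ Cen1 u), add_comm, e1, card_eq_ncard_mul _ (Cen1 a)
    (fun l => l * a * l⁻¹) fun l _ l' _ => by rw [← conj_eq_iff, mul_right_inj],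
    show Kw D w x y t ⊓ Cen1 u ⊓ Cen1 a = ⊥ from eq_bot_iff.mpr fun l hl =>
      T.K_fpf ha a1 hl.1.1 (c1_iff.mp hl.2), card_bot, mul_one]
  congr 2
  ext b
  constructor
  · rintro ⟨l, hl, rfl⟩
    exact ⟨⟨conj_mem (T.K_A hl.1) ha, cmem hl.2 (c1_iff.mpr e2.symm)⟩, fun e => a1 (by simpa using e)⟩
  · rintro ⟨hb, b1⟩
    obtain ⟨l, hl, rfl⟩ := T.K_tr ha hb.1 a1 b1
    refine ⟨l, ⟨hl, c1_iff.mpr (mul_inv_eq_iff_eq_mul.mp (T.s.bd.K_inj (T.A_eq' ▸ ha) a1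
      (conj_mem n1 hl) hl ?_)).symm⟩, rfl⟩
    calc u * l * u⁻¹ * a * (u * l * u⁻¹)⁻¹ = u * l * u⁻¹ * (a * u) * l⁻¹ * u⁻¹ := by group
      _ = u * (l * a * l⁻¹) * u⁻¹ := by rw [← e2]; group
      _ = _ := by rw [← c1_iff.mp hb.2]; group

theorem card_H {z : Ω} (tr : ∀ z', z' ≠ x → ∃ g ∈ St G x, g • z = z') (hz : z ≠ x) :
    Nat.card (St G x) = ({x}ᶜ : Set Ω).ncard * Nat.card ↥(St G x ⊓ St G z) :=
  card_of_trans (fun g hg => smul_mem_compl g hg z hz) tr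

theorem card_compl : ({x}ᶜ : Set Ω).ncard =
    Nat.card (Qw D w x) * (1 + (Nat.card (Qw D w x) + 1) * Nat.card (Kw D w x y t)) :=
  Nat.add_right_cancel ((ncard_compl x).trans T.count.1)

theorem K_dvd_Q : Nat.card (Kw D w x y t) ∣ Nat.card (Qw D w x) - 1 := by
  rw [← ncard_ne_one (Qw D w x), Nat.add_sub_cancel]
  exact card_dvd_of_fpf (fun g hg z hz => ⟨conj_mem (T.s.bd.E_nor (T.s.bd.K_le hg)) hz.1,
    fun e => hz.2 (by simpa using e)⟩) fun g hg z hz e => T.s.bd.K_fpf hz.1 hz.2 hg e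

theorem not_dvd_compl {p : ℕ} (hp : p.Prime) (h : p ∣ Nat.card (Kw D w x y t)) :
    ¬ p ∣ ({x}ᶜ : Set Ω).ncard := fun e => by
  rw [T.card_compl] at e
  rcases (Nat.Prime.dvd_mul hp).mp e with e | e
  · exact hp.one_lt.ne' (Nat.dvd_one.mp ((Nat.dvd_sub_iff_right Nat.card_pos e).mp
      (h.trans T.K_dvd_Q)))
  · exact hp.one_lt.ne' (Nat.dvd_one.mp ((Nat.dvd_add_left (Dvd.dvd.mul_left h _)).mp e))

/-- double transitivity -/
theorem two_tr {z : Ω} (hz : z ≠ x) : ∃ g ∈ St G x, g • y = z := by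
  have q4 := T.q4
  obtain ⟨p, hp, hd⟩ := Nat.exists_prime_and_dvd
    (show Nat.card (Kw D w x y t) ≠ 1 by have := T.card_K; omega)
  have := Fact.mk hp
  obtain ⟨k0, hk0⟩ := exists_prime_orderOf_dvd_card' (G := Kw D w x y t) p hd
  rw [← orderOf_coe] at hk0
  obtain ⟨P, hP, m1⟩ := H5.exists_isSylowOf_ge (isPGroup_zpowers_of_orderOf hk0)
    (zpowers_le.mpr (show (k0 : G) ∈ St G x from T.s.K_x k0.2))
  obtain ⟨y', m2, m3⟩ := exists_fix_pgroup hP.isPGroup (S := {x}ᶜ)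
    (fun g hg => smul_mem_compl g (hP.le hg)) (T.not_dvd_compl hp hd)
  obtain rfl := (T.K_fix k0.2 (fun e => hp.one_lt.ne' (by rw [← hk0, e, orderOf_one]))
    (m3 _ (m1 (mem_zpowers _)))).resolve_left m2
  obtain ⟨u, -, hu, ux⟩ := T.h.Pt_swap (T.h.all x) (T.h.all z) hz.symm
  set X := Od (⊤ ⊓ (St G x ⊓ St G z)) with hX
  have n1 : u ∈ Nor X := nor_le_nor_piCoreOf _ _ (by
    rw [top_inf_eq]; exact mem_nor_two ux (T.h.swap hu ux))
  have XE : X ≤ St G x ⊓ St G z := (piCoreOf_le _ _).trans inf_le_right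
  obtain ⟨R, hR, k, m4, m5, m6⟩ := exists_inverted (p := p) (T.h.inv u hu) n1 (odd_Od _) (by
    have e1 := card_inverted (odd_Od _) (T.h.sq hu) n1
    rw [show {k | k ∈ X ∧ u * k * u = k⁻¹} = {k | k ∈ KK D u x ∧ k ∈ (⊤ : Subgroup G)} from
      Set.ext fun k => ⟨fun hk => ⟨T.h.mem_K hu (XE hk.1).1 (odd_orderOf_of_mem (odd_Od _) hk.1)
        hk.2, trivial⟩, fun hk => ⟨T.h.K_mem_Od (mem_top u) hu ux hz.symm hk.1 trivial,
          T.h.K_inv hu hk.1⟩⟩, T.h.ncard_K' hu ux (mem_top u) hz.symm (T.h.all x),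
      card_eq_relIndex (inf_le_left (a := X) (b := Cen1 u)), inf_relIndex_left] at e1
    rw [Nat.eq_of_mul_eq_mul_right Nat.card_pos e1]
    have e2 := T.f.card_Ax x
    rw [← T.card_K] at e2
    exact (Nat.add_right_cancel e2).symm ▸ hd)
  have ko := odd_orderOf_of_mem (odd_Od _) (hR.le m4)
  have kE := XE (hR.le m4)
  have kK := T.h.mem_K hu kE.1 ko m6
  have ev : 2 ∣ (Fx Ω k).ncard := by
    by_contra hc
    obtain ⟨τ, m7, m8⟩ := exists_fix_elt (p := 2) (g := u) (k := 1) (S := Fx Ω k)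
      (by rw [pow_one, sq, T.h.sq hu]) (fun δ hδ => by
        have := conj_smul (g := u) (inv_fix hδ)
        rwa [← m6, T.h.inv_eq hu, show u * (u * k * u) * u = (u * u) * k * (u * u) by group,
          T.h.sq hu, one_mul, mul_one] at this) hc
    have := c1_iff.mp (T.h.star u hu τ x m8 (fun e => hz (by rw [← ux, e, m8])) ⟨m7, kE.1, by
      rw [ux]; exact kE.2⟩)
    rw [← this, mul_assoc, T.h.sq hu, mul_one] at m6
    refine m5 (mem_bot.mp (mem_of_sq_mem ko ?_))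
    nth_rewrite 1 [m6]
    exact inv_mul_cancel k
  obtain ⟨g, hg, e⟩ := hP.exists_conj_le (hR.isPGroup.to_le (zpowers_le.mpr m4))
    (zpowers_le.mpr kE.1)
  have e1 : g * k * g⁻¹ ∈ P := e (conj_mem_conjS (mem_zpowers k))
  rcases T.card_fix (hP.le e1) (m3 _ e1) (fun a ha e => by_contra fun a1 => m5 (by
    have a2 := conj_mem (T.h.St_le_nor x (inv_mem hg)) ha
    refine T.h.K_eq_one hu ux hz.symm kK (T.f.mem_D a2 (conj_ne_one a1))
      (Ax_le x a2) ?_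
    calc k * (g⁻¹ * a * g⁻¹⁻¹) = g⁻¹ * (g * k * g⁻¹ * a) * g := by group
      _ = _ := by rw [e]; group)) with e2 | e2
  · rcases e2.le (conj_smul (g := g) kE.2) with e3 | e3
    · exact (T.s.smul_ne hg hz e3).elim
    · exact ⟨g⁻¹, inv_mem hg, by rw [← Set.mem_singleton_iff.mp e3, inv_smul_smul]⟩
  · rw [ncard_Fx_conj] at e2
    exact ((odd_of_le T.s.K_odd inf_le_left).not_two_dvd_nat
      ((Nat.dvd_add_right dvd_rfl).mp (e2 ▸ ev))).elim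

theorem card_St : Nat.card (St G x) = ({x}ᶜ : Set Ω).ncard * Nat.card ↥(St G x ⊓ St G y) :=
  T.card_H (fun _ => T.two_tr) T.s.ne.symm

theorem card_fix_pow {g : G} (hx : g • x = x) {z : Ω} (hz : z ≠ x) (e : g • z = z)
    (h0 : ∀ a ∈ Ax D x, g * a = a * g → a = 1) : ∃ i, (Fx Ω g).ncard = 2 ^ i + 1 := by
  obtain ⟨k, hk, rfl⟩ := T.two_tr hz
  have m1 : (k⁻¹ * g * k⁻¹⁻¹) • x = x := cmem (M := St G x) (inv_mem hk) hx
  have m2 : (k⁻¹ * g * k⁻¹⁻¹) • y = y := conj_fix (by rwa [inv_inv])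
  rw [← ncard_Fx_conj g k⁻¹]
  rcases T.card_fix m1 m2 (fun a ha e => by
    have := h0 _ (conj_mem (T.h.St_le_nor x hk) ha) (by
      calc g * (k * a * k⁻¹) = k * (k⁻¹ * g * k⁻¹⁻¹ * a) * k⁻¹ := by group
        _ = _ := by rw [e]; group)
    simpa using this) with e1 | e1
  · exact ⟨0, by rw [e1, Set.ncard_pair T.s.ne]; rfl⟩
  · obtain ⟨i, hi⟩ := T.card_cen_K m1 m2
    exact ⟨i, by omega⟩

end Ty

end SF
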