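import Cfsg.Agent.SF.L
import Cfsg.Agent.H4.KM1

/-! The unitary configuration: the structure of `T₁`. -/

set_option autoImplicit false
set_option linter.unusedSectionVars false

namespace SF

open Cfsg Subgroup FT H4 BS
open scoped commutatorElement

universe u

section Gen
variable {G : Type*} [Group G] [Finite G]

theorem comm_mem_of_sq {Y A : Subgroup G} (h : ∀ g ∈ Y, g * g ∈ A) {g k : G} (hg : g ∈ Y)
    (hk : k ∈ Y) : g⁻¹ * (k * g * k⁻¹) ∈ A :=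
  H5.mem_of_eq (mul_mem (mul_mem (h _ (inv_mem hg)) (h _ (mul_mem hg hk))) (h _ (inv_mem hk)))
    (by group)

theorem comm_le_of_sq {Y A : Subgroup G} (h : ∀ g ∈ Y, g * g ∈ A) : ⁅Y, Y⁆ ≤ A :=
  commutator_le.mpr fun g hg k hk => by
    simpa [commutatorElement_def, mul_assoc] using comm_mem_of_sq h (inv_mem hg) hk

theorem conj_sq {g u : G} (h : u * u = 1) : g * u * g⁻¹ * (g * u * g⁻¹) = 1 := by
  rw [conj_mul, h]; simp

theorem sq_conjS {g : G} {V : Subgroup G} (h : ∀ u ∈ V, u * u = 1) : ∀ u ∈ conjS g V, u * u = 1 := by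
  rintro _ ⟨u, hu, rfl⟩
  exact conj_sq (h u hu)

theorem nor_of_conjS_eq {g k : G} {V : Subgroup G} (h : conjS g V = conjS k V) :
    g⁻¹ * k ∈ Nor V := by
  rw [mem_normalizer_iff_conjS, ← conjS_conjS, ← h, conjS_inv_conjS]

end Gen

variable {G : Type u} [Group G] [Finite G] {Ω : Type*} [MulAction G Ω] [Finite Ω] {D : Set G}

abbrev Bw (D : Set G) (w : G) (x y : Ω) (t : G) : Subgroup G := ⁅T1 D w x, Kw D w x y t⁆

namespace Tz
variable {w : G} {x y : Ω} {t : G} {R : Subgroup G} (T : Tz D w x y t R)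
include T

theorem Q_eq {v : G} {y' : Ω} {t' : G} (T' : Ty D v x y' t') : Qw D v x = Ax D x :=
  (eq_of_le_card T'.A_le_Q (by rw [T.card_Q T', T.not_sz])).symm

theorem card_compl' : ({x}ᶜ : Set Ω).ncard = Nat.card (Ax D x) ^ 3 := by
  rw [T.card_compl, T.not_sz, ← T.card_K]; ring

theorem T0_el {v : G} (hv : Wv Ω v) (hx : v • x = x) : ∀ g ∈ T0 D v x, g * g = 1 := fun g hg => by
  obtain ⟨y', t', T'⟩ := T.h.ty' hv hx
  obtain ⟨c, hc, p, hp, rfl⟩ := T'.T0_dec hg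
  rw [show c * p * (c * p) = c * (p * c) * p by group, T'.P_Q hp hc, mul_assoc, mul_assoc,
    T'.P_sq hp, mul_one, T.f.Ax_sq c (T.Q_eq T' ▸ hc)]

theorem T0_el' : ∀ g ∈ T0 D w x, g * g = 1 := T.T0_el T.hw T.wx

theorem card_T0' : Nat.card (T0 D w x) = Nat.card (Ax D x) * Nat.card (Pw D w x y) := by
  rw [T.card_T0, T.not_sz]

theorem tr' {z : Ω} (hz : w • z = z) (hne : z ≠ x) : ∃ c ∈ Ax D x, c • y = z :=
  T.not_sz ▸ T.tr hz hne

theorem odd_X : Odd ((Xm D w x).relIndex (St G x ⊓ Nor (T0 D w x))) := by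
  have e := card_of_trans (Y := St G x ⊓ Nor (T0 D w x)) (x := y)
    (S := {z | z ≠ x ∧ ∃ g ∈ T0 D w x, g ≠ 1 ∧ g • z = z}) (fun g hg => ⟨T.s.smul_ne hg.1 T.s.ne.symm,
      _, conj_mem hg.2 T.w_mem_P.1, conj_ne_one T.hw.1.1, conj_smul T.wy⟩) (by
      rintro z ⟨h1, g, m1, m2, m3⟩
      obtain ⟨a, ha, e⟩ := T.line_wa m1 m2 h1 m3
      obtain ⟨k, hk, e1⟩ := T.conj_wa ha
      obtain ⟨c, hc, e2⟩ := T.tr (z := k⁻¹ • z) (by
        have := conj_smul (g := k⁻¹) e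
        rwa [← e1, show k⁻¹ * (k * w * k⁻¹) * k⁻¹⁻¹ = w by group] at this)
        (T.s.smul_ne (inv_fix hk.1) h1)
      exact ⟨k * c, mul_mem ⟨hk.1, T.X_nor0 hk⟩ ⟨Qx_le_St _ x hc, le_normalizer (T.Q_le_T0 hc)⟩, by
        rw [mul_smul, e2, smul_inv_smul]⟩)
  have h1 : St G x ⊓ St G y ⊓ Cen1 w ≤ St G x ⊓ Nor (T0 D w x) ⊓ St G y := fun g hg =>
    ⟨⟨hg.1.1, T.X_nor0 (T.cen_le_X ⟨hg.1.1, hg.2⟩)⟩, hg.1.2⟩
  rw [relIndex_eq_of_card (le_inf inf_le_left T.X_nor0) (n := (St G x ⊓ St G y ⊓ Cen1 w).relIndex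
    (St G x ⊓ Nor (T0 D w x) ⊓ St G y)) (by
      rw [e, T.card_Lam, T.card_X, card_eq_relIndex h1]; ring)]
  exact T.odd_E.of_dvd_nat (Dvd.intro _ (relIndex_mul_relIndex _ _ _ h1
    (inf_le_inf_right _ inf_le_left)))

theorem exists_S : ∃ S1 S : Subgroup G, IsPGroup 2 S ∧ S ≤ St G x ∧ S1 ≤ S ∧
    S ⊓ Nor (T0 D w x) = S1 ∧ S1 ⊓ Cz D x = T1 D w x ∧ 4 * Nat.card S1 ≤ Nat.card S := by
  obtain ⟨S1, h1⟩ := H5.exists_isSylowOf 2 (Xm D w x)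
  obtain ⟨S, h2, h3⟩ := H5.exists_isSylowOf_ge h1.isPGroup (h1.le.trans inf_le_left)
  have h4 := syl_of_le h1 (le_inf inf_le_left T.X_nor0) T.odd_X.not_two_dvd_nat
  refine ⟨S1, S, h2.isPGroup, h2.le, h3, h4.eq_of_le (h2.isPGroup.to_le inf_le_left)
    (le_inf h3 (h4.le.trans inf_le_right)) (inf_le_inf_right _ h2.le), le_antisymm
      (fun g hg => ⟨hg.2, (h1.le hg.1).2⟩) (le_inf (h1.le_of_le_normalizer T.T1_two T.T1_le_X
        (h1.le.trans T.X_nor1)) inf_le_left), ?_⟩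
  rw [card_eq_relIndex h3]
  refine Nat.mul_le_mul_right _ (T.q4.trans (Nat.le_of_dvd (Nat.pos_of_ne_zero
    (relIndex_ne_zero_of_finite _ _)) ?_))
  have d : Nat.card (Ax D x) ∣ S1.relIndex S * S.relIndex (St G x) := by
    rw [relIndex_mul_relIndex _ _ _ h3 h2.le, ← relIndex_mul_relIndex _ _ _ h1.le inf_le_left,
      relIndex_eq_of_card inf_le_left (n := Nat.card (Ax D x) *
        (St G x ⊓ St G y ⊓ Cen1 w).relIndex (St G x ⊓ St G y)) (by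
          rw [T.card_St, T.card_compl', T.card_X,
            card_eq_relIndex (inf_le_left (a := St G x ⊓ St G y) (b := Cen1 w)), T.not_sz]; ring)]
    exact (Dvd.intro _ rfl).mul_left _
  obtain ⟨i, hi⟩ := IsPGroup.iff_card.mp (T.f.Ax_two x)
  refine Nat.Coprime.dvd_of_dvd_mul_right ?_ d
  rw [hi]
  exact ((Nat.Prime.coprime_iff_not_dvd Nat.prime_two).mpr h2.not_dvd).pow_left i

theorem cen_T0 {g v : G} (hg : g ∈ T1 D w x) (h0 : g ∉ T0 D w x) (hv : v ∈ T0 D w x)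
    (e : g * v = v * g) : v ∈ Ax D x := by
  by_contra hA
  have v1 : v ≠ 1 := fun e => hA (e ▸ one_mem _)
  have hW := T.W_of ⟨v1, T.T0_el' v hv⟩ (T.h.C0_le x hv.1) hA
  obtain ⟨z, hz, e1⟩ := hW.ex x
  obtain ⟨a, ha, e2⟩ := T.line_wa hv v1 hz e1
  obtain ⟨t', T'⟩ := T.h.ty hW (T.h.C0_le x hv.1) e1 hz.symm
  have e3 := T'.line_eq (mul_mem T.wC (T.A_le_C0 ha)) hz e1 e2
    (comm_fix (g := g⁻¹) (c1_iff.mp (inv_mem (c1_iff.mpr e))) e1)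
  have e4 := T.eq_of_wa ha (mul_mem hg.2.2 ha) hz e2 (by
    have := conj_fix e3
    rwa [show g * (w * a) * g⁻¹ = w * (w⁻¹ * (g * w * g⁻¹) * (g * a * g⁻¹)) by group,
      cen_iff.mp hg.1 a ha, mul_inv_cancel_right] at this)
  rw [eq_comm, mul_eq_right, inv_mul_eq_one, eq_mul_inv_iff_mul_eq] at e4
  exact h0 ⟨hg.1, c1_iff.mpr e4.symm⟩

theorem T1_sq' : ∀ g ∈ T1 D w x, g * g ∈ Ax D x := fun g hg => by
  by_cases h0 : g ∈ T0 D w x
  · rw [T.T0_el' g h0]; exact one_mem _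
  · exact T.cen_T0 hg h0 (T.T1_sq hg) (mul_assoc _ _ _).symm

theorem K_nor1 : Kw D w x y t ≤ Nor (T1 D w x) := T.K_le_X.trans T.X_nor1

theorem B_le : Bw D w x y t ≤ T1 D w x := H5.commutator_le_left_of_le_normalizer T.K_nor1

theorem A_le_B : Ax D x ≤ Bw D w x y t := fun a ha => by
  by_cases a1 : a = 1
  · rw [a1]; exact one_mem _
  obtain ⟨b, hb, b1, b2⟩ : ∃ b ∈ Ax D x, b ≠ 1 ∧ b ≠ a := by
    obtain ⟨b, m1, c, m2, m3, m4, m5⟩ := exists_two_ne (A := Ax D x) (by have := T.q4; omega)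
    by_cases e1 : b = a
    · exact ⟨c, m2, m4, fun e2 => m5 (e1.trans e2.symm)⟩
    · exact ⟨b, m1, m3, e1⟩
  obtain ⟨k, hk, e⟩ := T.K_tr hb (mul_mem hb ha) b1 fun e =>
    b2 (by rw [eq_inv_of_mul_eq_one_left e, T.f.Ax_inv ha])
  exact H5.mem_of_eq (H5.inv_mul_conj_mem_commutator (T.T0_le_T1 (T.A_le_T0 hb)) hk)
    (by rw [← inv_mul_cancel_left b a, ← e]; group)

theorem P_K {p k : G} (hp : p ∈ Pw D w x y) (hk : k ∈ Kw D w x y t) : p * k = k * p :=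
  cen_iff.mp (T.P_cen hp) k (T.s.K_L hk)

theorem A_cen_K {a : G} (ha : a ∈ Ax D x) (h : a ∈ Cen (Kw D w x y t)) : a = 1 := by
  obtain ⟨k, hk, k1⟩ := (bot_or_exists_ne_one _).resolve_left T.K_ne
  exact by_contra fun a1 => k1 (T.K_fpf ha a1 hk (cen_iff.mp h k hk).symm)

theorem cen_K_fix {g : G} (hx : g • x = x) (h : g ∈ Cen (Kw D w x y t)) : g • y = y := by
  obtain ⟨k, hk, k1⟩ := (bot_or_exists_ne_one _).resolve_left T.K_ne
  exact (T.K_fix hk k1 (comm_fix (cen_iff.mp h k hk) (T.s.K_y hk))).resolve_left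
    (T.s.smul_ne hx T.s.ne.symm)

theorem T1_cen_K {g : G} (hg : g ∈ T1 D w x) (h : g ∈ Cen (Kw D w x y t)) : g ∈ Pw D w x y := by
  have wK : w ∈ Cen (Kw D w x y t) := cen_iff.mpr fun k hk => (T.K_w hk).symm
  have := T.A_cen_K hg.2.2 (mul_mem (inv_mem wK) (cmem h wK))
  rw [inv_mul_eq_one, eq_mul_inv_iff_mul_eq] at this
  exact ⟨⟨hg.1, c1_iff.mpr this.symm⟩, T.cen_K_fix (T.h.C0_le x hg.1) h⟩

theorem cop {Y : Subgroup G} (hY : IsPGroup 2 Y) :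
    (Nat.card (Kw D w x y t)).Coprime (Nat.card Y) :=
  (H5.coprime_card_of_isPGroup hY T.s.K_odd.not_two_dvd_nat).symm

theorem T1_dec {g : G} (hg : g ∈ T1 D w x) :
    ∃ p ∈ Pw D w x y, ∃ b ∈ Bw D w x y t, p * b = g :=
  let ⟨p, h1, h2⟩ := H5.exists_centralizer_mul_commutator T.K_nor1 (T.cop T.T1_two)
    (Or.inl (odd_solvable T.s.K_odd)) hg
  ⟨p, T.T1_cen_K h1.1 h1.2, h2⟩

theorem B_P {p : G} (hb : p ∈ Bw D w x y t) (hp : p ∈ Pw D w x y) : p = 1 :=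
  T.f.eq_one (commutator_inf_centralizer_le T.K_nor1 (T.cop T.T1_two)
    (fun g hg => cen_le_nor _ hg.1) T.K_A (comm_le_of_sq T.T1_sq')
      ⟨hb, cen_iff.mpr fun _ => T.P_K hp⟩) hp.2 T.s.ne

theorem B_T0 {b : G} (hb : b ∈ Bw D w x y t) (h : b ∈ T0 D w x) : b ∈ Ax D x := by
  obtain ⟨a, ha, p, hp, rfl⟩ := T.inv_dec h (T.T0_el' b h)
  rwa [T.B_P ((mul_mem_cancel_left (T.A_le_B ha)).mp hb) hp, mul_one]

theorem card_B (h : T1 D w x ≠ T0 D w x) : Nat.card (Bw D w x y t) = Nat.card (Ax D x) ^ 2 := by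
  have n : Pw D w x y ≤ Nor (Bw D w x y t) :=
    (inf_le_left.trans T.T0_le_T1).trans (normalizer_commutator_ge_left _ _)
  have e := H5.card_sup_mul_card_inf n
  rw [show Bw D w x y t ⊓ Pw D w x y = ⊥ from eq_bot_iff.mpr fun p hp => T.B_P hp.1 hp.2, card_bot,
    mul_one, show Bw D w x y t ⊔ Pw D w x y = T1 D w x from le_antisymm
      (sup_le T.B_le (inf_le_left.trans T.T0_le_T1)) fun g hg => by
        obtain ⟨p, hp, b, hb, rfl⟩ := T.T1_dec hg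
        exact mul_mem (mem_sup_right hp) (mem_sup_left hb), T.card_T1 h, T.card_T0', ← mul_assoc] at e
  rw [← Nat.eq_of_mul_eq_mul_right Nat.card_pos e, sq]

theorem B_cen {b p : G} (hb : b ∈ Bw D w x y t) (hA : b ∉ Ax D x) (hp : p ∈ Pw D w x y)
    (e : b * p = p * b) : p = 1 :=
  T.f.eq_one (T.cen_T0 (T.B_le hb) (fun e => hA (T.B_T0 hb e)) hp.1 e) hp.2 T.s.ne

theorem K_norB : Kw D w x y t ≤ Nor (Bw D w x y t) := normalizer_commutator_ge_right _ _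

theorem K_trB {b b' : G} (hb : b ∈ Bw D w x y t) (hA : b ∉ Ax D x) (hb' : b' ∈ Bw D w x y t)
    (hA' : b' ∉ Ax D x) : ∃ k ∈ Kw D w x y t, (k * b * k⁻¹)⁻¹ * b' ∈ Ax D x := by
  have k0 : ∀ b ∈ Bw D w x y t, b ∉ Ax D x → w⁻¹ * (b * w * b⁻¹) ≠ 1 := fun b hb hA e => by
    rw [inv_mul_eq_one, eq_mul_inv_iff_mul_eq] at e
    exact T.hw.1.1 (T.B_cen hb hA T.w_mem_P e.symm)
  obtain ⟨k, hk, e⟩ := T.K_tr (T.B_le hb).2.2 (T.B_le hb').2.2 (k0 b hb hA) (k0 b' hb' hA')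
  have m := mul_mem (inv_mem (conj_mem (T.K_norB hk) hb)) hb'
  refine ⟨k, hk, T.B_T0 m ⟨(T.B_le m).1, conj_eq_iff.mp (e ▸ ?_)⟩⟩
  calc w⁻¹ * (k * b * k⁻¹ * w * (k * b * k⁻¹)⁻¹)
      = (k * w * k⁻¹)⁻¹ * (k * b * k⁻¹ * (k * w * k⁻¹) * (k * b * k⁻¹)⁻¹) := by
        rw [T.K_w hk, mul_inv_cancel_right]
    _ = _ := by group

theorem inv_B {b p : G} (hb : b ∈ Bw D w x y t) (hA : b ∉ Ax D x) (hp : p ∈ Pw D w x y)
    (e : p * b * p⁻¹ = b⁻¹) : ∀ c ∈ Bw D w x y t, p * c * p⁻¹ = c⁻¹ := fun c hc => by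
  have k0 : ∀ a ∈ Ax D x, p * a * p⁻¹ = a⁻¹ := fun a ha => by
    rw [cen_iff.mp hp.1.1 a ha, mul_inv_cancel_right, T.f.Ax_inv ha]
  by_cases h : c ∈ Ax D x
  · exact k0 c h
  obtain ⟨k, hk, m⟩ := T.K_trB hb hA hc h
  have e1 := k0 _ m
  have e2 := cen_iff.mp (T.B_le (conj_mem (T.K_norB hk) hb)).1 _ m
  generalize ha : (k * b * k⁻¹)⁻¹ * c = a at e1 e2
  obtain rfl : c = k * b * k⁻¹ * a := by rw [← ha]; group
  calc _ = (p * k) * b * (p * k)⁻¹ * (p * a * p⁻¹) := by group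
    _ = k * (p * b * p⁻¹) * k⁻¹ * a⁻¹ := by rw [T.P_K hp hk, e1]; group
    _ = (a * (k * b * k⁻¹))⁻¹ := by rw [e]; group
    _ = _ := by rw [e2]

theorem inv_out {v : G} (hv : v ∈ T1 D w x) (h0 : v ∉ T0 D w x) (h2 : v * v = 1) :
    ∃ p ∈ Pw D w x y, ∃ b ∈ Bw D w x y t, b ∉ Ax D x ∧ p * b = v ∧
      ∀ c ∈ Bw D w x y t, p * c * p⁻¹ = c⁻¹ := by
  obtain ⟨p, hp, b, hb, rfl⟩ := T.T1_dec hv
  have hA : b ∉ Ax D x := fun e => h0 (mul_mem hp.1 (T.A_le_T0 e))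
  refine ⟨p, hp, b, hb, hA, rfl, T.inv_B hb hA hp ?_⟩
  rw [inv_eq_self_of_sq (T.P_sq hp)]
  exact eq_inv_of_mul_eq_one_left (by rwa [mul_assoc])

theorem inv_uniq {b p p' : G} (hb : b ∈ Bw D w x y t) (hA : b ∉ Ax D x) (hp : p ∈ Pw D w x y)
    (hp' : p' ∈ Pw D w x y) (e : p * b * p⁻¹ = b⁻¹) (e' : p' * b * p'⁻¹ = b⁻¹) : p = p' :=
  inv_mul_eq_one.mp (T.B_cen hb hA (mul_mem (inv_mem hp) hp') (by
    calc b * (p⁻¹ * p') = p⁻¹ * (p * b * p⁻¹) * p' := by group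
      _ = _ := by rw [e, ← e']; group))

theorem main : T1 D w x ≠ T0 D w x ∧ (∀ p ∈ Pw D w x y, p = 1 ∨ p = w) ∧
    ∀ b ∈ Bw D w x y t, w * b * w⁻¹ = b⁻¹ := by
  obtain ⟨S1, S, hS, hx, h1, h2, h3, h4⟩ := T.exists_S
  have q4 := T.q4
  have lt : S1 < S := lt_of_le_of_ne h1 fun e => by
    rw [e] at h4; have : 0 < Nat.card S := Nat.card_pos; omega
  have n1 : ∀ g ∈ S ⊓ Nor S1, g ∈ Nor (T1 D w x) := fun g hg =>
    h3 ▸ mem_nor_inf hg.2 (T.h.nor_C0 x (hx hg.1))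
  have n2 : ∀ g ∈ S ⊓ Nor S1, conjS g (T0 D w x) ≤ T1 D w x := fun g hg =>
    (conjS_mono g T.T0_le_T1).trans (mem_normalizer_iff_conjS.mp (n1 g hg)).le
  obtain ⟨τ, m1, m2⟩ := SetLike.exists_of_lt (H5.lt_inf_normalizer_of_isPGroup hS lt)
  have m3 : ¬ conjS τ (T0 D w x) ≤ T0 D w x := fun e =>
    m2 (h2.le ⟨m1.1, mem_normalizer_of_conjS_le e⟩)
  have hne : T1 D w x ≠ T0 D w x := fun e => m3 ((n2 τ m1).trans e.le)
  refine ⟨hne, ?_⟩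
  have cB := T.card_B hne
  have cU := card_conjS τ (T0 D w x)
  have U1 := n2 τ m1
  have U2 := sq_conjS (g := τ) T.T0_el'
  obtain ⟨v, v1, v2⟩ := SetLike.not_le_iff_exists.mp m3
  obtain ⟨p, hp, b, hb, bA, rfl, hi⟩ := T.inv_out (U1 v1) v2 (U2 _ v1)
  have U3 : ∀ u ∈ conjS τ (T0 D w x), u ∉ Ax D x → ∃ c ∈ Bw D w x y t, p * c = u := fun u hu uA => by
    obtain ⟨p', hp', c, hc, -, rfl, hi'⟩ := T.inv_out (U1 hu)
      (fun e => uA (T.cen_T0 (U1 v1) v2 e (comm_of_sq U2 v1 hu))) (U2 _ hu)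
    exact ⟨c, hc, by rw [T.inv_uniq hb bA hp hp' (hi b hb) (hi' b hb)]⟩
  by_cases p1 : p ≠ 1
  · have n3 : p * b ∈ Nor (Ax D x) := cen_le_nor _ (U1 v1).1
    have n4 : p * b * (p * b) ∈ Ax D x := U2 _ v1 ▸ one_mem _
    have c1 := (card_le_of_le (show conjS τ (T0 D w x) ≤ Ax D x ⊔ zpowers (p * b) from fun u hu =>
      (mem_sup_zp n3 n4).mpr (or_iff_not_imp_left.mpr fun uA => by_contra fun hc => by
        obtain ⟨c, m4, rfl⟩ := U3 u hu uA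
        obtain ⟨c', m5, e⟩ := U3 _ (mul_mem hu v1) hc
        refine p1 (T.B_P (H5.mem_of_eq (mul_mem (mul_mem (inv_mem m4) hb) (inv_mem m5)) ?_) hp)
        rw [← hi c m4, inv_eq_self_of_sq (T.P_sq hp), mul_inv_eq_iff_eq_mul, e, mul_assoc]))).trans
      (card_sup_zp_le n3 n4)
    rw [cU, T.card_T0', mul_comm 2] at c1
    have e := eq_of_le_card (zpowers_le.mpr T.w_mem_P)
      (by rw [T.hw.1.card_zpowers]; exact Nat.le_of_mul_le_mul_left c1 (by omega))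
    have k : ∀ p ∈ Pw D w x y, p = 1 ∨ p = w := fun p hp => T.hw.1.mem_zpowers (e.ge hp)
    exact ⟨k, (k p hp).resolve_left p1 ▸ hi⟩
  exfalso
  obtain rfl := not_not.mp p1
  have B2 : ∀ c ∈ Bw D w x y t, c * c = 1 := fun c hc => by
    have := hi c hc
    rw [one_mul, inv_one, mul_one] at this
    exact mul_eq_one_iff_eq_inv.mpr this
  have c0 : Nat.card (Bw D w x y t) ≤ Nat.card (T0 D w x) :=
    (card_le_of_le (le_inf (T.B_le.trans inf_le_left) fun c hc => c1_iff.mpr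
      (comm_of_sq B2 hc hb))).trans (T.card_T0_le (T.W_of ⟨fun e => bA (e ▸ one_mem _), B2 b hb⟩
        (T.h.C0_le x (T.B_le hb).1) bA) (T.h.C0_le x (T.B_le hb).1))
  have el : ∀ V : Subgroup G, V ≤ T1 D w x → (∀ u ∈ V, u * u = 1) →
      V ≤ T0 D w x ∨ V ≤ Bw D w x y t := fun V hV h2 => or_iff_not_imp_left.mpr fun h0 u hu => by
    obtain ⟨v, v1, v2⟩ := SetLike.not_le_iff_exists.mp h0
    by_cases u0 : u ∈ T0 D w x
    · exact T.A_le_B (T.cen_T0 (hV v1) v2 u0 (comm_of_sq h2 v1 hu))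
    obtain ⟨p', hp', c, hc, -, rfl, hi'⟩ := T.inv_out (hV hu) u0 (h2 u hu)
    rwa [← T.inv_uniq hb bA hp hp' (hi b hb) (hi' b hb), one_mul]
  have c1 := cU.ge.trans (card_le_of_le ((el _ U1 U2).resolve_left m3))
  have el' : ∀ g : G, conjS g (T0 D w x) ≤ T1 D w x →
      g ∈ Nor (T0 D w x) ∨ conjS g (T0 D w x) = Bw D w x y t := fun g hg =>
    (el _ hg (sq_conjS T.T0_el')).imp mem_normalizer_of_conjS_le fun e =>
      eq_of_le_card e (by rw [card_conjS]; exact c0)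
  have out : ∀ g ∈ S ⊓ Nor S1, g ∉ S1 → conjS g (T0 D w x) = Bw D w x y t := fun g hg g1 =>
    (el' g (n2 g hg)).resolve_left fun e => g1 (h2.le ⟨hg.1, e⟩)
  have S1le : S1 ≤ S ⊓ Nor S1 := le_inf h1 le_normalizer
  have key : ∀ σ ∈ S ⊓ Nor (S ⊓ Nor S1), σ ∈ S1 ∨ τ⁻¹ * σ ∈ S1 := fun σ hσ => by
    refine (el' σ ?_).imp (fun e => h2.le ⟨hσ.1, e⟩) fun e => h2.le
      ⟨S.mul_mem (S.inv_mem m1.1) hσ.1, nor_of_conjS_eq ((out τ m1 m2).trans e.symm)⟩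
    have V1 : conjS σ (T0 D w x) ≤ S ⊓ Nor S1 ⊓ Cz D x := by
      rw [← mem_normalizer_iff_conjS.mp (mem_nor_inf hσ.2 (T.h.nor_C0 x (hx hσ.1)))]
      exact conjS_mono σ (le_inf ((T.T0_le_T1.trans (h3.ge.trans inf_le_left)).trans S1le)
        inf_le_left)
    have V2 := sq_conjS (g := σ) T.T0_el'
    have cV := card_conjS σ (T0 D w x)
    generalize conjS σ (T0 D w x) = V at V1 V2 cV
    by_contra hc
    obtain ⟨u, u1, u2⟩ := SetLike.not_le_iff_exists.mp hc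
    have u3 := out u (V1 u1).1 fun e => u2 (h3.le ⟨e, (V1 u1).2⟩)
    have u4 : ∀ g ∈ V, g ∈ T1 D w x → g ∈ Ax D x := fun g g1 g2 => by
      have e : u * g * u⁻¹ = g := mul_inv_eq_iff_eq_mul.mpr (comm_of_sq V2 u1 g1)
      have e1 : g ∈ T0 D w x ↔ g ∈ Bw D w x y t := by rw [← u3, ← conj_mem_conjS_iff (g := u), e]
      rcases el (V ⊓ T1 D w x) inf_le_right fun u hu => V2 u hu.1 with e2 | e2
      · exact T.B_T0 (e1.mp (e2 ⟨g1, g2⟩)) (e2 ⟨g1, g2⟩)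
      · exact T.B_T0 (e2 ⟨g1, g2⟩) (e1.mpr (e2 ⟨g1, g2⟩))
    have n3 : u ∈ Nor (Ax D x) := cen_le_nor _ (V1 u1).2
    have n4 : u * u ∈ Ax D x := V2 _ u1 ▸ one_mem _
    have c2 := (card_le_of_le (show V ≤ Ax D x ⊔ zpowers u from fun g hg =>
      (mem_sup_zp n3 n4).mpr (or_iff_not_imp_left.mpr fun gA => u4 _ (mul_mem hg u1) (h3.le ⟨h2.le
        ⟨(V1 (mul_mem hg u1)).1.1, ?_⟩, (V1 (mul_mem hg u1)).2⟩)))).trans (card_sup_zp_le n3 n4)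
    · nlinarith
    · rw [← inv_eq_self_of_sq (V2 g hg)]
      exact nor_of_conjS_eq ((out g (V1 hg).1 fun e => gA (u4 g hg (h3.le ⟨e, (V1 hg).2⟩))).trans
        u3.symm)
  have e1 : S ⊓ Nor S1 = S := by
    by_contra hc
    refine (H5.lt_inf_normalizer_of_isPGroup hS (lt_of_le_of_ne inf_le_left hc)).not_ge
      fun σ hσ => ?_
    rcases key σ hσ with e | e
    · exact S1le e
    · simpa using mul_mem m1 (S1le e)
  have k2 : ∀ σ ∈ S, σ ∈ S1 ∨ σ * τ ∈ S1 := fun σ hσ => or_iff_not_imp_left.mpr fun e => by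
    simpa using inv_mem ((key σ⁻¹ ⟨S.inv_mem hσ, le_normalizer (e1.ge (inv_mem hσ))⟩).resolve_left
      fun e1 => e (by simpa using inv_mem e1))
  have n4 : τ * τ ∈ S1 := (k2 τ m1.1).resolve_left m2
  have c2 := (card_le_of_le fun σ hσ => (mem_sup_zp m1.2 n4).mpr (k2 σ hσ)).trans
    (card_sup_zp_le m1.2 n4)
  have : 0 < Nat.card S1 := Nat.card_pos
  omega

end Tz

end SF
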