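import Cfsg.Agent.SF.M

/-! The unitary configuration does not occur. -/

set_option autoImplicit false
set_option linter.unusedSectionVars false

namespace SF

open Cfsg Subgroup FT H4 BS
open scoped commutatorElement

universe u

theorem exists_basis4 {M : Type*} [AddCommGroup M] [Finite M] [Module (ZMod 4) M] {f : ℕ}
    (T : AddSubgroup M) (hT : ∀ m, m ∈ T ↔ m + m = 0) (hs : ∀ a ∈ T, ∃ m, m + m = a)
    (h4 : ∀ m : M, m + m ∈ T) (c1 : Nat.card T = 2 ^ f) (c2 : Nat.card M = 4 ^ f) :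
    Nonempty ((Fin f → ZMod 4) ≃ₗ[ZMod 4] M) := by
  letI : Module (ZMod 2) T := AddCommGroup.zmodModule fun a => Subtype.ext (by
    rw [two_nsmul]; exact (hT a).mp a.2)
  have : Module.Finite (ZMod 2) T := Module.Finite.of_finite
  have e : Module.finrank (ZMod 2) T = f := by
    have := Module.natCard_eq_pow_finrank (K := ZMod 2) (V := T)
    rw [c1, Nat.card_zmod] at this
    exact (Nat.pow_right_injective le_rfl this).symm
  let a := Module.finBasisOfFinrankEq (ZMod 2) T e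
  choose b hb using fun i => hs (a i) (a i).2
  let φ := Fintype.linearCombination (ZMod 4) b
  have k : ∀ u : T, ∃ c : Fin f → ℕ, (u : M) = ∑ i, c i • (b i + b i) := fun u =>
    ⟨fun i => (a.repr u i).val, by
      conv_lhs => rw [← a.sum_repr u]
      rw [AddSubmonoidClass.coe_finsetSum]
      refine Finset.sum_congr rfl fun i _ => ?_
      rw [hb, ← AddSubgroup.coe_nsmul, ← Nat.cast_smul_eq_nsmul (ZMod 2), ZMod.natCast_zmod_val]⟩
  have k0 : ∀ c : Fin f → ℕ, ∑ i, c i • b i ∈ φ.range := fun c =>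
    ⟨fun i => c i, by simp [φ, Fintype.linearCombination_apply, Nat.cast_smul_eq_nsmul]⟩
  have k1 : ∀ u ∈ T, u ∈ φ.range := fun u hu => by
    obtain ⟨c, hc⟩ := k ⟨u, hu⟩
    simp only [smul_add, Finset.sum_add_distrib] at hc
    exact hc ▸ add_mem (k0 c) (k0 c)
  have sj : Function.Surjective φ := fun m => by
    obtain ⟨c, hc⟩ := k ⟨_, h4 m⟩
    simp only [smul_add, Finset.sum_add_distrib] at hc
    simpa using add_mem (k1 (m - ∑ i, c i • b i) ((hT _).mpr (by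
      rw [sub_add_sub_comm, hc, sub_self]))) (k0 c)
  exact ⟨LinearEquiv.ofBijective φ ((Nat.bijective_iff_surjective_and_card φ).mpr ⟨sj, by
    rw [c2, Nat.card_fun, Nat.card_zmod, Nat.card_fin]⟩)⟩

theorem det_lemma {G : Type*} [Group G] [Finite G] {X B A : Subgroup G} {w : G} {f : ℕ}
    (hA : ∀ b ∈ B, b ∈ A ↔ b * b = 1) (hAB : A ≤ B) (hs : ∀ a ∈ A, ∃ b ∈ B, b * b = a)
    (h4 : ∀ b ∈ B, b * b ∈ A) (c1 : Nat.card A = 2 ^ f) (c2 : Nat.card B = Nat.card A ^ 2)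
    (hf : Odd f) (hX : X ≤ Nor B) (hw : w ∈ X) (hi : ∀ b ∈ B, w * b * w⁻¹ = b⁻¹) :
    w ∉ ⁅X, X⁆ := fun hc => by
  letI : CommGroup B := { (inferInstance : Group B) with
    mul_comm := fun a b => Subtype.ext (inv_injective (by
      rw [coe_mul, coe_mul, ← hi _ (mul_mem a.2 b.2), mul_inv_rev, ← hi _ a.2, ← hi _ b.2]; group)) }
  letI : Module (ZMod 4) (Additive B) := AddCommGroup.zmodModule fun b => by
    refine Additive.toMul.injective (Subtype.ext ?_)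
    have := (hA _ (hAB (h4 _ b.toMul.2))).mp (h4 _ b.toMul.2)
    simpa [pow_succ, mul_assoc] using this
  obtain ⟨e⟩ := exists_basis4 (M := Additive B) (f := f) (A.subgroupOf B).toAddSubgroup
    (fun m => (hA _ m.toMul.2).trans ⟨fun e => Additive.toMul.injective (Subtype.ext e),
      fun e => congrArg (fun m : Additive B => (m.toMul : G)) e⟩)
    (fun a ha => let ⟨b, h1, h2⟩ := hs _ ha
      ⟨Additive.ofMul ⟨b, h1⟩, Additive.toMul.injective (Subtype.ext h2)⟩)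
    (fun m => h4 _ m.toMul.2) ((Nat.card_congr (subgroupOfEquivOfLe hAB).toEquiv).trans c1)
    (by rw [show (4 : ℕ) = 2 ^ 2 by rfl, ← pow_mul, mul_comm, pow_mul, ← c1, ← c2]; rfl)
  have : Module.Free (ZMod 4) (Additive B) := Module.Free.of_equiv e
  let ρ : X →* MulAut B := B.normalizerMonoidHom.comp (inclusion hX)
  let ψ : X →* Module.End (ZMod 4) (Additive B) :=
    { toFun := fun g => (MonoidHom.toAdditive (ρ g).toMonoidHom).toZModLinearMap 4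
      map_one' := by rw [map_one]; rfl
      map_mul' := fun g k => by rw [map_mul]; rfl }
  let φ := (LinearMap.det.comp ψ).toHomUnits
  have h1 : φ ⟨w, hw⟩ = 1 := Abelianization.commutator_subset_ker φ (by
    rw [← map_subtype_commutator] at hc
    exact (mem_map_iff_mem X.subtype_injective).mp hc)
  have h2 : ψ ⟨w, hw⟩ = (-1 : ZMod 4) • LinearMap.id := LinearMap.ext fun m =>
    Additive.toMul.injective (Subtype.ext ((hi _ m.toMul.2).trans (by simp)))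
  have h3 := congrArg Units.val h1
  have : Nontrivial (ZMod 4) := ⟨⟨0, 1, by decide⟩⟩
  rw [MonoidHom.coe_toHomUnits, MonoidHom.comp_apply, h2, LinearMap.det_smul, LinearMap.det_id,
    ← e.finrank_eq, Module.finrank_fin_fun, hf.neg_one_pow] at h3
  exact absurd h3 (by decide)

theorem tr_of_semi {G Ω : Type*} [Group G] [Finite G] [MulAction G Ω] [Finite Ω] {K : Subgroup G}
    {S : Set Ω} (h : ∀ k ∈ K, ∀ z ∈ S, k • z ∈ S) (sr : ∀ k ∈ K, ∀ z ∈ S, k • z = z → k = 1)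
    (hc : S.ncard ≤ Nat.card K) {y z : Ω} (hy : y ∈ S) (hz : z ∈ S) : ∃ k ∈ K, k • y = z := by
  have e1 := card_orb K y
  rw [show K ⊓ St G y = ⊥ from eq_bot_iff.mpr fun a ha => sr a ha.1 y hy ha.2, card_bot,
    mul_one] at e1
  have e2 : (fun g : G => g • y) '' K = S := Set.eq_of_subset_of_ncard_le
    (by rintro _ ⟨a, ha, rfl⟩; exact h a ha y hy) (hc.trans e1.le)
  exact e2.ge hz

theorem bs_lemma {G Ω : Type*} [Group G] [Finite G] [MulAction G Ω] [Finite Ω] {x : Ω}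
    {K : Subgroup G} {f : ℕ} (tr : ∀ z, ∃ g : G, g • x = z) (hc : Nat.card Ω = 2 ^ (f + 1))
    (h0 : pCore 2 G = ⊥) (hK : K ≤ St G x) (hn : St G x ≤ Nor K) (hd : ⁅St G x, St G x⁆ ≤ K)
    (hC : St G x ⊓ Cen K ≤ K) (cyc : IsCyclic K) (h3 : 3 ∣ Nat.card K)
    (sr : ∀ k ∈ K, ∀ z, z ≠ x → k • z = z → k = 1) (cK : Nat.card K + 1 = Nat.card Ω) : False := by
  have ktr : ∀ y z, y ≠ x → z ≠ x → ∃ k ∈ K, k • y = z := fun y z =>
    tr_of_semi (S := {x}ᶜ) (fun k hk => smul_mem_compl k (hK hk)) sr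
      (Nat.add_right_cancel ((ncard_compl x).trans cK.symm)).le
  have ko : Odd (Nat.card K) := by
    rw [← Nat.not_even_iff_odd, ← Nat.even_add_one, cK, hc]
    exact (Nat.even_pow' (by omega)).mpr even_two
  obtain ⟨z, hz⟩ := @exists_prime_orderOf_dvd_card' K _ _ 3 ⟨Nat.prime_three⟩ h3
  rw [← orderOf_coe] at hz
  have z1 : (z : G) ≠ 1 := fun e => by rw [e, orderOf_one] at hz; omega
  have key : ∀ τ g : G, τ * τ = 1 → τ • x ≠ x → (orderOf g).Prime → Odd (orderOf g) →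
      τ * g * τ⁻¹ = g⁻¹ → g • x = x → False := fun τ g t2 tx gp go hi gx => by
    have := Fact.mk gp
    have cj : ∀ {a : G}, a ∈ Cen1 g → τ * a * τ⁻¹ ∈ Cen1 g := fun {a} ha => by
      have := conj_mem_conjS (g := τ) ha
      rw [conjS_cen1, hi] at this
      exact c1_iff.mpr (c1_iff.mp (by simpa using inv_mem (c1_iff.mpr (c1_iff.mp this).symm))).symm
    have g1 : g • τ • x = τ • x := by
      have := conj_smul (g := τ) gx
      rw [hi] at this
      simpa using inv_fix this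
    have n1 : g ∈ Nor (zpowers (z : G)) := mem_normalizer_iff_conjS.mpr (eq_of_card_eq_of_cyclic cyc
      ((conjS_mono g (zpowers_le.mpr z.2)).trans (mem_normalizer_iff_conjS.mp (hn gx)).le)
      (zpowers_le.mpr z.2) (card_conjS _ _))
    obtain ⟨b, hb, e⟩ := exists_cen_pgroup (isPGroup_zpowers_of_orderOf (x := g) rfl)
      (S := {a | a ∈ zpowers (z : G) ∧ a ≠ 1})
      (fun k hk a ha => ⟨conj_mem (zpowers_le.mpr n1 hk) ha.1, conj_ne_one ha.2⟩) fun e => by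
        rw [Nat.add_right_cancel ((ncard_ne_one _).trans ((Nat.card_zpowers _).trans hz))] at e
        rw [(Nat.prime_dvd_prime_iff_eq gp Nat.prime_two).mp e] at go
        exact absurd go (by decide)
    have bK := zpowers_le.mpr z.2 hb.1
    have b1 := cj (c1_iff.mpr (e g (mem_zpowers g)).symm)
    have ti := inv_eq_self_of_sq t2
    obtain ⟨c, hc, e1⟩ := ktr (τ • x) ((τ * b * τ⁻¹) • x) tx fun e => hb.2 (sr b bK _ tx (by
      rwa [mul_smul, mul_smul, smul_eq_iff_eq_inv_smul, ti] at e))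
    have c1 : c ∈ Cen1 g := by
      have := sr _ (mul_mem (inv_mem hc) (conj_mem (hn gx) hc)) _ tx (by
        rw [mul_smul, mul_smul, mul_smul, inv_fix g1, e1, comm_fix (c1_iff.mp b1) gx, ← e1,
          inv_smul_smul])
      rw [inv_mul_eq_one, eq_mul_inv_iff_mul_eq] at this
      exact c1_iff.mpr this
    have u1 : (τ * (c⁻¹ * (τ * b * τ⁻¹))) • x = x := by
      rw [mul_smul, mul_smul, ← e1, inv_smul_smul, smul_smul, t2, one_smul]
    have u2 := hd (commutator_mem_commutator gx u1)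
    have u3 := c1_iff.mp (mul_mem (inv_mem c1) b1)
    generalize c⁻¹ * (τ * b * τ⁻¹) = d at u2 u3
    rw [show ⁅g, τ * d⁆ = g * g by
      calc _ = g * (τ * (d * g * d⁻¹) * τ⁻¹)⁻¹ := by rw [commutatorElement_def]; group
        _ = _ := by rw [u3, mul_inv_cancel_right, hi, inv_inv]] at u2
    exact gp.one_lt.ne' (orderOf_eq_one_iff.mpr (mem_bot.mp (mem_of_sq_mem go
      (sr _ u2 _ tx (by rw [mul_smul, g1, g1])))))
  obtain ⟨S, hS⟩ := H5.exists_isSylowOf 2 (⊤ : Subgroup G)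
  have str : (fun g : G => g • x) '' S = Set.univ := by
    refine Set.eq_of_subset_of_ncard_le (Set.subset_univ _) (Nat.le_of_dvd
      ((Set.ncard_pos (Set.toFinite _)).mpr ⟨x, 1, S.one_mem, one_smul _ _⟩) ?_)
    have e1 := card_of_trans (Y := (⊤ : Subgroup G)) (x := x) (S := Set.univ) (fun _ _ => trivial)
      fun z _ => let ⟨g, e⟩ := tr z; ⟨g, trivial, e⟩
    rw [card_eq_relIndex hS.le, card_orb S x, ← mul_assoc, Set.ncard_univ, hc] at e1
    rw [Set.ncard_univ, hc]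
    refine Nat.Coprime.dvd_of_dvd_mul_left (((Nat.Prime.coprime_iff_not_dvd Nat.prime_two).mpr
      hS.not_dvd).pow_left _) (Nat.dvd_of_mul_dvd_mul_right Nat.card_pos (e1 ▸ Nat.mul_dvd_mul_left _
        (card_dvd_of_le (inf_le_inf_right _ le_top))))
  obtain ⟨y, hy⟩ : ∃ y, y ≠ x := by
    by_contra! hc'
    have := ncard_compl x
    rw [Set.eq_empty_of_forall_notMem (s := {x}ᶜ) fun y hy => hy (hc' y), Set.ncard_empty, hc] at this
    have := Nat.one_lt_two_pow (n := f + 1) (by omega)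
    omega
  obtain ⟨τ, m1, m2, m3, m4⟩ := exists_central hS.isPGroup fun e => by
    obtain ⟨g, m, e1⟩ := str.ge (Set.mem_univ y)
    rw [e] at m
    exact hy (by simpa [mem_bot.mp m] using e1.symm)
  have fp : ∀ z : Ω, τ • z ≠ z := fun z e => by
    have k : ∀ z' : Ω, τ • z' = z' := fun z' => by
      obtain ⟨g, m, rfl⟩ := str.ge (Set.mem_univ z)
      obtain ⟨g', m', rfl⟩ := str.ge (Set.mem_univ z')
      simpa [mul_smul] using comm_fix (c1_iff.mp (m4 (S.mul_mem m' (S.inv_mem m)))) e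
    refine Inv.not_mem ⟨m3, m2⟩ ko (hC ⟨k x, cen_iff.mpr fun c hc => ?_⟩)
    exact commutatorElement_eq_one_iff_mul_comm.mp (sr _ (mul_mem (conj_mem (hn (k x)) hc)
      (inv_mem hc)) y hy (by
        rw [commutatorElement_def, mul_smul, mul_smul, mul_smul, inv_fix (k _), smul_inv_smul, k]))
  obtain ⟨g, g1, g2, g3⟩ := H9.exists_inverted_of_not_mem_pCore m2 fun e => m3 (mem_bot.mp (h0 ▸ e))
  have := Fact.mk g1
  obtain ⟨w, -, e⟩ := exists_fix_elt (p := orderOf g) (g := g) (k := 1) (S := (Set.univ : Set Ω))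
    (by rw [pow_one, pow_orderOf_eq_one]) (fun _ _ => trivial) fun e => by
      rw [Set.ncard_univ, hc] at e
      rw [(Nat.prime_dvd_prime_iff_eq g1 Nat.prime_two).mp (g1.dvd_of_dvd_pow e)] at g2
      exact absurd g2 (by decide)
  obtain ⟨k, rfl⟩ := tr w
  refine key (k⁻¹ * τ * k⁻¹⁻¹) (k⁻¹ * g * k⁻¹⁻¹) (conj_sq m2) (fun e => fp (k • x) ?_)
    (by rwa [H9.orderOf_conj]) (by rwa [H9.orderOf_conj]) (by
      calc _ = k⁻¹ * (τ * g * τ⁻¹) * k := by group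
        _ = _ := by rw [g3]; group) (conj_fix (by rwa [inv_inv]))
  rwa [mul_smul, mul_smul, inv_smul_eq_iff, inv_inv] at e

theorem gal_lemma {G : Type*} [Group G] [Finite G] {L H Q E V : Subgroup G} {t s : G}
    (h : Bd L H Q E t) (hs : Dist Q t s) (h1 : V ≤ Nor (Q0 Q)) (h2 : V ≤ Nor (Kg E t))
    (h3 : V ≤ Cen1 s) (h4 : V ⊓ Cen (Q0 Q) ≤ Cen V) : Ab V := by
  obtain ⟨F, _, _, _, u, κ, u1, u2, u3, -, k2, k3, -⟩ := h.toA1.exists_field h.a3 hs
  have ex : ∀ v : V, ∃ σ : F ≃+* F, ∀ z : F,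
      v * u (Multiplicative.ofAdd z) * (v : G)⁻¹ = u (Multiplicative.ofAdd (σ z)) := fun v => by
    have e0 : ∀ z : F, ∃ z' : F, v * u (Multiplicative.ofAdd z) * (v : G)⁻¹ =
        u (Multiplicative.ofAdd z') := fun z =>
      let ⟨a, ha⟩ := u2.ge (conj_mem (h1 v.2) (u2.le ⟨Multiplicative.ofAdd z, rfl⟩))
      ⟨a.toAdd, ha.symm⟩
    choose σ hσ using e0
    have inj : ∀ {a b : F}, u (Multiplicative.ofAdd a) = u (Multiplicative.ofAdd b) → a = b :=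
      fun e => Multiplicative.ofAdd.injective (u1 e)
    have s1 : σ 1 = 1 := inj (by rw [← hσ, u3, c1_iff.mp (h3 v.2), mul_inv_cancel_right])
    have s0 : σ 0 = 0 := inj (by rw [← hσ]; simp)
    let σ₁ : F →+* F :=
      { toFun := σ
        map_one' := s1
        map_mul' := fun a z => by
          by_cases ha : a = 0
          · rw [ha, zero_mul, s0, zero_mul]
          obtain ⟨c, hc⟩ := k2.ge (conj_mem (h2 v.2) (k2.le ⟨Units.mk0 a ha, rfl⟩))
          have : ∀ z, σ (a * z) = c * σ z := fun z => inj (by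
            have := k3 (Units.mk0 a ha) z
            rw [Units.val_mk0] at this
            rw [← hσ, ← k3, ← hσ, hc, ← this]; group)
          rw [this z, ← mul_one a, this 1, s1, mul_one]
        map_zero' := s0
        map_add' := fun a b => inj (by rw [← hσ, ofAdd_add, ofAdd_add, map_mul, map_mul, ← hσ, ← hσ,
          conj_mul]) }
    exact ⟨RingEquiv.ofBijective σ₁ (Finite.injective_iff_bijective.mp σ₁.injective), hσ⟩
  choose σ hσ using ex
  let φ : V →* (F ≃+* F) := MonoidHom.mk' σ fun a b => RingEquiv.ext fun z =>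
    Multiplicative.ofAdd.injective (u1 (by
      rw [← hσ, RingAut.mul_apply, ← hσ, ← hσ, coe_mul]; group))
  letI := ZMod.algebra F 2
  have : IsCyclic (F ≃+* F) := isCyclic_of_surjective
    (MulSemiringAction.toRingAut (F ≃ₐ[ZMod 2] F) F) fun τ => ⟨AlgEquiv.ofRingEquiv (f := τ) fun x =>
      DFunLike.congr_fun (RingHom.ext_zmod (τ.toRingHom.comp (algebraMap _ F)) (algebraMap _ F)) x,
      rfl⟩
  intro a ha b hb
  refine congrArg Subtype.val ((φ.isMulCommutative_of_isCyclic_of_ker_le_center fun v hv =>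
    mem_center_iff.mpr fun g => Subtype.ext (cen_iff.mp (h4 ⟨v.2, cen_iff.mpr fun c hc => ?_⟩)
      g g.2).symm).is_comm.comm ⟨a, ha⟩ ⟨b, hb⟩)
  obtain ⟨z, rfl⟩ := u2.ge hc
  have := hσ v z.toAdd
  rw [show σ v = 1 from hv] at this
  exact mul_inv_eq_iff_eq_mul.mp this

theorem conjS_modS {G : Type*} [Group G] [Finite G] (g : G) (A : Subgroup G) (w : G) :
    conjS g (modS A w) = modS (conjS g A) (g * w * g⁻¹) := by
  ext k
  rw [mem_conjS, mem_modS, mem_modS, show Nor (conjS g A) = conjS g (Nor A) from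
    (conjS_normalizer g A).symm, mem_conjS, mem_conjS]
  exact and_congr_right fun _ => by
    rw [show g⁻¹ * ((g * w * g⁻¹)⁻¹ * (k * (g * w * g⁻¹) * k⁻¹)) * g =
      w⁻¹ * (g⁻¹ * k * g * w * (g⁻¹ * k * g)⁻¹) by group]

variable {G : Type u} [Group G] [Finite G] {Ω : Type*} [MulAction G Ω] [Finite Ω] {D : Set G}

abbrev X1 (D : Set G) (w : G) (x : Ω) : Subgroup G := St G x ⊓ Nor (T1 D w x)

abbrev Ew (w : G) (x y : Ω) : Subgroup G := St G x ⊓ St G y ⊓ Cen1 w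

namespace Tz
variable {w : G} {x y : Ω} {t : G} {R : Subgroup G} (T : Tz D w x y t R)
include T

theorem w_inv {b : G} (hb : b ∈ Bw D w x y t) : w * b * w⁻¹ = b⁻¹ := T.main.2.2 b hb

theorem cB : Nat.card (Bw D w x y t) = Nat.card (Ax D x) ^ 2 := T.card_B T.main.1

theorem T1_or {g : G} (hg : g ∈ T1 D w x) : g ∈ Bw D w x y t ∨ ∃ b ∈ Bw D w x y t, g = w * b := by
  obtain ⟨p, hp, b, hb, rfl⟩ := T.T1_dec hg
  rcases T.main.2.1 p hp with rfl | rfl
  exacts [Or.inl (by rwa [one_mul]), Or.inr ⟨b, hb, rfl⟩]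

theorem B_sq {b : G} (hb : b ∈ Bw D w x y t) : b ∈ Ax D x ↔ b * b = 1 :=
  ⟨T.f.Ax_sq b, fun e => T.B_T0 hb ⟨(T.B_le hb).1, c1_iff.mpr (mul_inv_eq_iff_eq_mul.mp
    ((T.w_inv hb).trans (inv_eq_self_of_sq e))).symm⟩⟩

theorem B_semi {b : G} (hb : b ∈ Bw D w x y t) {z : Ω} (hz : z ≠ x) (e : b • z = z) : b = 1 :=
  T.h.semi (T.T1_two.to_le T.B_le) (fun r hr hi => T.f.mem_D ((T.B_sq hr).mpr hi.2) hi.1)
    (T.B_le.trans (T.T1_le_X.trans inf_le_left)) hb e hz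

theorem wb_sq {b : G} (hb : b ∈ Bw D w x y t) : w * b * (w * b) = 1 := by
  have := T.w_inv hb
  rw [inv_eq_self_of_sq T.w2] at this
  rw [← mul_assoc, this, inv_mul_cancel]

theorem wb_B {b : G} (hb : b ∈ Bw D w x y t) : w * b ∉ Bw D w x y t := fun e =>
  T.hw.1.1 (T.B_P ((mul_mem_cancel_right hb).mp e) T.w_mem_P)

theorem wb_T1 {b : G} (hb : b ∈ Bw D w x y t) : w * b ∈ T1 D w x :=
  mul_mem (T.T0_le_T1 T.w_mem_P.1) (T.B_le hb)

theorem wb_x {b : G} (hb : b ∈ Bw D w x y t) : (w * b) • x = x := T.h.C0_le x (T.wb_T1 hb).1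

theorem wb_W {b : G} (hb : b ∈ Bw D w x y t) : Wv Ω (w * b) :=
  T.W_of ⟨fun e => T.wb_B hb (e ▸ one_mem _), T.wb_sq hb⟩ (T.wb_x hb) fun e => T.wb_B hb (T.A_le_B e)

theorem wb_uniq {b b' : G} (hb : b ∈ Bw D w x y t) (hb' : b' ∈ Bw D w x y t) {z : Ω} (hz : z ≠ x)
    (e1 : (w * b) • z = z) (e2 : (w * b') • z = z) : b = b' :=
  inv_mul_eq_one.mp (T.B_semi (mul_mem (inv_mem hb) hb') hz (by
    rw [show b⁻¹ * b' = (w * b)⁻¹ * (w * b') by group, mul_smul, e2, inv_fix e1]))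

theorem exists_b {z : Ω} (hz : z ≠ x) : ∃ b ∈ Bw D w x y t, (w * b) • z = z := by
  have := ncard_double (S := Bw D w x y t) (T := {z | z ≠ x ∧ ∃ b ∈ Bw D w x y t, (w * b) • z = z})
    (fun a z => (w * a) • z = z) (a := Nat.card (Ax D x)) (b := 1) (fun a ha => by
      obtain ⟨y', t', T'⟩ := T.h.ty' (T.wb_W ha) (T.wb_x ha)
      have e3 := Set.ncard_sdiff_singleton_add_one (show x ∈ Fx Ω (w * a) from T'.wx)
      rw [T'.card_line, T.Q_eq T'] at e3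
      rw [← Nat.add_right_cancel e3]
      congr 1
      exact Set.ext fun z => ⟨fun hz => ⟨hz.2, hz.1.1⟩, fun hz => ⟨⟨hz.2, a, ha, hz.1⟩, hz.1⟩⟩)
    fun z ⟨h1, a, ha, e⟩ => Set.ncard_eq_one.mpr ⟨a, Set.eq_singleton_iff_unique_mem.mpr
      ⟨⟨ha, e⟩, fun b hb => T.wb_uniq hb.1 ha h1 hb.2 e⟩⟩
  have e := Set.eq_of_subset_of_ncard_le (t := {x}ᶜ)
    (s := {z | z ≠ x ∧ ∃ b ∈ Bw D w x y t, (w * b) • z = z}) (fun z hz => hz.1) (by
      rw [T.card_compl', pow_succ, ← T.cB]; exact this.le.trans (mul_one _).le)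
  exact (e.ge hz).2

theorem conj_W {v : G} (hv : Wv Ω v) (hx : v • x = x) : ∃ g ∈ St G x, g * w * g⁻¹ = v := by
  obtain ⟨z, hz, e⟩ := hv.ex x
  obtain ⟨g, hg, rfl⟩ := T.two_tr hz
  obtain ⟨c, hc, e1⟩ := T.P_syl.exists_conj_le (pgroup_zp (hv.conj g⁻¹).1.2) (zpowers_le.mpr
    ⟨conj_mem (T.h.nor_C0 x (inv_mem hg)) (T.W_cen hv hx), conj_fix (by rwa [inv_inv])⟩)
  have e2 := (T.main.2.1 _ (e1 (conj_mem_conjS (mem_zpowers _)))).resolve_left
    (conj_ne_one (conj_ne_one hv.1.1))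
  exact ⟨g * c⁻¹, mul_mem hg (inv_mem (T.h.C0_le x hc.1)), by rw [← e2]; group⟩

theorem conj_X1 {b : G} (hb : b ∈ Bw D w x y t) : ∃ g ∈ X1 D w x, g * w * g⁻¹ = w * b := by
  obtain ⟨g, hg, e⟩ := T.conj_W (T.wb_W hb) (T.wb_x hb)
  refine ⟨g, ⟨hg, mem_normalizer_iff_conjS.mpr (eq_of_le_card ?_ (card_conjS _ _).le).symm⟩, e⟩
  rw [conjS_inf, conjS_modS, mem_normalizer_iff_conjS.mp (T.h.nor_C0 x hg),
    mem_normalizer_iff_conjS.mp (T.h.St_le_nor x hg), e]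
  exact fun k hk => ⟨hk.1, hk.2.1, comm_mem_of_sq T.T1_sq' (T.wb_T1 hb) hk⟩

theorem W_T1 {g : G} (hg : g ∈ T1 D w x) (h2 : g * g = 1) (hA : g ∉ Ax D x) :
    ∃ b ∈ Bw D w x y t, g = w * b :=
  (T.T1_or hg).resolve_left fun e => hA ((T.B_sq e).mpr h2)

theorem conj_wb {g b : G} (hg : g ∈ X1 D w x) (hb : b ∈ Bw D w x y t) :
    ∃ b' ∈ Bw D w x y t, g * (w * b) * g⁻¹ = w * b' :=
  T.W_T1 (conj_mem hg.2 (T.wb_T1 hb)) (conj_sq (T.wb_sq hb)) fun e => T.wb_B hb (T.A_le_B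
    (by simpa [mul_assoc] using conj_mem (T.h.St_le_nor x (inv_mem hg.1)) e))

theorem cen_wb {g b : G} (hg : g ∈ X1 D w x) (hb : b ∈ Bw D w x y t) {z : Ω} (hz : z ≠ x)
    (e1 : (w * b) • z = z) (e2 : g • z = z) : g ∈ Cen1 (w * b) := by
  obtain ⟨b', hb', e⟩ := T.conj_wb hg hb
  rw [T.wb_uniq hb' hb hz (e ▸ conj_fix (by rwa [inv_fix e2])) e1] at e
  exact c1_iff.mpr (mul_inv_eq_iff_eq_mul.mp e)

theorem inv_X1 {v : G} (hv : v ∈ X1 D w x) (h2 : v * v = 1) (hA : v ∉ Ax D x) :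
    ∃ b ∈ Bw D w x y t, v = w * b := by
  have v1 : v ≠ 1 := fun e => hA (e ▸ one_mem _)
  obtain ⟨z, hz, e⟩ := (T.W_of ⟨v1, h2⟩ hv.1 hA).ex x
  obtain ⟨b, hb, e1⟩ := T.exists_b hz
  obtain ⟨t', T'⟩ := T.h.ty (T.wb_W hb) (T.wb_x hb) e1 hz.symm
  have c1 := T.two_le T'.P_two hz (inf_le_inf_right _ inf_le_left)
  have c2 := card_le_of_le (show Pw D w x y ≤ zpowers w from fun p hp =>
    (T.main.2.1 p hp).elim (fun e => e ▸ one_mem _) fun e => e ▸ mem_zpowers _)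
  rw [T.hw.1.card_zpowers, ← T'.hw.1.card_zpowers] at c2
  exact ⟨b, hb, (T'.hw.1.mem_zpowers ((eq_of_le_card (zpowers_le.mpr T'.w_mem_P) (c1.trans c2)).ge
    ⟨⟨T.inv_C h2 hv.1, T.cen_wb hv hb hz e1 e⟩, e⟩)).resolve_left v1⟩

theorem X_le_X1 : Xm D w x ≤ X1 D w x := le_inf inf_le_left T.X_nor1

theorem E_le_X : Ew w x y ≤ Xm D w x := fun _ hg => T.cen_le_X ⟨hg.1.1, hg.2⟩

theorem X1_y : X1 D w x ⊓ St G y = Ew w x y := le_antisymm
  (fun g hg => ⟨⟨hg.1.1, hg.2⟩, by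
    simpa using T.cen_wb hg.1 (one_mem _) T.s.ne.symm (by simpa using T.wy) hg.2⟩)
  fun _ hg => ⟨T.X_le_X1 (T.E_le_X hg), hg.1.2⟩

theorem A_le_X : Ax D x ≤ Xm D w x := (T.A_le_T0.trans T.T0_le_T1).trans T.T1_le_X

theorem card_X1 : Nat.card (X1 D w x) = Nat.card (Ax D x) ^ 3 * Nat.card (Ew w x y) := by
  rw [← T.X1_y, ← T.card_compl']
  refine card_of_trans (fun g hg => smul_mem_compl g hg.1 y T.s.ne.symm) fun z hz => ?_
  obtain ⟨b, hb, e⟩ := T.exists_b hz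
  obtain ⟨g, hg, e1⟩ := T.conj_X1 hb
  obtain ⟨c, hc, e2⟩ := T.tr' (z := g⁻¹ • z) (by
    have := conj_smul (g := g⁻¹) e
    rwa [← e1, show g⁻¹ * (g * w * g⁻¹) * g⁻¹⁻¹ = w by group] at this)
    (T.s.smul_ne (inv_fix hg.1) hz)
  exact ⟨g * c, mul_mem hg (T.X_le_X1 (T.A_le_X hc)), by rw [mul_smul, e2, smul_inv_smul]⟩

theorem mem_comm : w ∈ ⁅X1 D w x, X1 D w x⁆ := by
  refine mem_comm_of_fusion T.h.perfect ?_ (T.X_le_X1 (T.T1_le_X (T.T0_le_T1 T.w_mem_P.1))) T.w2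
    fun g hg => ?_
  · rw [← relIndex_mul_index inf_le_left, T.h.index_St, relIndex_eq_of_card inf_le_left
      (n := (Ew w x y).relIndex (St G x ⊓ St G y)) (by
        rw [T.card_St, T.card_compl', T.card_X1,
          card_eq_relIndex (inf_le_left (a := St G x ⊓ St G y) (b := Cen1 w))]; ring)]
    exact T.odd_E.mul T.h.odd_card
  have hv := T.hw.conj g⁻¹
  rw [inv_inv] at hv
  obtain ⟨b, hb, e⟩ := T.inv_X1 hg hv.1.2 fun e => T.h.not_mem_W hv (T.f.mem_D e hv.1.1)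
  obtain ⟨k, hk, e1⟩ := T.conj_X1 hb
  exact ⟨k⁻¹, inv_mem hk, by rw [inv_inv, e1, e]⟩

theorem X1_norB : X1 D w x ≤ Nor (Bw D w x y t) := fun g hg => H5.mem_normalizer_of_forall fun b hb =>
  (T.T1_or (conj_mem hg.2 (T.B_le hb))).elim id fun ⟨c, hc, e⟩ => T.A_le_B
    (conj_mem (T.h.St_le_nor x hg.1) ((T.B_sq hb).mpr (by
      have := T.wb_sq hc
      rwa [← e, conj_mul, conj_eq_one_iff] at this)))

theorem B_surj {a : G} (ha : a ∈ Ax D x) : ∃ b ∈ Bw D w x y t, b * b = a := by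
  by_cases a1 : a = 1
  · exact ⟨1, one_mem _, by rw [a1, mul_one]⟩
  obtain ⟨b, hb, hA⟩ := exists_not_mem (N := Ax D x) (U := Bw D w x y t) (by
    have := T.q4; rw [T.cB]; nlinarith)
  obtain ⟨k, hk, e⟩ := T.K_tr (T.T1_sq' b (T.B_le hb)) ha (fun e => hA ((T.B_sq hb).mpr e)) a1
  exact ⟨_, conj_mem (T.K_norB hk) hb, by rw [← e]; group⟩

theorem sq_inj {b b' : G} (hb : b ∈ Bw D w x y t) (hb' : b' ∈ Bw D w x y t) (e : b * b = b' * b') :
    b⁻¹ * b' ∈ Ax D x :=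
  sqbij T.A_le_B (fun a ha b hb => (cen_iff.mp (T.B_le hb).1 a ha).symm) T.f.Ax_sq
    (fun _ => T.B_surj) T.cB hb hb' e

theorem K_le_E : Kw D w x y t ≤ Ew w x y := fun _ hk => ⟨⟨T.s.K_x hk, T.s.K_y hk⟩, T.s.K_M hk⟩

theorem E_nor : Ew w x y ≤ Nor (Kw D w x y t) := fun _ hg => T.nor_K hg.1.1 hg.1.2

theorem E_comm : ⁅Ew w x y, Ew w x y⁆ ≤ Kw D w x y t := by
  obtain ⟨s, hs⟩ := T.s.bd.toA1.exists_dist
  have ab := gal_lemma (V := Ew w x y ⊓ Cen1 t) T.s.bd hs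
    (fun g hg => nor_Q0 (T.nor_Q hg.1.1.1 hg.1.1.2)) (inf_le_left.trans T.E_nor)
    (fun g hg => c1_iff.mpr (T.s.bd.dist_cen hs (T.nor_Q hg.1.1.1 hg.1.1.2) (c1_iff.mp hg.2)))
    fun g hg => by
      rcases T.main.2.1 g ⟨⟨by have := hg.2; rwa [T.A_eq'] at this, hg.1.1.2⟩, hg.1.1.1.2⟩ with rfl | rfl
      exacts [one_mem _, cen_iff.mpr fun c hc => (c1_iff.mp hc.1.2).symm]
  refine (comm_le_sup (E := Ew w x y ⊓ Cen1 t) (inf_le_left.trans T.E_nor) fun g hg => ?_).trans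
    (sup_le le_rfl (commutator_le.mpr fun a ha b hb => by
      rw [commutatorElement_eq_one_iff_mul_comm.mpr (ab a ha b hb)]; exact one_mem _))
  obtain ⟨j, hj, e⟩ := T.s.conj_t (T.nor_L hg.1.1 hg.1.2) hg.1.1 hg.1.2
  exact ⟨j, hj, j⁻¹ * g, ⟨(Ew w x y).mul_mem (inv_mem (T.K_le_E hj)) hg,
    conj_eq_iff.mp (by rw [e])⟩, by group⟩

theorem cen_dec {g : G} (hx : g • x = x) (hg : g ∈ Cen1 w) :
    ∃ a ∈ Ax D x, ∃ e ∈ Ew w x y, g = a * e := by
  obtain ⟨a, ha, e⟩ := T.tr' (comm_fix (c1_iff.mp hg) T.wy) (T.s.smul_ne hx T.s.ne.symm)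
  exact ⟨a, ha, a⁻¹ * g, ⟨⟨(St G x).mul_mem (inv_mem (Ax_le x ha)) hx, show _ • y = y by
    rw [mul_smul, ← e, inv_smul_smul]⟩, (Cen1 w).mul_mem (inv_mem (T.A_cen ha)) hg⟩, by group⟩

theorem X_dec {g : G} (hg : g ∈ Xm D w x) : ∃ c ∈ T1 D w x, ∃ e ∈ Ew w x y, g = c * e := by
  obtain ⟨c, hc, e⟩ := T.T1_cases.resolve_left T.main.1 _ hg.2.2
  obtain ⟨a, ha, k, hk, e1⟩ := T.cen_dec (g := c⁻¹ * g)
    ((St G x).mul_mem ((St G x).inv_mem (T.T1_le_X hc).1) hg.1) (conj_eq_iff.mp (by rw [e]; group))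
  exact ⟨c * a, mul_mem hc (T.T0_le_T1 (T.A_le_T0 ha)), k, hk, by rw [mul_assoc, ← e1]; group⟩

theorem delta {g : G} (hg : g ∈ X1 D w x) : w⁻¹ * (g * w * g⁻¹) ∈ Bw D w x y t := by
  obtain ⟨b, hb, e⟩ := T.conj_wb hg (one_mem _)
  rw [mul_one] at e
  rwa [e, inv_mul_cancel_left]

theorem not_alpha : X1 D w x ⊓ Cz D x ≤ T1 D w x := by
  by_contra h0
  obtain ⟨c0, m1, m2⟩ := SetLike.not_le_iff_exists.mp h0
  set C := X1 D w x ⊓ Cz D x with hC
  have nC : X1 D w x ≤ Nor C := fun g hg => mem_nor_inf (le_normalizer hg) (T.h.nor_C0 x hg.1)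
  have EX := T.E_le_X.trans T.X_le_X1
  have KX := T.K_le_E.trans EX
  have TC : T1 D w x ≤ C := le_inf (T.T1_le_X.trans T.X_le_X1) inf_le_left
  have cm : ∀ c ∈ C, ∀ b ∈ Bw D w x y t, b⁻¹ * (c * b * c⁻¹) ∈ Ax D x := fun c hc b hb =>
    T.sq_inj hb (conj_mem (T.X1_norB hc.1) hb) (by
      rw [conj_mul, cen_iff.mp hc.2 _ (T.T1_sq' b (T.B_le hb)), mul_inv_cancel_right])
  have sq1 : ∀ c ∈ C, c * c ∈ T1 D w x := fun c hc =>
    ⟨mul_mem hc.2 hc.2, cen_le_nor _ (mul_mem hc.2 hc.2), H5.mem_of_eq (mul_mem (T.T1_sq' _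
      (T.B_le (T.delta hc.1))) (cm c hc _ (T.delta hc.1))) (by group)⟩
  have sq2 : ∀ c ∈ C, c * c ∈ Bw D w x y t := fun c hc =>
    (T.T1_or (sq1 c hc)).elim id fun ⟨b, hb, e⟩ => by
      rw [T.T0_el (T.wb_W hb) (T.wb_x hb) c ⟨hc.2, c1_iff.mpr (by rw [← e, mul_assoc])⟩]
      exact one_mem _
  have C2 : IsPGroup 2 C := isPGroup_iff_forall.mpr fun g hg =>
    let ⟨k, hk⟩ := exists_pow_pow_of_mem T.T1_two (sq1 g hg)
    ⟨k + 1, by rw [pow_succ', pow_mul, sq, hk]⟩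
  have nM : Ew w x y ≤ Nor ⁅C, Kw D w x y t⁆ := H5.le_normalizer_commutator (EX.trans nC) T.E_nor
  have dec : ∀ g ∈ X1 D w x, ∃ c ∈ C, ∃ e ∈ Ew w x y, g = c * e := fun g hg => by
    obtain ⟨c, hc, e⟩ : ∃ c ∈ C, c⁻¹ * g ∈ Xm D w x := by
      by_cases h1 : w⁻¹ * (g * w * g⁻¹) ∈ Ax D x
      · exact ⟨1, one_mem _, by simpa using (⟨hg.1, T.h.St_le_nor x hg.1, h1⟩ : g ∈ Xm D w x)⟩
      obtain ⟨k, hk, e⟩ := T.K_trB (T.delta m1.1) (fun e => m2 ⟨m1.2, cen_le_nor _ m1.2, e⟩)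
        (T.delta hg) h1
      have m3 := conj_mem (nC (KX hk)) m1
      have m4 := (St G x).mul_mem ((St G x).inv_mem m3.1.1) hg.1
      refine ⟨_, m3, m4, T.h.St_le_nor x m4, H5.mem_of_eq
        (conj_mem (cen_le_nor _ (inv_mem m3.2)) e) ?_⟩
      calc _ = (k * w * k⁻¹)⁻¹ * (k * c0 * k⁻¹)⁻¹ * (k * w * k⁻¹ * w⁻¹) * (g * w * g⁻¹) *
            (k * c0 * k⁻¹) := by group
        _ = _ := by rw [T.K_w hk, mul_inv_cancel_right, mul_inv_cancel]; group
    obtain ⟨c', hc', k, hk, e1⟩ := T.X_dec e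
    exact ⟨c * c', mul_mem hc (TC hc'), k, hk, by rw [mul_assoc, ← e1]; group⟩
  have k1 := comm_le_sup (H := X1 D w x) nM fun g hg => by
    obtain ⟨c, hc, e, he, rfl⟩ := dec g hg
    obtain ⟨p, hp, m, hm, rfl⟩ := H5.exists_centralizer_mul_commutator (KX.trans nC) (T.cop C2)
      (Or.inl (odd_solvable T.s.K_odd)) hc
    have pE := T.X1_y.le ⟨hp.1.1, T.cen_K_fix hp.1.1.1 hp.2⟩
    exact ⟨_, conj_mem (nM pE) hm, p * e, mul_mem pE he, by group⟩
  have k2 := mem_of_sup_odd T.s.K_odd (T.K_le_E.trans nM) ((k1.trans (sup_le_sup_left T.E_comm _))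
    T.mem_comm) (k := 1) (by rw [pow_one, sq, T.w2]; exact one_mem _)
  exact T.hw.1.1 (T.B_P (commutator_inf_centralizer_le (KX.trans nC) (T.cop C2)
    (inf_le_left.trans T.X1_norB) T.K_norB (comm_le_of_sq sq2)
      ⟨k2, cen_iff.mpr fun k hk => (T.K_w hk).symm⟩) T.w_mem_P)

theorem false : False := by
  obtain ⟨n, hn⟩ := IsPGroup.iff_card.mp (T.f.Ax_two x)
  have wX := T.X_le_X1 (T.T1_le_X (T.T0_le_T1 T.w_mem_P.1))
  rcases Nat.even_or_odd n with he | ho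
  swap
  · exact det_lemma (fun _ => T.B_sq) T.A_le_B (fun _ => T.B_surj)
      (fun b hb => T.T1_sq' b (T.B_le hb)) hn T.cB ho T.X1_norB wX (fun _ => T.w_inv) T.mem_comm
  obtain ⟨Γ, _, _, f, hf, hk⟩ := H5.exists_hom_ker_eq (L := X1 D w x) inf_le_right
  have TX := T.T1_le_X.trans T.X_le_X1
  have EX := T.E_le_X.trans T.X_le_X1
  have KX := T.K_le_E.trans EX
  set Y := H5.im f (Xm D w x) with hY
  have YE : Y = H5.im f (Ew w x y) := le_antisymm (by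
    rintro _ ⟨g, hg, rfl⟩
    obtain ⟨c, hc, e, he, e1⟩ := T.X_dec hg
    rw [show g = ⟨c, TX hc⟩ * ⟨e, EX he⟩ from Subtype.ext e1, map_mul,
      (H5.map_eq_one_iff_of_ker hk).mpr hc, one_mul]
    exact H5.mem_im_of_mem _ he) (H5.im_mono T.E_le_X)
  have mY : ∀ g : X1 D w x, f g ∈ Y → (g : G) ∈ Xm D w x := fun g hg =>
    (H5.pre_im_of_le hk T.T1_le_X T.X_le_X1).le (H5.mem_pre.mpr ⟨g.2, hg⟩)
  have KT : Kw D w x y t ⊓ T1 D w x = ⊥ :=
    eq_bot_iff.mpr (T.K_inf ▸ inf_le_inf_left _ inf_le_left)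
  have cK := H5.card_im_of_disjoint hk KX KT
  have cY : Nat.card (Γ ⧸ Y) = Nat.card (Ax D x) := by
    have e1 := H5.card_eq_card_im_mul hk le_rfl
    have e2 := H5.card_eq_card_im_mul hk T.X_le_X1
    rw [H5.im_self hf, inf_eq_right.mpr TX, T.card_X1, card_top,
      card_eq_card_quotient_mul_card_subgroup Y, mul_assoc] at e1
    rw [inf_eq_right.mpr T.T1_le_X, T.card_X, T.not_sz] at e2
    rw [← e2] at e1
    exact Nat.eq_of_mul_eq_mul_right (Nat.mul_pos Nat.card_pos (Nat.mul_pos Nat.card_pos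
      Nat.card_pos)) (e1.symm.trans (by ring))
  have hS : St Γ ((1 : Γ) : Γ ⧸ Y) = Y := MulAction.stabilizer_quotient Y
  obtain ⟨m, rfl⟩ := Nat.exists_eq_succ_of_ne_zero (show n ≠ 0 from fun e => by
    have := T.q4; rw [hn, e] at this; omega)
  obtain ⟨k0, hk0, -⟩ := T.s.bd.exists_suz
  refine bs_lemma (x := ((1 : Γ) : Γ ⧸ Y)) (K := H5.im f (Kw D w x y t)) (f := m)
    (fun z => MulAction.exists_smul_eq Γ _ z) (cY.trans hn) ?_ (hS.symm ▸ H5.im_mono T.K_le_X)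
    (by rw [hS, YE]; exact H5.im_le_normalizer T.E_nor)
    (by rw [hS, YE, ← H5.im_commutator EX EX]; exact H5.im_mono T.E_comm) ?_
    (by rw [Kw, ← hk0, H5.im_zpowers (KX (hk0.le (mem_zpowers k0)))]; infer_instance) ?_ ?_
    (by rw [cK, cY, T.card_K])
  · have O2 := isPGroup_pCoreIn 2 (X1 D w x)
    have nA : pCoreIn 2 (X1 D w x) ≤ Nor (Ax D x) :=
      (pCoreIn_le _ _).trans (inf_le_left.trans (T.h.St_le_nor x))
    obtain ⟨a, ha, a1, -, e⟩ := H7.exists_fixed_order_p (T.f.Ax_two x) O2 nA fun e => by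
      have := T.q4; rw [e, card_bot] at this; omega
    have h1 : pCoreIn 2 (X1 D w x) ≤ T1 D w x := fun g hg => T.not_alpha ⟨pCoreIn_le _ _ hg,
      cen_iff.mpr fun b hb => by
        by_cases b1 : b = 1
        · rw [b1, one_mul, mul_one]
        obtain ⟨k, hk, rfl⟩ := T.K_tr ha hb a1 b1
        have := e _ (mem_sup_right (conj_mem (le_normalizer_pCoreIn 2 _ (inv_mem (KX hk))) hg))
        calc g * (k * a * k⁻¹) = k * (k⁻¹ * g * k⁻¹⁻¹ * a) * k⁻¹ := by group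
          _ = _ := by rw [this]; group⟩
    rw [← pCoreIn_top, ← H5.im_self hf, ← H5.im_pre hf (pCoreIn 2 _),
      H5.pre_pCoreIn hk T.T1_two TX le_rfl, H5.im_eq_bot_iff hk (pCoreIn_le _ _)]
    exact h1
  · rw [hS, YE]
    rintro _ ⟨⟨e, he, rfl⟩, hc⟩
    obtain ⟨k, m1, m2⟩ := cen_le_of_tr T.K_ab (fun _ ha _ hb => T.K_tr ha hb)
      (T.h.St_le_nor x he.1.1) (cen_iff.mpr fun k hk' => commutatorElement_eq_one_iff_mul_comm.mp
        (mem_bot.mp (KT.le ⟨(Kw D w x y t).mul_mem (conj_mem (T.E_nor he) hk') (inv_mem hk'),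
          (H5.map_eq_one_iff_of_ker hk (x := ⁅e, ⟨k, KX hk'⟩⁆)).mp (by
            rw [map_commutatorElement, commutatorElement_eq_one_iff_mul_comm]
            exact cen_iff.mp hc _ (H5.mem_im_of_mem _ hk'))⟩)))
    have := (H5.map_eq_one_iff_of_ker hk (x := ⟨k, KX m1⟩⁻¹ * e)).mpr
      (T.not_alpha ⟨(X1 D w x).mul_mem (inv_mem (KX m1)) e.2, m2⟩)
    rw [map_mul, map_inv, inv_mul_eq_one] at this
    exact this ▸ H5.mem_im_of_mem _ m1
  · obtain ⟨j, hj⟩ := he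
    have e1 := T.card_K
    have e2 : 2 ^ (m + 1) % 3 = 1 := by
      rw [show m + 1 = 2 * j by omega, pow_mul, Nat.pow_mod]; simp
    rw [cK]; rw [hn] at e1
    simp only [Nat.succ_eq_add_one] at e1
    omega
  · rintro _ ⟨k, hk', rfl⟩ z hz e
    replace hk' : (k : G) ∈ Kw D w x y t := hk'
    obtain ⟨γ, rfl⟩ := QuotientGroup.mk_surjective z
    obtain ⟨g, rfl⟩ := hf γ
    rw [MulAction.Quotient.smul_coe, QuotientGroup.eq, smul_eq_mul, ← map_mul, ← map_inv,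
      ← map_mul] at e
    have e1 := (mY _ e).2.2
    have b1 := T.delta g.2
    have bA : w⁻¹ * (g * w * (g : G)⁻¹) ∉ Ax D x := fun e => hz (QuotientGroup.eq.mpr (by
      rw [mul_one, ← map_inv]
      exact H5.mem_im_of_mem _ (inv_mem (⟨g.2.1, T.h.St_le_nor x g.2.1, e⟩ : (g : G) ∈ Xm D w x))))
    have e2 := conj_mem (T.h.St_le_nor x (mul_mem (T.s.K_x hk') g.2.1)) e1
    have kb := conj_mem (T.K_norB hk') b1
    generalize hb : w⁻¹ * (g * w * (g : G)⁻¹) = b at b1 bA kb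
    have e3 : (k * b * (k : G)⁻¹)⁻¹ * b ∈ Ax D x := H5.mem_of_eq e2 (by
      rw [← hb]
      calc _ = (k * (g * w * (g : G)⁻¹) * (k : G)⁻¹)⁻¹ * (k * w * (k : G)⁻¹ * w⁻¹) *
            (g * w * (g : G)⁻¹) := by
            rw [T.K_w hk', mul_inv_cancel_right, mul_inv_cancel]
            simp only [coe_mul, coe_inv]; group
        _ = _ := by group)
    have e4 := T.f.Ax_sq _ e3
    have e5 := cen_iff.mp (T.B_le kb).1 _ e3
    have e6 : (k : G) * (b * b) = b * b * k := by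
      generalize ha : (k * b * (k : G)⁻¹)⁻¹ * b = a at e4 e5
      have e7 : b = k * b * (k : G)⁻¹ * a := by rw [← ha]; group
      refine mul_inv_eq_iff_eq_mul.mp ?_
      calc _ = k * b * (k : G)⁻¹ * (k * b * (k : G)⁻¹) * (a * a) := by rw [e4]; group
        _ = k * b * (k : G)⁻¹ * (k * b * (k : G)⁻¹ * a) * a := by group
        _ = k * b * (k : G)⁻¹ * (a * (k * b * (k : G)⁻¹)) * a := by rw [← e5]
        _ = k * b * (k : G)⁻¹ * a * (k * b * (k : G)⁻¹ * a) := by group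
        _ = _ := by rw [← e7]
    rw [show k = 1 from Subtype.ext (T.K_fpf (T.T1_sq' b (T.B_le b1))
      (fun e => bA ((T.B_sq b1).mpr e)) hk' e6), map_one]

end Tz

theorem Mc.pure (h : Mc D Ω) : Pure D ⊤ := fun r _ hr => by
  by_contra hD
  obtain ⟨v, hv⟩ := h.exists_W hr hD
  obtain ⟨h1, h2⟩ := h.star_rk hv
  obtain ⟨w, x, y, t, R, T⟩ := Sc.exists_tz ⟨h, h1, h2⟩ hv
  exact T.false

end SF
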