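import Cfsg.Agent.SF.N

/-! The product closed involution theorem. -/

set_option autoImplicit false
set_option linter.unusedSectionVars false

namespace SF

open Cfsg Subgroup FT H4 BS
open scoped commutatorElement

universe u v

variable {G : Type u} [Group G] [Finite G] {Ω : Type v} [MulAction G Ω] [Finite Ω] {D : Set G}

structure Pre (D : Set G) (Ω : Type*) [MulAction G Ω] : Prop extends PD D Ω where
  gen : closure D = ⊤
  all : ∀ x : Ω, x ∈ Pt D Ω ⊤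
  rk : RkD D ⊤
  two : ∀ x : Ω, ∃ y : Ω, y ≠ x

namespace Pre
variable (h : Pre D Ω)
include h

theorem ex_pt : Nonempty Ω :=
  let ⟨_, ha, _⟩ := h.rk
  let ⟨x, _⟩ := h.ex ha
  ⟨x⟩

theorem perfect : commutator G = ⊤ := by
  obtain ⟨x⟩ := h.ex_pt
  obtain ⟨y, hy⟩ := h.two x
  obtain ⟨a, ha, b, hb, -, -, hne, hc⟩ := h.rk
  rw [eq_top_iff, ← h.gen, closure_le]
  intro d hd
  obtain ⟨g, -, rfl⟩ := h.conj_D (h.all y) (h.all x) hy (mem_top _) (h.mul a ha b hb hne hc)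
    (mem_top d) hd
  obtain ⟨k, -, rfl⟩ := h.conj_D (h.all y) (h.all x) hy (mem_top a) ha (mem_top b) hb
  refine Normal.conj_mem inferInstance _ (H5.mem_of_eq (commutator_mem_commutator (mem_top a)
    (mem_top k)) ?_) g
  rw [commutatorElement_def, h.inv_eq ha]; group

theorem lr (x : Ω) : Lr D ⊤ x :=
  let ⟨y, hy⟩ := h.two x
  ⟨h.rk, h.all x, h.not_le_of_ne (h.all y) hy⟩

theorem LL_top : LL D ⊤ = ⊤ := by
  rw [← h.gen, LL]; congr 1; ext a; simp [h.gen]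

variable {N : Subgroup G} (hN : ∀ g ∈ N, ∀ x : Ω, g • x = x)
include hN

theorem not_mem {a : G} (ha : a ∈ D) : a ∉ N := fun e =>
  let ⟨x⟩ := h.ex_pt
  let ⟨y, hy⟩ := h.two x
  hy (h.uniq ha (hN a e y) (hN a e x))

theorem pow_odd {a b : G} (ha : a ∈ D) (hb : b ∈ D) (h1 : a * b * (a * b) ∈ N) (h2 : a * b ∉ N) :
    ∃ m, (a * b) ^ (2 * m + 1) ∈ D := by
  obtain ⟨n, hn, -⟩ := h.exists_pow_mem ha hb fun e => h2 (mem_of_sq_mem e h1)
  rcases Nat.even_or_odd' n with ⟨m, rfl | rfl⟩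
  · exact (h.not_mem hN hn (by rw [pow_mul, sq]; exact pow_mem h1 m)).elim
  · exact ⟨m, hn⟩

theorem quot [N.Normal] : ∃ _ : MulAction (G ⧸ N) Ω, (∀ (g : G) (x : Ω), (g : G ⧸ N) • x = g • x) ∧
    Pre ((QuotientGroup.mk : G → G ⧸ N) '' D) Ω := by
  letI : MulAction (G ⧸ N) Ω := MulAction.compHom Ω (QuotientGroup.lift N (MulAction.toPermHom G Ω)
    fun g hg => Equiv.ext (hN g hg))
  have e : ∀ (g : G) (x : Ω), (g : G ⧸ N) • x = g • x := fun _ _ => rfl
  have ne : ∀ a ∈ D, ∀ b ∈ D, (a : G ⧸ N) = b ↔ a * b ∈ N := fun a ha b _ => by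
    rw [QuotientGroup.eq, h.inv_eq ha]
  refine ⟨_, e, ⟨?_, ?_, ?_, ?_⟩, ?_, fun x => ?_, ?_, h.two⟩
  · rintro _ ⟨a, ha, rfl⟩
    exact ⟨fun e => h.not_mem hN ha ((QuotientGroup.eq_one_iff a).mp e), by
      rw [← QuotientGroup.mk_mul, h.sq ha, QuotientGroup.mk_one]⟩
  · rintro _ ⟨a, ha, rfl⟩ g
    obtain ⟨g, rfl⟩ := QuotientGroup.mk_surjective g
    exact ⟨_, h.conj a ha g, rfl⟩
  · rintro _ ⟨a, ha, rfl⟩
    exact h.one a ha
  · rintro _ ⟨a, ha, rfl⟩ _ ⟨b, hb, rfl⟩ h1 h2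
    have h3 : a * b * (a * b) ∈ N := by
      rw [← comm_eq_sq (h.sq ha) (h.sq hb), ← QuotientGroup.eq_one_iff]
      exact commutatorElement_eq_one_iff_mul_comm.mpr h2
    obtain ⟨m, hm⟩ := h.pow_odd hN ha hb h3 fun e => h1 ((ne a ha b hb).mpr e)
    refine ⟨_, hm, ?_⟩
    rw [pow_succ, pow_mul, sq, QuotientGroup.mk_mul, (QuotientGroup.eq_one_iff _).mpr (pow_mem h3 m),
      one_mul, QuotientGroup.mk_mul]
  · have := MonoidHom.map_closure (QuotientGroup.mk' N) D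
    rw [h.gen, map_top_of_surjective _ (QuotientGroup.mk'_surjective N)] at this
    exact this.symm
  · obtain ⟨a, ha, -, hx⟩ := h.all x
    exact ⟨a, ⟨a, ha, rfl⟩, trivial, hx⟩
  · obtain ⟨a, ha, b, hb, -, -, h1, h2⟩ := h.rk
    exact ⟨a, ⟨a, ha, rfl⟩, b, ⟨b, hb, rfl⟩, trivial, trivial,
      fun e => h.not_mem hN (h.mul a ha b hb h1 h2) ((ne a ha b hb).mp e), by
        rw [← QuotientGroup.mk_mul, h2, QuotientGroup.mk_mul]⟩

theorem central (hn : Nor N = ⊤) (h0 : Od (⊤ : Subgroup G) = ⊥) : N ≤ Cen (⊤ : Subgroup G) := by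
  rw [le_centralizer_iff, ← h.gen, closure_le]
  intro a ha
  have n1 : a ∈ Nor N := hn ▸ mem_top a
  have n2 : a * a ∈ N := h.sq ha ▸ one_mem _
  have h1 := h.rank_one (M := N ⊔ zpowers a) (by
    rintro ⟨b, hb, c, hc, m1, m2, m3, m4⟩
    have k : ∀ b ∈ D, b ∈ N ⊔ zpowers a → b * a ∈ N := fun b hb m =>
      ((mem_sup_zp n1 n2).mp m).resolve_left (h.not_mem hN hb)
    refine h.not_mem hN (h.mul b hb c hc m3 m4) (H5.mem_of_eq (mul_mem (k b hb m1)
      (inv_mem (k c hc m2))) ?_)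
    rw [mul_inv_rev, h.inv_eq hc]; group) (mem_sup_right (mem_zpowers a)) ha
  have h2 : Od (N ⊔ zpowers a) ≤ N := fun g hg => mem_of_sq_mem (odd_orderOf_of_mem (odd_Od _) hg) (by
    rcases (mem_sup_zp n1 n2).mp (piCoreOf_le _ _ hg) with e | e
    · exact mul_mem e e
    · refine H5.mem_of_eq (mul_mem e (conj_mem n1 e)) ?_
      calc _ = g * (a * a) * g := by group
        _ = _ := by rw [h.sq ha, mul_one])
  have h3 := (le_Od h2 (le_sup_left.trans (le_nor_piCoreOf _ _)) (odd_Od _)).trans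
    ((Od_le_Od le_top hn.ge).trans h0.le)
  exact cen_iff.mpr fun g hg => (commutatorElement_eq_one_iff_mul_comm.mp (mem_bot.mp (h3 (h1
    (commutator_mem_commutator (mem_sup_left hg) (mem_zpowers a)))))).symm

end Pre

theorem card_quot_lt {N : Subgroup G} [N.Normal] (h : N ≠ ⊥) : Nat.card (G ⧸ N) < Nat.card G := by
  rw [card_eq_card_quotient_mul_card_subgroup N]
  exact lt_mul_of_one_lt_right Nat.card_pos ((one_lt_card_iff_ne_bot N).mpr h)

/-- there is no central involution -/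
theorem Pre.no_central (h : Pre D Ω) {z : G} (hz : Inv z) (hc : ∀ g, g * z = z * g)
    (hx : ∀ x : Ω, z • x = x) [(zpowers z).Normal] [MulAction (G ⧸ zpowers z) Ω]
    (e : ∀ (g : G) (x : Ω), (g : G ⧸ zpowers z) • x = g • x)
    (h' : Pre ((QuotientGroup.mk : G → G ⧸ zpowers z) '' D) Ω)
    (hp : Pure ((QuotientGroup.mk : G → G ⧸ zpowers z) '' D) ⊤)
    (hK : ∀ g : G, (∀ x : Ω, g • x = x) → g ∈ Cen (⊤ : Subgroup G)) : False := by
  have hN : ∀ g ∈ zpowers z, ∀ x : Ω, g • x = x := fun g hg x =>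
    zpowers_le.mpr (show z ∈ St G x from hx x) hg
  obtain ⟨x⟩ := h.ex_pt
  obtain ⟨y, hy⟩ := h.two x
  set f := QuotientGroup.mk' (zpowers z) with hf
  have sj : Function.Surjective f := QuotientGroup.mk'_surjective _
  have sr : ∀ x y : Ω, y ≠ x → ∃ t, Sr (QuotientGroup.mk '' D) ⊤ x y t := fun x y hy => by
    obtain ⟨t, -, m1, m2⟩ := h'.Pt_swap (h'.all x) (h'.all y) hy.symm
    refine ⟨t, h'.sr_of (h'.LL_top.symm ▸ hp) (h'.lr x) (fun g hg => ?_) m1 trivial m2 hy.symm⟩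
    obtain ⟨g, rfl⟩ := sj g
    refine cen_iff.mpr fun k _ => ?_
    obtain ⟨k, rfl⟩ := sj k
    rw [← map_mul, ← map_mul, cen_iff.mp (hK g fun x => (e g x).symm.trans
      (h'.Od_le_St h'.rk.LL (Pt_LL' (h'.all x)) hg)) k trivial]
  have fe : ∀ a b : G, f a = f b → b = a ∨ b = a * z := fun a b e =>
    (hz.mem_zpowers (QuotientGroup.eq.mp e)).imp (fun e => (inv_mul_eq_one.mp e).symm)
      inv_mul_eq_iff_eq_mul.mp
  have fz : f z = 1 := (QuotientGroup.eq_one_iff z).mpr (mem_zpowers z)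
  have sz : ∀ c, c * z * (c * z) = c * c := fun c => by
    rw [mul_assoc, ← mul_assoc z, ← hc, mul_assoc, hz.2, mul_one]
  have fam : Fam D Ω := ⟨h.toPD, fun a ha b hb x ax bx => by
    obtain ⟨y, hy⟩ := h.two x
    obtain ⟨t, s⟩ := sr x y hy
    have h3 : a * b * (a * b) ∈ zpowers z := by
      rw [← comm_eq_sq (h.sq ha) (h.sq hb), ← QuotientGroup.eq_one_iff]
      exact commutatorElement_eq_one_iff_mul_comm.mpr (s.A_comm
        (s.mem_A_of ⟨a, ha, rfl⟩ ((e a x).trans ax) trivial)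
        (s.mem_A_of ⟨b, hb, rfl⟩ ((e b x).trans bx) trivial))
    rw [← commutatorElement_eq_one_iff_mul_comm, comm_eq_sq (h.sq ha) (h.sq hb)]
    have k : ∀ c ∈ zpowers z, c * c = 1 := fun c hc => by
      rcases hz.mem_zpowers hc with rfl | rfl
      exacts [mul_one _, hz.2]
    by_cases h2 : a * b ∈ zpowers z
    · exact k _ h2
    obtain ⟨m, hm⟩ := h.pow_odd hN ha hb h3 h2
    exact mem_bot.mp (mem_of_pow_odd (n := 2 * m + 1) (k := 1) ⟨m, rfl⟩ (by
      rw [← sq, ← pow_mul, mul_comm 2, pow_mul, sq]; exact h.sq hm) (by rw [pow_one, sq]; exact k _ h3))⟩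
  obtain ⟨t, s⟩ := sr x y hy
  set Q := Qx (QuotientGroup.mk '' D) (⊤ : Subgroup (G ⧸ zpowers z)) x with hQ
  have b := s.bd
  have mN : ∀ g ∈ (Q0 Q).comap f, g ∈ Ax D x ∨ g * z ∈ Ax D x := fun g hg => by
    obtain ⟨a, ha, e1⟩ : ∃ a ∈ Ax D x, f a = f g := by
      rcases s.mem_A.mp hg with e1 | ⟨⟨⟨a, ha, e1⟩, e2⟩, -⟩
      · exact ⟨1, one_mem _, by rw [map_one, e1]⟩
      · exact ⟨a, mem_Ax_of ha (by rwa [← e, e1]), e1⟩
    rcases fe a g e1 with rfl | rfl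
    exacts [Or.inl ha, Or.inr (by rwa [mul_assoc, hz.2, mul_one])]
  have s0 : ∀ g ∈ (Q0 Q).comap f, g * g = 1 := fun g hg =>
    (mN g hg).elim (fam.Ax_sq g) fun e => (sz g).symm.trans (fam.Ax_sq _ e)
  have nA : ∀ g, f g ∈ St (G ⧸ zpowers z) x → g ∈ Nor (Ax D x) := fun g hg =>
    h.St_le_nor x ((e g x).symm.trans hg)
  have sq1 : ∀ c ∈ Q.comap f, c * c ∈ Ax D x := fun c hc' => by
    by_cases c0 : f c ∈ Q0 Q
    · rw [s0 c c0]; exact one_mem _
    obtain ⟨a, ha⟩ := b.toA1.exists_dist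
    have hna : ¬ Ab Q := by
      rcases b.tri ha with e | e | e
      exacts [(c0 (e.1.ge hc')).elim, e.2.1, e.2.1]
    obtain ⟨U, u1, u2, u3, u4, u5⟩ := b.exists_const hna (fun γ => ∀ c, f c = γ → c * c ∈ Ax D x)
      (fun γ _ g hg hP c e1 => by
        obtain ⟨g, rfl⟩ := sj g
        refine H5.mem_of_eq (conj_mem (nA g hg.2.1) (hP (g⁻¹ * c * g) ?_)) (by group)
        rw [map_mul, map_mul, e1, map_inv]; group)
      (fun γ hγ a ha hP c e1 => by
        obtain ⟨a, rfl⟩ := sj a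
        obtain ⟨a', m1, m2⟩ : ∃ a' ∈ Ax D x, f a' = f a :=
          (mN a ha).elim (fun e => ⟨a, e, rfl⟩) fun e => ⟨_, e, by rw [map_mul, fz, mul_one]⟩
        have m3 := nA c (e1 ▸ Qx_le_St _ x (mul_mem hγ (Az_le _ x ha)))
        exact H5.mem_of_eq (mul_mem (mul_mem (hP (c * a'⁻¹) (by
          rw [map_mul, map_inv, e1, m2, mul_inv_cancel_right])) m1) (conj_mem (inv_mem m3) m1))
            (by group)) hc'
    obtain ⟨c', m1, m2, m3⟩ := q8_lemma (A := Ax D x) (N := (Q0 Q).comap f) (U := U.comap f) (z := z)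
      (fun g hg => nA g (Qx_le_St _ x (u2 hg))) (fun a ha => by
        rcases fam.mem_Ax.mp ha with rfl | e1
        exacts [one_mem _, s.mem_A_of ⟨a, e1.1, rfl⟩ ((e a x).trans e1.2) trivial])
      ((comap_mono (u2.trans (s.Q_cen.trans (cen_le_nor _)))).trans (le_normalizer_comap f))
      (fun g _ => (hc g).symm) hz.2 mN (fun g hg => by
        rw [mem_comap, map_mul]; exact b.sq_mem hna _ (u2 hg)) (by
        have k : ∀ Y : Subgroup (G ⧸ zpowers z), Nat.card (Y.comap f) = Nat.card Y * 2 := fun Y => by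
          have e1 := Y.card_mul_index
          have e2 := (Y.comap f).card_mul_index
          rw [index_comap_of_surjective _ sj, card_eq_card_quotient_mul_card_subgroup (zpowers z),
            hz.card_zpowers, ← e1, mul_right_comm] at e2
          exact Nat.eq_of_mul_eq_mul_right (Nat.pos_of_ne_zero index_ne_zero_of_finite) e2
        rw [k, k, ← mul_assoc]; exact Nat.mul_le_mul_right 2 u4)
    refine u5 _ m1 m2 _ u3 c0 (fun d e1 => ?_) c rfl
    rcases fe c' d e1.symm with rfl | rfl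
    exacts [m3, by rwa [sz]]
  refine h.not_mem hN (fam.mem_D (comm_le_of_sq sq1 (mem_comm_of_fusion h.perfect ?_
    (by rw [mem_comap, fz]; exact one_mem _) hz.2 fun g _ => ⟨1, one_mem _, by
      rw [mul_assoc, ← hc]; group⟩)) hz.1) (mem_zpowers z)
  have e1 := b.toA1.card_L
  have e2 := Q.card_mul_index
  rw [← card_top (G := G ⧸ zpowers z), ← h'.LL_top, e1, mul_left_comm] at e2
  rw [index_comap_of_surjective _ sj, Nat.eq_of_mul_eq_mul_left Nat.card_pos e2]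
  exact b.even.add_one.mul b.odd

/-- the induction hypothesis -/
def IHz (n : ℕ) : Prop :=
  ∀ (X : Type u) [Group X] [Finite X], Nat.card X < n →
    ∀ (Ω : Type v) [MulAction X Ω] [Finite Ω] (D : Set X), Pre D Ω → Pure D ⊤

theorem IHz.sub {n : ℕ} (ih : IHz.{u, v} n) (h : PD D Ω) {M : Subgroup G} {x : Ω} (l : Lr D M x)
    (hn : Nat.card (LL D M) < n) : Pure D (LL D M) := fun r hr hi => by
  refine ih (LL D M) hn (subAct (LL D M) (Pt D Ω M) fun g hg z hz => h.Pt_smul' hz (LL_le M hg))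
    {a | (a : G) ∈ D} ⟨⟨fun a ha => ⟨fun e => (h.inv a ha).1 (congrArg Subtype.val e),
      Subtype.ext (h.sq ha)⟩, fun a ha g => h.conj a ha g, fun a ha => ?_, fun a ha b hb e1 e2 =>
        h.mul a ha b hb (fun e => e1 (Subtype.ext e)) (congrArg Subtype.val e2)⟩, ?_, ?_, ?_, ?_⟩
    ⟨r, hr⟩ trivial ⟨fun e => hi.1 (congrArg Subtype.val e), Subtype.ext hi.2⟩
  · obtain ⟨z, hz⟩ := h.ex ha
    exact ⟨⟨z, a, ha, LL_le M a.2, hz⟩, Subtype.ext hz, fun y hy =>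
      Subtype.ext (h.uniq ha (congrArg Subtype.val hy) hz)⟩
  · exact top_le_iff.mp (closure_closure_coe_preimage.ge.trans (closure_mono fun a ha => ha.1))
  · rintro ⟨z, a, ha, m, hz⟩
    exact ⟨⟨a, mem_LL ha m⟩, ha, trivial, Subtype.ext hz⟩
  · obtain ⟨a, ha, b, hb, m1, m2, e1, e2⟩ := l.rk
    exact ⟨⟨a, mem_LL ha m1⟩, ha, ⟨b, mem_LL hb m2⟩, hb, trivial, trivial,
      fun e => e1 (congrArg Subtype.val e), Subtype.ext e2⟩
  · rintro ⟨z, hz⟩
    have l' := h.lr_at l hz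
    obtain ⟨y, hy, e⟩ := h.exists_ne l'.pt l'.ne
    exact ⟨⟨y, hy⟩, fun e1 => e (congrArg Subtype.val e1)⟩

theorem IHz.step (ih : IHz.{u, v} (Nat.card G)) (h : Pre D Ω) : Pure D ⊤ := by
  set N := (MulAction.toPermHom G Ω).ker with hNd
  have mN : ∀ g, g ∈ N ↔ ∀ x : Ω, g • x = x := fun g => Equiv.ext_iff
  by_cases h0 : N = ⊥
  · exact Mc.pure ⟨h.toPD, h.gen, h.all, h.rk, h.two, fun g hg => mem_bot.mp (h0 ▸ (mN g).mpr hg),
      fun M x hM l => ih.sub h.toPD l ((card_le_of_le (LL_le M)).trans_lt 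
        ((H5.card_lt_of_lt (lt_top_iff_ne_top.mpr hM)).trans_eq card_top))⟩
  by_cases h1 : Od (⊤ : Subgroup G) = ⊥
  · exfalso
    have hc := h.central (fun g => (mN g).mp) (normalizer_eq_top N) h1
    obtain ⟨z, m1, m2, m3⟩ := exists_inv_of_even (Q := N) (Nat.not_odd_iff_even.mp fun e =>
      h0 (eq_bot_iff.mpr (h1 ▸ le_Od le_top (normalizer_eq_top N).ge e)))
    have c1 : ∀ g, g * z = z * g := fun g => (cen_iff.mp (hc m1) g trivial).symm
    have : (zpowers z).Normal := normalizer_eq_top_iff.mp (eq_top_iff.mpr fun g _ => nor_zp (c1 g))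
    obtain ⟨_, e, h'⟩ := h.quot (N := zpowers z) fun g hg => (mN g).mp (zpowers_le.mpr m1 hg)
    exact h.no_central ⟨m2, m3⟩ c1 ((mN z).mp m1) e h'
      (ih _ (card_quot_lt (by rwa [Ne, zpowers_eq_bot])) Ω _ h') fun g hg => hc ((mN g).mpr hg)
  have : (Od (⊤ : Subgroup G)).Normal :=
    normalizer_eq_top_iff.mp (eq_top_iff.mpr (le_nor_piCoreOf _ _))
  obtain ⟨_, e, h'⟩ := h.quot (N := Od ⊤) fun g hg x => h.Od_le_St h.rk (h.all x) hg
  intro r _ hr
  obtain ⟨a, ha, e1⟩ := ih _ (card_quot_lt h1) Ω _ h' r trivial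
    ⟨fun e => hr.not_mem (odd_Od _) ((QuotientGroup.eq_one_iff r).mp e), by
      rw [← QuotientGroup.mk_mul, hr.2, QuotientGroup.mk_one]⟩
  obtain ⟨n, -, -, e2⟩ := BS.exists_swap (h.sq ha) hr.2 (odd_orderOf_of_mem (odd_Od _)
    (hr.inv ▸ QuotientGroup.eq.mp e1.symm))
  exact e2 ▸ h.conj a ha _

theorem ihz (n : ℕ) : IHz.{u, v} n := by
  induction n with
  | zero => exact fun _ _ _ h => absurd h (Nat.not_lt_zero _)
  | succ n ih =>
    exact fun X _ _ h Ω _ _ D hD => IHz.step (fun Y _ _ h' => ih Y (by omega)) hD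

/-- `⟨D ∩ M⟩` has all its involutions in `D` -/
theorem PD.pure (h : PD D Ω) {M : Subgroup G} {x : Ω} (l : Lr D M x) : Pure D (LL D M) :=
  (ihz _).sub h l (Nat.lt_succ_self _)

theorem zdThm : ZDThm.{u} := fun G _ _ Ω _ _ D h h2 ⟨x, y, hne, hx, hy⟩ r hr =>
  h.pure ⟨h2, hx, h.not_le_of_ne hy hne.symm⟩ r
    (Subgroup.closure_mono (k := {a | a ∈ D ∧ a ∈ (⊤ : Subgroup G)}) (fun a ha => ⟨ha, trivial⟩) hr)

end SF
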